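import Cfsg.Agent.Lib.EssentialRankThree.Embedded

/-!
# The two kinds of Sylow subgroups of order `p` in `GL₃(p)` with a strongly `p`-embedded overgroup
-/

set_option autoImplicit false
set_option linter.unusedSectionVars false

namespace Cfsg.Agent.Lib.EssentialRankThree.Embedded

open Cfsg.Agent.Lib.EssentialRankThree.Units

variable {p : ℕ} [Fact p.Prime] {V : Type*} [AddCommGroup V] [Module (ZMod p) V] [Finite V]
  {X P M : Subgroup (GV p V)}

theorem two_ne_zero_of (hp : 3 ≤ p) : (2 : ZMod p) ≠ 0 := by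
  intro h
  have := Nat.le_of_dvd two_pos ((ZMod.natCast_eq_zero_iff 2 p).1 (by exact_mod_cast h))
  omega

/-- An element of `X` with a trivial flag commutator commutes with the Sylow subgroup. -/
theorem commute_of_flag (hp : 3 ≤ p) (h : Emb p X P M) {A B : Submodule (ZMod p) V}
    (hA : ∀ g ∈ X, ∀ a ∈ A, g.1 a ∈ A) (hB : ∀ g ∈ X, ∀ b ∈ B, g.1 b ∈ B) {g : GV p V} (hg : g ∈ X)
    (hf : g ∈ flag hp A B) : g = 1 := by
  have hb := h.eq_bot_of_normal (K := X ⊓ flag hp A B) inf_le_left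
    ((flag_pGroup hp A B).to_le inf_le_right) (fun r hr k hk => ⟨X.mul_mem (X.mul_mem hr hk.1) (X.inv_mem hr),
      conj_mem_flag hp (hA r hr) (mem_of_inv hA hr) (hB r hr) (mem_of_inv hB hr) hk.2⟩)
  exact Subgroup.mem_bot.1 (hb ▸ ⟨hg, hf⟩)

theorem commute_iff_dd {τ u : GV p V} (h : τ * u = u * τ) (v : V) : τ.1 (dd u v) = dd u (τ.1 v) :=
  dd_comm (show Commute τ u from h) v

/-- A single Jordan block forces an irreducible action. -/
theorem irreducible_of_jordan (hp : 3 ≤ p) (hc : Nat.card V = p ^ 3) (h : Emb p X P M) {u : GV p V} (hu : u ∈ P)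
    {a : V} (ha : dd u (dd u a) ≠ 0) (U : Submodule (ZMod p) V) (hU : ∀ g ∈ X, ∀ x ∈ U, g.1 x ∈ U) :
    U = ⊥ ∨ U = ⊤ := by
  obtain ⟨c2, hda⟩ : ∃ c, dd u a = c := ⟨_, rfl⟩
  obtain ⟨c1, hdc2⟩ : ∃ c, dd u c2 = c := ⟨_, rfl⟩
  have h3 := dd_cube_P hc h hu
  have hind : Indep p a c2 c1 := by subst hda hdc2; exact indep_jordan u h3 ha
  have hu1 : u ≠ 1 := fun e => ha (by simp [e, dd])
  have huX := h.leX hu
  rw [hda, hdc2] at ha
  have hdc1 : dd u c1 = 0 := by rw [← hdc2, ← hda]; exact h3 a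
  have huc1 : u.1 c1 = c1 := by rw [apply_eq, hdc1, add_zero]
  set L := Submodule.span (ZMod p) {c1} with hL
  set H := Submodule.span (ZMod p) {c2, c1} with hH
  have hLH : L ≤ H := Submodule.span_mono (by simp)
  have hdH : ∀ v, dd u v ∈ H := fun v => by
    obtain ⟨x, y, w, rfl⟩ := hind.span hc v
    simp only [map_add, map_smul, hda, hdc2, hdc1, smul_zero, add_zero]
    exact Submodule.mem_span_pair.2 ⟨x, y, rfl⟩
  have hdL : ∀ b ∈ H, dd u b ∈ L := fun b hb => by
    obtain ⟨x, y, rfl⟩ := Submodule.mem_span_pair.1 hb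
    simp only [map_add, map_smul, hda, hdc2, hdc1, smul_zero, add_zero]
    exact Submodule.mem_span_singleton.2 ⟨x, rfl⟩
  have hd0 : ∀ b ∈ L, dd u b = 0 := fun b hb => by
    obtain ⟨x, rfl⟩ := Submodule.mem_span_singleton.1 hb
    rw [map_smul, hdc1, smul_zero]
  -- the invariant subspaces of `u`
  rcases eq_or_ne U ⊥ with hbot | hbot
  · exact Or.inl hbot
  refine Or.inr (by_contra fun htop => ?_)
  have hdU : ∀ x ∈ U, dd u x ∈ U := fun x hx => sub_mem (hU u huX x hx) hx
  obtain ⟨x0, hx0, hx00⟩ := Submodule.exists_mem_ne_zero_of_ne_bot hbot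
  have hc1U : c1 ∈ U := by
    obtain ⟨α, β, γ, rfl⟩ := hind.span hc x0
    by_cases hα : α = 0
    · subst hα
      by_cases hβ : β = 0
      · subst hβ
        simp only [zero_smul, zero_add] at hx0 hx00
        exact (U.smul_mem_iff (left_ne_zero_of_smul hx00)).1 hx0
      · have h1 := hdU _ hx0
        simp only [map_add, map_smul, hda, hdc2, hdc1, smul_zero, add_zero, zero_smul, zero_add] at h1
        exact (U.smul_mem_iff hβ).1 h1
    · have h1 := hdU _ (hdU _ hx0)
      simp only [map_add, map_smul, hda, hdc2, hdc1, map_zero, smul_zero, add_zero] at h1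
      exact (U.smul_mem_iff hα).1 h1
  have haU : a ∉ U := fun haU => htop (eq_top_iff.2 fun v _ => by
    obtain ⟨α, β, γ, rfl⟩ := hind.span hc v
    exact add_mem (add_mem (U.smul_mem _ haU) (U.smul_mem _ (hda ▸ hdU _ haU))) (U.smul_mem _ hc1U))
  have hUH : U ≤ H := by
    intro v hv
    obtain ⟨α, β, γ, rfl⟩ := hind.span hc v
    by_cases hα : α = 0
    · subst hα
      exact Submodule.mem_span_pair.2 ⟨β, γ, by simp⟩
    · exfalso
      have h1 := hdU _ hv
      simp only [map_add, map_smul, hda, hdc2, hdc1, smul_zero, add_zero] at h1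
      have h2 : c2 ∈ U := (U.smul_mem_iff hα).1 ((U.add_mem_iff_left (U.smul_mem _ hc1U)).1 h1)
      exact haU ((U.smul_mem_iff hα).1
        ((U.add_mem_iff_left (U.smul_mem β h2)).1 ((U.add_mem_iff_left (U.smul_mem γ hc1U)).1 hv)))
  have hcase : U = L ∨ U = H := by
    have hLU : L ≤ U := (Submodule.span_singleton_le_iff_mem _ _).2 hc1U
    by_cases hUL : U ≤ L
    · exact Or.inl (le_antisymm hUL hLU)
    · refine Or.inr (le_antisymm hUH (Submodule.span_le.2 ?_))
      obtain ⟨v, hv, hvL⟩ := SetLike.not_le_iff_exists.1 hUL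
      obtain ⟨β, γ, rfl⟩ := Submodule.mem_span_pair.1 (hUH hv)
      have hβ : β ≠ 0 := fun e => hvL (Submodule.mem_span_singleton.2 ⟨γ, by simp [e]⟩)
      rintro w (rfl | rfl)
      · exact (U.smul_mem_iff hβ).1 ((U.add_mem_iff_left (U.smul_mem _ hc1U)).1 hv)
      · exact hc1U
  have hnotboth : ¬ ((∀ g ∈ X, ∀ x ∈ L, g.1 x ∈ L) ∧ ∀ g ∈ X, ∀ x ∈ H, g.1 x ∈ H) := fun hboth =>
    hu1 (commute_of_flag hp h hboth.1 hboth.2 huX (mem_flag.2 ⟨hdH, hdL, hd0⟩))
  rcases hcase with rfl | rfl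
  · -- an invariant line
    obtain ⟨r, hr, hrH⟩ : ∃ r ∈ X, ∃ b ∈ H, r.1 b ∉ H := by
      by_contra hh
      push Not at hh
      exact hnotboth ⟨hU, hh⟩
    have hr2 : r.1 c2 ∉ H := fun h2 => by
      obtain ⟨b, hb, hbH⟩ := hrH
      obtain ⟨x, y, rfl⟩ := Submodule.mem_span_pair.1 hb
      rw [map_add, map_smul, map_smul] at hbH
      exact hbH (add_mem (H.smul_mem _ h2) (H.smul_mem _ (hLH (hU r hr c1 hc1U))))
    set e := r.1 c2 with he
    set z := dd u e with hz
    obtain ⟨α, β, γ, heq⟩ := hind.span hc e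
    have hα : α ≠ 0 := fun e0 => hr2 (by rw [heq, e0, zero_smul, zero_add]; exact Submodule.mem_span_pair.2 ⟨β, γ, rfl⟩)
    have hzeq : z = α • c2 + β • c1 := by
      rw [hz, heq]; simp only [map_add, map_smul, hda, hdc2, hdc1, smul_zero, add_zero]
    have hc2eq : c2 = α⁻¹ • z - (α⁻¹ * β) • c1 := by
      rw [hzeq, smul_add, smul_smul, smul_smul, inv_mul_cancel₀ hα, one_smul, add_sub_cancel_right]
    have hc1L : c1 ∈ L := Submodule.mem_span_singleton_self c1
    set v := r * u * r⁻¹ with hv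
    have hvX : v ∈ X := X.mul_mem (X.mul_mem hr huX) (X.inv_mem hr)
    have hvd : ∀ x, dd v x = r.1 (dd u (r⁻¹.1 x)) := fun x => by
      rw [dd_apply, dd_apply, hv, mul_apply, mul_apply, map_sub, apply_inv_self]
    obtain ⟨g1, g2, g3, hrz⟩ := hind.span hc (r⁻¹.1 z)
    have hdvz : dd v z - g1 • e ∈ L := by
      rw [hvd, hrz]
      simp only [map_add, map_smul, hda, hdc2, hdc1, map_zero, smul_zero, add_zero]
      rw [← he, add_sub_cancel_left]
      exact L.smul_mem _ (hU r hr _ hc1L)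
    have hg1 : g1 ≠ 0 := by
      intro h0
      have hzr : z ∈ H.map r.1 := ⟨r⁻¹.1 z, by rw [hrz, h0, zero_smul, zero_add]; exact Submodule.mem_span_pair.2 ⟨g2, g3, rfl⟩,
        apply_inv_self r z⟩
      have hc1r : c1 ∈ H.map r.1 := ⟨r⁻¹.1 c1, hLH (mem_of_inv hU hr _ hc1L), apply_inv_self r c1⟩
      have her : e ∈ H.map r.1 := ⟨c2, Submodule.subset_span (by simp), rfl⟩
      have hc2r : c2 ∈ H.map r.1 := hc2eq ▸ sub_mem (Submodule.smul_mem _ _ hzr) (Submodule.smul_mem _ _ hc1r)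
      have har : a ∈ H.map r.1 := by
        have h1 : α • a ∈ H.map r.1 := by
          rw [show α • a = e - β • c2 - γ • c1 by rw [heq]; abel]
          exact sub_mem (sub_mem her (Submodule.smul_mem _ _ hc2r)) (Submodule.smul_mem _ _ hc1r)
        exact (Submodule.smul_mem_iff _ hα).1 h1
      obtain ⟨b, hb, hba⟩ : r.1 a ∈ H.map r.1 := by
        obtain ⟨x1, x2, x3, hx⟩ := hind.span hc (r.1 a)
        rw [hx]
        exact add_mem (add_mem (Submodule.smul_mem _ _ har) (Submodule.smul_mem _ _ hc2r)) (Submodule.smul_mem _ _ hc1r)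
      obtain rfl := apply_inj r hba
      obtain ⟨x, y, hxy⟩ := Submodule.mem_span_pair.1 hb
      exact one_ne_zero (hind 1 (-x) (-y) (by rw [← hxy]; module)).1
    have hHu : Has L e z u 1 0 1 1 := by
      refine ⟨hU u huX, ?_, ?_⟩
      · rw [apply_eq u e, ← hz, one_smul, one_smul, sub_self]; exact zero_mem _
      · rw [apply_eq u z, zero_smul, one_smul, zero_add, add_sub_cancel_left, hzeq]
        simp only [map_add, map_smul, hda, hdc2, hdc1, smul_zero, add_zero]
        exact L.smul_mem _ hc1L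
    have hHv : Has L e z v 1 g1 0 1 := by
      refine ⟨hU v hvX, ?_, ?_⟩
      · rw [apply_eq v e, one_smul, zero_smul, add_zero, add_sub_cancel_left, hvd, he, inv_apply_self]
        rw [hdc2]; exact hU r hr _ hc1L
      · rw [apply_eq v z, one_smul]
        convert hdvz using 1; abel
    have hHv' := hHv.pow_upper (g1⁻¹).val
    rw [ZMod.natCast_zmod_val, inv_mul_cancel₀ hg1] at hHv'
    set τ := invol u (v ^ (g1⁻¹).val)
    have hτ : Has L e z τ (-1) 0 0 (-1) := has_invol hHu hHv'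
    have hτX : τ ∈ X := mul_mem (wt_mem huX (pow_mem hvX _) 1) (wt_mem huX (pow_mem hvX _) 1)
    have hvc1 : v.1 c1 = c1 := by
      obtain ⟨x, hx⟩ := Submodule.mem_span_singleton.1 (mem_of_inv hU hr c1 hc1L)
      rw [hv, mul_apply, mul_apply, ← hx, map_smul, huc1, hx, apply_inv_self]
    have hτc1 : τ.1 c1 = c1 := by
      have h1 : τ ∈ fix (p := p) c1 :=
        mul_mem (wt_mem huc1 (pow_mem (show v ∈ fix (p := p) c1 from hvc1) _) 1)
          (wt_mem huc1 (pow_mem (show v ∈ fix (p := p) c1 from hvc1) _) 1)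
      exact h1
    have hτe : τ.1 e + e ∈ L := by
      have := hτ.2.1; simp only [neg_smul, one_smul, zero_smul, add_zero, sub_neg_eq_add] at this; exact this
    have hτz : τ.1 z + z ∈ L := by
      have := hτ.2.2; simp only [neg_smul, one_smul, zero_smul, zero_add, sub_neg_eq_add] at this; exact this
    have hτc2 : τ.1 c2 + c2 ∈ L := by
      rw [hc2eq, map_sub, map_smul, map_smul, hτc1]
      have h1 := sub_mem (L.smul_mem α⁻¹ hτz) (L.smul_mem (2 * (α⁻¹ * β)) hc1L)
      convert h1 using 1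
      module
    have hτa : τ.1 a + a ∈ L := by
      have h1 : α • (τ.1 a + a) ∈ L := by
        rw [smul_add,
          show α • τ.1 a = τ.1 e - β • τ.1 c2 - γ • c1 by rw [heq, map_add, map_add, map_smul, map_smul, map_smul, hτc1]; abel]
        have h1 := sub_mem (sub_mem hτe (L.smul_mem β hτc2)) (L.smul_mem (2 * γ) hc1L)
        convert h1 using 1
        rw [show α • a = e - β • c2 - γ • c1 by rw [heq]; abel]
        module
      exact (Submodule.smul_mem_iff _ hα).1 h1
    -- `τ` commutes with `u`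
    have hτu : τ * u = u * τ := by
      have hg : τ * u * τ⁻¹ * u⁻¹ = 1 := by
        refine commute_of_flag hp h (A := ⊥) (B := L) (fun g _ x hx => by
            rw [Submodule.mem_bot] at hx ⊢; rw [hx, map_zero]) hU
          (X.mul_mem (X.mul_mem (X.mul_mem hτX huX) (X.inv_mem hτX)) (X.inv_mem huX))
          (mem_flag.2 ⟨fun x => ?_, fun b hb => ?_, fun b hb => by rw [(Submodule.mem_bot _).1 hb, map_zero]⟩)
        · obtain ⟨y, rfl⟩ : ∃ y, x = (u * τ).1 y := ⟨(u * τ)⁻¹.1 x, (apply_inv_self _ x).symm⟩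
          rw [dd_apply, ← mul_apply, show τ * u * τ⁻¹ * u⁻¹ * (u * τ) = τ * u by group, mul_apply, mul_apply,
            apply_eq u y, apply_eq u (τ.1 y), map_add, add_sub_add_left_eq_sub]
          obtain ⟨y1, y2, y3, rfl⟩ := hind.span hc y
          have hda' : dd u (τ.1 a) + c2 ∈ L := by
            have h1 := hdL _ (hLH hτa); rw [map_add, hda] at h1; exact h1
          have hdc2' : dd u (τ.1 c2) + c1 ∈ L := by
            have h1 := hdL _ (hLH hτc2); rw [map_add, hdc2] at h1; exact h1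
          simp only [map_add, map_smul, hda, hdc2, hdc1, hτc1, map_zero, smul_zero, add_zero]
          have h1 := sub_mem (add_mem (L.smul_mem y1 hτc2) (L.smul_mem y2 (L.smul_mem (2 : ZMod p) hc1L)))
            (add_mem (L.smul_mem y1 hda') (L.smul_mem y2 hdc2'))
          convert h1 using 1
          module
        · obtain ⟨x, rfl⟩ := Submodule.mem_span_singleton.1 hb
          have h1 : τ * u * τ⁻¹ * u⁻¹ ∈ fix (p := p) c1 :=
            mul_mem (mul_mem (mul_mem (show τ ∈ fix (p := p) c1 from hτc1) huc1)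
              (inv_mem (show τ ∈ fix (p := p) c1 from hτc1))) (inv_mem huc1)
          rw [Submodule.mem_bot, map_smul, dd_apply, mem_fix.1 h1, sub_self, smul_zero]
      calc τ * u = τ * u * τ⁻¹ * u⁻¹ * (u * τ) := by group
        _ = u * τ := by rw [hg, one_mul]
    obtain ⟨μ, hμ⟩ := Submodule.mem_span_singleton.1 hτa
    have h1 : τ.1 c2 = -c2 := by
      rw [← hda, commute_iff_dd hτu, eq_sub_of_add_eq hμ.symm, map_sub, map_smul, hdc1, smul_zero, zero_sub]
    have h2 : τ.1 c1 = -c1 := by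
      rw [← hdc2, commute_iff_dd hτu, h1, map_neg]
    rw [hτc1, eq_neg_iff_add_eq_zero, ← two_smul (ZMod p)] at h2
    exact two_ne_zero_of hp ((smul_eq_zero.1 h2).resolve_right ha)
  · -- an invariant plane
    obtain ⟨r, hr, hrL⟩ : ∃ r ∈ X, r.1 c1 ∉ L := by
      by_contra hh
      push Not at hh
      refine hnotboth ⟨fun g hg x hx => ?_, hU⟩
      obtain ⟨y, rfl⟩ := Submodule.mem_span_singleton.1 hx
      rw [map_smul]; exact L.smul_mem _ (hh g hg)
    set e := r.1 c1 with he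
    have hc1H : c1 ∈ H := hLH (Submodule.mem_span_singleton_self c1)
    have hc2H : c2 ∈ H := Submodule.subset_span (by simp)
    have heH : e ∈ H := hU r hr c1 hc1H
    obtain ⟨α, β, heq⟩ := Submodule.mem_span_pair.1 heH
    have hα : α ≠ 0 := fun e0 => hrL (by
      rw [← heq, e0, zero_smul, zero_add]; exact Submodule.mem_span_singleton.2 ⟨β, rfl⟩)
    set z := α • c1 with hz
    have hde : dd u e = z := by rw [← heq]; simp [hdc1, hdc2, hz]
    set v := r * u * r⁻¹ with hv
    have hvX : v ∈ X := X.mul_mem (X.mul_mem hr huX) (X.inv_mem hr)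
    have hvd : ∀ x, dd v x = r.1 (dd u (r⁻¹.1 x)) := fun x => by
      rw [dd_apply, dd_apply, hv, mul_apply, mul_apply, map_sub, apply_inv_self]
    have hzH : z ∈ H := H.smul_mem _ hc1H
    obtain ⟨g2, g3, hrz⟩ := Submodule.mem_span_pair.1 (mem_of_inv hU hr z hzH)
    have hdvz : dd v z = g2 • e := by
      rw [hvd, ← hrz]; simp [hdc1, hdc2, he]
    have hg2 : g2 ≠ 0 := fun h0 => by
      subst h0
      rw [zero_smul, zero_add] at hrz
      have h1 := congrArg r.1 hrz
      rw [map_smul, ← he, apply_inv_self, hz, ← heq, smul_add, smul_smul, smul_smul] at h1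
      obtain ⟨-, h2, h3'⟩ := hind 0 (g3 * α) (g3 * β - α) (by rw [← sub_eq_zero] at h1; rw [← h1]; module)
      rw [(mul_eq_zero.1 h2).resolve_right hα, zero_mul, zero_sub, neg_eq_zero] at h3'
      exact hα h3'
    have hHu : Has ⊥ e z u 1 0 1 1 := by
      refine ⟨fun x hx => by rw [Submodule.mem_bot] at hx ⊢; rw [hx, map_zero], ?_, ?_⟩
      · rw [apply_eq u e, hde, one_smul, one_smul, sub_self]; exact zero_mem _
      · rw [apply_eq u z, hz, map_smul, hdc1, smul_zero]; simp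
    have hHv : Has ⊥ e z v 1 g2 0 1 := by
      refine ⟨fun x hx => by rw [Submodule.mem_bot] at hx ⊢; rw [hx, map_zero], ?_, ?_⟩
      · rw [apply_eq v e, hvd, he, inv_apply_self, hdc1, map_zero]; simp
      · rw [apply_eq v z, hdvz, one_smul, add_comm, sub_self]; exact zero_mem _
    have hHv' := hHv.pow_upper (g2⁻¹).val
    rw [ZMod.natCast_zmod_val, inv_mul_cancel₀ hg2] at hHv'
    set τ := invol u (v ^ (g2⁻¹).val)
    have hτ : Has ⊥ e z τ (-1) 0 0 (-1) := has_invol hHu hHv'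
    have hτX : τ ∈ X := mul_mem (wt_mem huX (pow_mem hvX _) 1) (wt_mem huX (pow_mem hvX _) 1)
    have hτe : τ.1 e = -e := by
      have := hτ.2.1; simp only [Submodule.mem_bot, sub_eq_zero] at this; rw [this]; simp
    have hτc1 : τ.1 c1 = -c1 := by
      have h1 := hτ.2.2
      simp only [Submodule.mem_bot, sub_eq_zero, hz, map_smul, neg_smul, one_smul, zero_smul, zero_add] at h1
      rw [← smul_neg] at h1
      exact smul_right_injective V hα h1
    have hτc2 : τ.1 c2 = -c2 := by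
      refine smul_right_injective V hα (?_ : α • τ.1 c2 = α • -c2)
      rw [← map_smul, show α • c2 = e - β • c1 by rw [← heq]; abel, map_sub, map_smul, hτe, hτc1, smul_neg, smul_neg,
        show α • c2 = e - β • c1 by rw [← heq]; abel]
      module
    let T : Subgroup (GV p V) :=
      { carrier := {g | g ∈ X ∧ ∀ x, dd g x ∈ H}
        one_mem' := ⟨X.one_mem, fun x => by simp [dd]⟩
        mul_mem' := fun {g k} hg hk => ⟨X.mul_mem hg.1 hk.1, fun x => by
          rw [show dd (g * k) x = dd g (k.1 x) + dd k x by simp only [dd_apply, mul_apply]; abel]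
          exact add_mem (hg.2 _) (hk.2 x)⟩
        inv_mem' := fun {g} hg => ⟨X.inv_mem hg.1, fun x => by
          rw [show dd g⁻¹ x = - dd g (g⁻¹.1 x) by rw [dd_apply, dd_apply, apply_inv_self]; abel]
          exact neg_mem (hg.2 _)⟩ }
    have huT : u ∈ T := ⟨huX, hdH⟩
    have hvT : v ∈ T := ⟨hvX, fun x => by rw [hvd]; exact hU r hr _ (hdH _)⟩
    have hτT : τ ∈ T := mul_mem (wt_mem huT (pow_mem hvT _) 1) (wt_mem huT (pow_mem hvT _) 1)
    have hτu : τ * u = u * τ := by
      have hg : τ * u * τ⁻¹ * u⁻¹ = 1 := by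
        have hgT : τ * u * τ⁻¹ * u⁻¹ ∈ T := mul_mem (mul_mem (mul_mem hτT huT) (inv_mem hτT)) (inv_mem huT)
        refine commute_of_flag hp h (A := ⊥) (B := H) (fun g _ x hx => by
            rw [Submodule.mem_bot] at hx ⊢; rw [hx, map_zero]) hU hgT.1
          (mem_flag.2 ⟨hgT.2, fun b hb => ?_, fun b hb => by rw [(Submodule.mem_bot _).1 hb, map_zero]⟩)
        have hneg : ∀ y ∈ H, τ.1 y = -y := fun y hy => by
          obtain ⟨x, w, rfl⟩ := Submodule.mem_span_pair.1 hy
          simp [hτc1, hτc2]; abel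
        obtain ⟨y, hy, rfl⟩ : ∃ y ∈ H, (u * τ).1 y = b :=
          ⟨(u * τ)⁻¹.1 b, mem_of_inv hU (X.mul_mem huX hτX) b hb, apply_inv_self _ b⟩
        rw [Submodule.mem_bot, dd_apply, ← mul_apply, show τ * u * τ⁻¹ * u⁻¹ * (u * τ) = τ * u by group,
          mul_apply, mul_apply, hneg _ (hU u huX y hy), hneg y hy, map_neg, sub_self]
      calc τ * u = τ * u * τ⁻¹ * u⁻¹ * (u * τ) := by group
        _ = u * τ := by rw [hg, one_mul]
    have h1 : τ.1 c2 = c2 + dd u (τ.1 a - a) := by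
      rw [map_sub, show τ.1 c2 = dd u (τ.1 a) from hda ▸ commute_iff_dd hτu a, hda]; abel
    obtain ⟨k, hk⟩ := Submodule.mem_span_singleton.1 (hdL _ (hτT.2 a))
    rw [dd_apply τ a] at hk
    rw [hτc2, ← hk] at h1
    obtain ⟨-, h4, -⟩ := hind 0 2 k (by
      rw [← sub_eq_zero] at h1
      rw [zero_smul, zero_add]
      have h2 : (2 : ZMod p) • c2 + k • c1 = -(-c2 - (c2 + k • c1)) := by rw [two_smul]; abel
      rw [h2, h1, neg_zero])
    exact two_ne_zero_of hp h4

/-- The torus normalising a transvection group. -/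
theorem exists_torus (hp : 3 ≤ p) (hc : Nat.card V = p ^ 3) (h : Emb p X P M) {u0 : GV p V} (hu : u0 ∈ P)
    (hu1 : u0 ≠ 1) (h2 : ∀ x, dd u0 (dd u0 x) = 0) :
    ∃ e z w : V, Indep p e z w ∧ u0.1 e = e + z ∧ u0.1 z = z ∧ u0.1 w = w ∧
      ∀ t : ZMod p, t ≠ 0 → ∃ γ ∈ X, γ.1 e = t⁻¹ • e ∧ γ.1 z = t • z ∧ γ.1 w = w := by
  obtain ⟨φ0, c0, hc0, hφ0, -, hform⟩ := exists_transvection hc u0 h2 hu1
  obtain ⟨r, hr, hrM⟩ := h.out
  set φ1 := φ0.comp r⁻¹.1
  set c1 := r.1 c0
  have hform1 : ∀ v, (r * u0 * r⁻¹).1 v = v + φ1 v • c1 := conj_apply_transvection hform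
  have hφ1 : φ1 c1 = 0 := by show φ0 (r⁻¹.1 (r.1 c0)) = 0; rw [inv_apply_self, hφ0]
  have huX := h.leX hu
  have hvX : r * u0 * r⁻¹ ∈ X := X.mul_mem (X.mul_mem hr huX) (X.inv_mem hr)
  have hcl : ∀ g0 g1 : GV p V, g0 ∈ X → g1 ∈ X → Subgroup.closure ({g0, g1} : Set (GV p V)) ≤ X :=
    fun g0 g1 h0 h1 => (Subgroup.closure_le _).2 (by
      rintro g (rfl | rfl)
      · exact h0
      · exact h1)
  have hc1 : φ0 c1 ≠ 0 := fun e => hrM (h.mem_of_pGroup (hcl _ _ huX hvX)
    (pair_pGroup hp hform hform1 hφ0 hφ1 e) hu hu1 hr (Subgroup.subset_closure (by simp))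
    (Subgroup.subset_closure (by simp)))
  have hc0' : φ1 c0 ≠ 0 := fun e => hrM (h.mem_of_pGroup (hcl _ _ hvX huX)
    (pair_pGroup hp hform1 hform hφ1 hφ0 e) hu hu1 hr (Subgroup.subset_closure (by simp))
    (Subgroup.subset_closure (by simp)))
  obtain ⟨w, hw, hw0, hw1⟩ : ∃ w : V, w ≠ 0 ∧ φ0 w = 0 ∧ φ1 w = 0 := by
    by_contra hno
    push Not at hno
    have : Nat.card V ≤ Nat.card (ZMod p × ZMod p) :=
      Nat.card_le_card_of_injective (fun v => (φ0 v, φ1 v)) fun v w hvw => by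
        by_contra hne
        exact hno (v - w) (sub_ne_zero.2 hne) (by rw [map_sub, show φ0 v = φ0 w from (Prod.ext_iff.1 hvw).1, sub_self])
          (by rw [map_sub, show φ1 v = φ1 w from (Prod.ext_iff.1 hvw).2, sub_self])
    rw [hc, Nat.card_prod, Nat.card_zmod] at this
    nlinarith [(Fact.out : p.Prime).two_le, Nat.mul_pos (Fact.out : p.Prime).pos (Fact.out : p.Prime).pos]
  set e := c1
  set z := φ0 c1 • c0 with hz
  have hzφ0 : φ0 z = 0 := by rw [hz, map_smul, hφ0, smul_zero]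
  have hzφ1 : φ1 z ≠ 0 := by rw [hz, map_smul]; exact smul_ne_zero hc1 hc0'
  refine ⟨e, z, w, fun α β γ hh => ?_, hform e, by rw [hform, hzφ0, zero_smul, add_zero],
    by rw [hform, hw0, zero_smul, add_zero], fun t ht => ?_⟩
  · have h0 := congrArg φ0 hh
    simp only [map_add, map_smul, map_zero, hzφ0, hw0, smul_eq_mul, mul_zero, add_zero, mul_eq_zero] at h0
    obtain rfl := h0.resolve_right hc1
    have h1 := congrArg φ1 hh
    simp only [map_add, map_smul, map_zero, hw1, smul_eq_mul, mul_zero, add_zero, zero_smul, zero_add, mul_eq_zero] at h1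
    obtain rfl := h1.resolve_right hzφ1
    simp only [zero_smul, zero_add] at hh
    exact ⟨rfl, rfl, (smul_eq_zero.1 hh).resolve_right hw⟩
  set v := r * u0 * r⁻¹
  have hHu : Has (⊥ : Submodule (ZMod p) V) e z u0 1 0 1 1 := by
    refine ⟨fun x hx => by rw [Submodule.mem_bot] at hx ⊢; rw [hx, map_zero], ?_, ?_⟩
    · rw [hform]; simp [hz, e]
    · rw [hform, hzφ0]; simp
  have hHv : Has (⊥ : Submodule (ZMod p) V) e z v 1 (φ1 z) 0 1 := by
    refine ⟨fun x hx => by rw [Submodule.mem_bot] at hx ⊢; rw [hx, map_zero], ?_, ?_⟩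
    · rw [hform1, hφ1]; simp
    · rw [hform1, one_smul, add_comm, sub_self]; exact zero_mem _
  have hHv' := hHv.pow_upper (φ1 z)⁻¹.val
  rw [ZMod.natCast_zmod_val, inv_mul_cancel₀ hzφ1] at hHv'
  set γ := torus u0 (v ^ (φ1 z)⁻¹.val) t
  have hγ := has_torus hHu hHv' ht
  refine ⟨γ, mul_mem (wt_mem huX (pow_mem hvX _) t) (wt_mem huX (pow_mem hvX _) (-1)), ?_, ?_, ?_⟩
  · have := hγ.2.1; simpa [Submodule.mem_bot, sub_eq_zero] using this
  · have := hγ.2.2; simpa [Submodule.mem_bot, sub_eq_zero] using this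
  · have h1 : u0 ∈ fix (p := p) w := by
      show u0.1 w = w; rw [hform, hw0, zero_smul, add_zero]
    have h2' : v ∈ fix (p := p) w := by
      show v.1 w = w; rw [hform1, hw1, zero_smul, add_zero]
    exact mul_mem (wt_mem h1 (pow_mem h2' _) t) (wt_mem h1 (pow_mem h2' _) (-1))

end Cfsg.Agent.Lib.EssentialRankThree.Embedded
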