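import Mathlib
import Cfsg.Prelude.Def_CaseTheorems

/-!
# Elementary abelian sections with coordinates, and the sectional rank bound

A section `A / B` of exponent `p` of a group is viewed as a space over `ZMod p` through a coordinate function on
the whole group, which is only constrained on `A`.
-/

set_option autoImplicit false
set_option linter.style.haveILetI false

namespace Cfsg.Agent.Lib.EssentialRankThree

open Cfsg

universe u

variable {Ω : Type u} [Group Ω] {p : ℕ} [Fact p.Prime]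

/-- Coordinates on the section `A / B`. -/
structure Coord (p : ℕ) [Fact p.Prime] (A B : Subgroup Ω) (V : Type u) [AddCommGroup V] [Module (ZMod p) V] where
  /-- The coordinate function. -/
  v : Ω → V
  map_mul : ∀ x ∈ A, ∀ y ∈ A, v (x * y) = v x + v y
  mem : ∀ x ∈ A, (v x = 0 ↔ x ∈ B)
  surj : ∀ w, ∃ x ∈ A, v x = w

variable {A B : Subgroup Ω} {V : Type u} [AddCommGroup V] [Module (ZMod p) V]

theorem Coord.map_one (c : Coord p A B V) : c.v 1 = 0 := (c.mem 1 A.one_mem).2 B.one_mem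

theorem Coord.map_inv (c : Coord p A B V) {x : Ω} (hx : x ∈ A) : c.v x⁻¹ = -c.v x := by
  refine eq_neg_of_add_eq_zero_left ?_
  rw [← c.map_mul _ (A.inv_mem hx) _ hx, inv_mul_cancel, c.map_one]

theorem Coord.map_pow (c : Coord p A B V) {x : Ω} (hx : x ∈ A) (n : ℕ) : c.v (x ^ n) = (n : ZMod p) • c.v x := by
  induction n with
  | zero => simp [c.map_one]
  | succ n ih => rw [pow_succ, c.map_mul _ (A.pow_mem hx n) _ hx, ih, Nat.cast_succ, add_smul, one_smul]

theorem Coord.map_zpow (c : Coord p A B V) {x : Ω} (hx : x ∈ A) (n : ℤ) : c.v (x ^ n) = (n : ZMod p) • c.v x := by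
  cases n with
  | ofNat m => simpa using c.map_pow hx m
  | negSucc m => rw [zpow_negSucc, c.map_inv (A.pow_mem hx _), c.map_pow hx, Int.cast_negSucc, neg_smul]

theorem Coord.map_conj (c : Coord p A B V) {x y : Ω} (hx : x ∈ A) (hy : y ∈ A) : c.v (x * y * x⁻¹) = c.v y := by
  rw [c.map_mul _ (A.mul_mem hx hy) _ (A.inv_mem hx), c.map_mul _ hx _ hy, c.map_inv hx]; abel

theorem Coord.eq_iff (c : Coord p A B V) {x y : Ω} (hx : x ∈ A) (hy : y ∈ A) :
    c.v x = c.v y ↔ x⁻¹ * y ∈ B := by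
  rw [← c.mem _ (A.mul_mem (A.inv_mem hx) hy), c.map_mul _ (A.inv_mem hx) _ hy, c.map_inv hx,
    neg_add_eq_zero]

/-- Coordinates exist on an elementary abelian section. -/
theorem exists_coord (A B : Subgroup Ω) [Finite A] (hBA : B ≤ A)
    (hn : ∀ a ∈ A, ∀ b ∈ B, a * b * a⁻¹ ∈ B)
    (hc : ∀ a ∈ A, ∀ b ∈ A, a * b * a⁻¹ * b⁻¹ ∈ B) (hp : ∀ a ∈ A, a ^ p ∈ B) :
    ∃ (V : Type u) (_ : AddCommGroup V) (_ : Module (ZMod p) V) (_ : Finite V) (_ : Coord p A B V),
      Nat.card V = (B.subgroupOf A).index := by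
  haveI : (B.subgroupOf A).Normal := ⟨fun b hb a => Subgroup.mem_subgroupOf.2 (hn a a.2 b (Subgroup.mem_subgroupOf.1 hb))⟩
  letI : CommGroup (A ⧸ B.subgroupOf A) :=
    { (inferInstance : Group (A ⧸ B.subgroupOf A)) with
      mul_comm := fun a b => by
        obtain ⟨a, rfl⟩ := QuotientGroup.mk_surjective a
        obtain ⟨b, rfl⟩ := QuotientGroup.mk_surjective b
        rw [← commutatorElement_eq_one_iff_mul_comm, commutatorElement_def]
        exact (QuotientGroup.eq_one_iff (a * b * a⁻¹ * b⁻¹)).2 (Subgroup.mem_subgroupOf.2 (hc a a.2 b b.2)) }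
  letI : Module (ZMod p) (Additive (A ⧸ B.subgroupOf A)) := AddCommGroup.zmodModule (n := p) fun x => by
    obtain ⟨a, ha⟩ := QuotientGroup.mk_surjective (Additive.toMul x)
    rw [← ofMul_toMul x, ← ha, ← ofMul_pow, ← QuotientGroup.mk_pow,
      (QuotientGroup.eq_one_iff _).2 (Subgroup.mem_subgroupOf.2 (hp a a.2)), ofMul_one]
  classical
  refine ⟨Additive (A ⧸ B.subgroupOf A), inferInstance, inferInstance, inferInstance,
    ⟨fun x => if h : x ∈ A then Additive.ofMul (QuotientGroup.mk ⟨x, h⟩) else 0, ?_, ?_, ?_⟩, ?_⟩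
  · intro x hx y hy
    rw [dif_pos hx, dif_pos hy, dif_pos (A.mul_mem hx hy), ← ofMul_mul, ← QuotientGroup.mk_mul]
    rfl
  · intro x hx
    rw [dif_pos hx, ofMul_eq_zero, QuotientGroup.eq_one_iff, Subgroup.mem_subgroupOf]
  · intro w
    obtain ⟨a, ha⟩ := QuotientGroup.mk_surjective (Additive.toMul w)
    exact ⟨a, a.2, by rw [dif_pos a.2, Subtype.coe_eta, ha, ofMul_toMul]⟩
  · rw [Subgroup.index_eq_card]
    exact Nat.card_congr Additive.toMul

/-- A map preserving `A` and `B` induces a linear map. -/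
theorem Coord.exists_lift (c : Coord p A B V) (φ : Ω → Ω) (hmul : ∀ x ∈ A, ∀ y ∈ A, φ (x * y) = φ x * φ y)
    (hA : ∀ x ∈ A, φ x ∈ A) (hB : ∀ x ∈ B, φ x ∈ B) :
    ∃ L : V →ₗ[ZMod p] V, ∀ x ∈ A, L (c.v x) = c.v (φ x) := by
  choose s hs hsv using c.surj
  have key : ∀ x ∈ A, c.v (φ (s (c.v x))) = c.v (φ x) := fun x hx => by
    have h1 : (s (c.v x))⁻¹ * x ∈ B := (c.eq_iff (hs _) hx).1 (hsv _)
    have h2 : φ x = φ (s (c.v x)) * φ ((s (c.v x))⁻¹ * x) := by
      rw [← hmul _ (hs _) _ (A.mul_mem (A.inv_mem (hs _)) hx), mul_inv_cancel_left]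
    rw [h2, c.map_mul _ (hA _ (hs _)) _ (hA _ (A.mul_mem (A.inv_mem (hs _)) hx)),
      (c.mem _ (hA _ (A.mul_mem (A.inv_mem (hs _)) hx))).2 (hB _ h1), add_zero]
  let f : V →+ V := AddMonoidHom.mk' (fun w => c.v (φ (s w))) fun w w' => by
    have h := key _ (A.mul_mem (hs w) (hs w'))
    rw [c.map_mul _ (hs w) _ (hs w'), hsv, hsv, hmul _ (hs w) _ (hs w'), c.map_mul _ (hA _ (hs w)) _ (hA _ (hs w'))] at h
    exact h
  exact ⟨f.toZModLinearMap p, key⟩

/-- The sectional rank bound: four commuting independent elements of exponent `p` cannot occur in a section. -/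
theorem rank_false {S H K : Subgroup Ω} [Finite S] (hsr : SectionalPRankLE p 3 ↥S) (hH : H ≤ S) (hKH : K ≤ H)
    (hn : ∀ h ∈ H, ∀ k ∈ K, h * k * h⁻¹ ∈ K) (b : Fin 4 → Ω) (hb : ∀ i, b i ∈ H) (hp : ∀ i, b i ^ p ∈ K)
    (hc : ∀ i j, b i * b j * (b i)⁻¹ * (b j)⁻¹ ∈ K)
    (hind : ∀ d : Fin 4 → ℤ, b 0 ^ d 0 * b 1 ^ d 1 * b 2 ^ d 2 * b 3 ^ d 3 ∈ K → ∀ i, (p : ℤ) ∣ d i) :
    False := by
  set H' := H.subgroupOf S
  set K' := (K.subgroupOf S).subgroupOf H'
  haveI : K'.Normal := ⟨fun k hk h => Subgroup.mem_subgroupOf.2 (Subgroup.mem_subgroupOf.2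
    (hn _ (Subgroup.mem_subgroupOf.1 h.2) _ (Subgroup.mem_subgroupOf.1 (Subgroup.mem_subgroupOf.1 hk))))⟩
  have hmk : ∀ x : H', (QuotientGroup.mk x : H' ⧸ K') = 1 ↔ ((x : S) : Ω) ∈ K := fun x =>
    (QuotientGroup.eq_one_iff x).trans (Subgroup.mem_subgroupOf.trans Subgroup.mem_subgroupOf)
  let B : Fin 4 → H' := fun i => ⟨⟨b i, hH (hb i)⟩, Subgroup.mem_subgroupOf.2 (hb i)⟩
  set q : Fin 4 → H' ⧸ K' := fun i => QuotientGroup.mk (B i) with hq
  set A := Subgroup.closure (Set.range q)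
  have hcom : IsMulCommutative A := Subgroup.isMulCommutative_closure (by
    rintro _ ⟨i, rfl⟩ _ ⟨j, rfl⟩
    rw [← commutatorElement_eq_one_iff_mul_comm, commutatorElement_def]
    exact (hmk (B i * B j * (B i)⁻¹ * (B j)⁻¹)).2 (hc i j))
  letI : CommGroup A := { (inferInstance : Group A) with mul_comm := hcom.is_comm.comm }
  have hexp : ∀ a ∈ A, a ^ p = 1 := by
    intro a ha
    suffices h : (⟨a, ha⟩ : A) ^ p = 1 from congrArg Subtype.val h
    induction ha using Subgroup.closure_induction with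
    | mem x hx => obtain ⟨i, rfl⟩ := hx; exact Subtype.ext ((hmk (B i ^ p)).2 (hp i))
    | one => exact Subtype.ext (one_pow p)
    | mul x y hx hy ihx ihy =>
      rw [show (⟨x * y, _⟩ : A) = ⟨x, hx⟩ * ⟨y, hy⟩ from rfl, mul_pow, ihx, ihy, one_mul]
    | inv x hx ihx => rw [show (⟨x⁻¹, _⟩ : A) = (⟨x, hx⟩ : A)⁻¹ from rfl, inv_pow, ihx, inv_one]
  have hbound := hsr H' K' A hcom hexp
  let a : Fin 4 → A := fun i => ⟨q i, Subgroup.subset_closure ⟨i, rfl⟩⟩
  let f : (Fin 4 → ZMod p) → A := fun d =>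
    a 0 ^ ((d 0).val : ℤ) * a 1 ^ ((d 1).val : ℤ) * a 2 ^ ((d 2).val : ℤ) * a 3 ^ ((d 3).val : ℤ)
  have hinj : Function.Injective f := by
    intro d d' he
    have h0 : f d' * (f d)⁻¹ = 1 := by rw [he, mul_inv_cancel]
    have h1 : a 0 ^ (((d' 0).val : ℤ) - (d 0).val) * a 1 ^ (((d' 1).val : ℤ) - (d 1).val) *
        a 2 ^ (((d' 2).val : ℤ) - (d 2).val) * a 3 ^ (((d' 3).val : ℤ) - (d 3).val) = 1 := by
      rw [← h0]
      simp only [f, zpow_sub, mul_inv]
      ac_rfl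
    have h2 := congrArg Subtype.val h1
    simp only [Subgroup.coe_mul, Subgroup.coe_zpow, Subgroup.coe_one, a, hq, ← QuotientGroup.mk_zpow,
      ← QuotientGroup.mk_mul, hmk] at h2
    have h3 := hind (fun i => ((d' i).val : ℤ) - (d i).val) (by simpa [B] using h2)
    funext i
    have h4 := (ZMod.intCast_zmod_eq_zero_iff_dvd _ p).2 (h3 i)
    simpa [sub_eq_zero, eq_comm] using h4
  have h5 := Nat.card_le_card_of_injective f hinj
  rw [Nat.card_fun, Nat.card_zmod, Nat.card_fin] at h5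
  exact absurd (h5.trans hbound) (not_le.2 (Nat.pow_lt_pow_right (Fact.out : p.Prime).one_lt (by norm_num)))

end Cfsg.Agent.Lib.EssentialRankThree
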