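import Cfsg.Agent.Lib.Resistant67.CaseSmall
import Cfsg.Agent.Lib.EssentialRankThree.Coord
import Cfsg.Agent.Lib.EssentialRankThree.Actions

/-!
# The automiser of an essential subgroup with three generators on the Frattini quotient
-/

set_option autoImplicit false
set_option linter.style.haveILetI false
set_option linter.unusedSectionVars false

namespace Cfsg.Agent.Lib.EssentialRankThree

open Cfsg Cfsg.FusionSystem Cfsg.Agent.Lib Cfsg.Agent.Lib.FS
open Cfsg.Agent.Lib.Resistant67 (conjN conjN_apply aut_mem_frattini exists_normalizer_not_mem)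
open Cfsg.Agent.Lib.EssentialRankThree.Units (GV)
open Cfsg.Agent.Lib.EssentialRankThree.Embedded (Emb)
open scoped commutatorElement

universe u

variable {Ω : Type u} [Group Ω] {S : Subgroup Ω} {p : ℕ} [Fact p.Prime]

/-- `Φ(E)`, in the ambient group. -/
def phi (E : Subgroup Ω) : Subgroup Ω := (frattini ↥E).map E.subtype

theorem phi_le (E : Subgroup Ω) : phi E ≤ E := Subgroup.map_subtype_le _

theorem mem_phi {E : Subgroup Ω} {x : E} : (x : Ω) ∈ phi E ↔ x ∈ frattini ↥E :=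
  Subgroup.mem_map_iff_mem E.subtype_injective

theorem phi_subgroupOf (E : Subgroup Ω) : (phi E).subgroupOf E = frattini ↥E := by
  ext x; exact Subgroup.mem_subgroupOf.trans mem_phi

theorem conj_mem_phi {E : Subgroup Ω} {g x : Ω} (hg : g ∈ Subgroup.normalizer (E : Set Ω)) (hx : x ∈ phi E) :
    g * x * g⁻¹ ∈ phi E :=
  (mem_phi (x := ⟨g * x * g⁻¹, conj_mem_of_normalizer hg (phi_le E hx)⟩)).2
    (aut_mem_frattini (E.normalizerMonoidHom ⟨g, hg⟩) ((mem_phi (x := ⟨x, phi_le E hx⟩)).1 hx))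

theorem pow_mem_phi {E : Subgroup Ω} [Finite E] (hE : IsPGroup p E) {x : Ω} (hx : x ∈ E) : x ^ p ∈ phi E :=
  (mem_phi (x := (⟨x, hx⟩ : E) ^ p)).2 (PGroups.pow_mem_frattini hE _)

theorem comm_mem_phi {E : Subgroup Ω} [Finite E] (hE : IsPGroup p E) {x y : Ω} (hx : x ∈ E) (hy : y ∈ E) :
    x * y * x⁻¹ * y⁻¹ ∈ phi E :=
  (mem_phi (x := ⁅(⟨x, hx⟩ : E), (⟨y, hy⟩ : E)⁆)).2 (PGroups.commutatorElement_mem_frattini hE _ _)

/-- The data of the action of `Aut_F(E)` on `E / Φ(E)`. -/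
structure Auto (F : FusionSystem S) (p : ℕ) [Fact p.Prime] (E : Subgroup Ω) (V : Type u) [AddCommGroup V]
    [Module (ZMod p) V] where
  /-- The coordinates. -/
  c : Coord p E (phi E) V
  /-- The action. -/
  ρ : MulAut E →* GV p V
  rho : ∀ (α : MulAut E) (x : E), (ρ α).1 (c.v x) = c.v (α x)
  card : Nat.card V = p ^ 3
  /-- The image of the strongly embedded subgroup. -/
  M : Subgroup (GV p V)
  emb : Emb p ((F.autGroup E).map ρ) ((autInducedBy S E).map ρ) M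
  ker : ∀ a ∈ F.autGroup E, ρ a = 1 → a ∈ Inn E

variable [Finite S] {F : FusionSystem S} {E : Subgroup Ω}

/-- The data exists. -/
theorem exists_auto (hS : IsPGroup p S) (hF : F.IsSaturated p) (hess : F.IsEssential p E)
    (hrk : (frattini ↥E).index = p ^ 3) :
    ∃ (V : Type u) (_ : AddCommGroup V) (_ : Module (ZMod p) V) (_ : Finite V), Nonempty (Auto F p E V) := by
  have hES : E ≤ S := hess.2.1.1
  haveI := finite_sub hES
  have hEp := isPGroup_of_le hS hES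
  obtain ⟨V, _, _, _, c, hV⟩ := exists_coord (p := p) E (phi E) (phi_le E)
    (fun a ha b hb => conj_mem_phi (Subgroup.le_normalizer ha) hb) (fun a ha b hb => comm_mem_phi hEp ha hb)
    (fun a ha => pow_mem_phi hEp ha)
  rw [phi_subgroupOf, hrk] at hV
  classical
  let ext : MulAut E → Ω → Ω := fun α x => if h : x ∈ E then ((α ⟨x, h⟩ : E) : Ω) else x
  have hext : ∀ α (x : E), ext α x = (α x : Ω) := fun α x => by simp [ext, x.2]
  have hlift : ∀ α : MulAut E, ∃ L : V →ₗ[ZMod p] V, ∀ x ∈ E, L (c.v x) = c.v (ext α x) := fun α => by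
    refine c.exists_lift (ext α) (fun x hx y hy => ?_) (fun x hx => ?_) fun x hx => ?_
    · simp only [ext, dif_pos hx, dif_pos hy, dif_pos (E.mul_mem hx hy)]
      rw [← Subgroup.coe_mul, ← map_mul]; rfl
    · simp only [ext, dif_pos hx]; exact SetLike.coe_mem _
    · simp only [ext, dif_pos (phi_le E hx)]
      exact mem_phi.2 (aut_mem_frattini α ((mem_phi (x := ⟨x, phi_le E hx⟩)).1 hx))
  choose L hL using hlift
  have hL' : ∀ α (x : E), L α (c.v x) = c.v (α x) := fun α x => by rw [hL α x x.2, hext]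
  have hLext : ∀ f g : V →ₗ[ZMod p] V, (∀ x : E, f (c.v x) = g (c.v x)) → f = g := fun f g h =>
    LinearMap.ext fun w => by obtain ⟨x, hx, rfl⟩ := c.surj w; exact h ⟨x, hx⟩
  let ρ₀ : MulAut E →* Module.End (ZMod p) V :=
    { toFun := L
      map_one' := hLext _ _ fun x => by rw [hL']; rfl
      map_mul' := fun α β => hLext _ _ fun x => by rw [hL', Module.End.mul_apply, hL', hL']; rfl }
  set ρ := ρ₀.toHomUnits
  have hrho : ∀ (α : MulAut E) (x : E), (ρ α).1 (c.v x) = c.v (α x) := hL'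
  set A := F.autGroup E
  set R := autInducedBy S E
  have hRA : R ≤ A := autInducedBy_le_autGroup F hES
  have hIA : Inn E ≤ A := inn_le_autGroup F hES
  have hIR : Inn E ≤ R := inn_le_autInducedBy hES
  have htriv : ∀ α, ρ α = 1 ↔ ∀ x : E, x⁻¹ * α x ∈ frattini ↥E := fun α => by
    constructor
    · intro h x
      rw [← mem_phi, Subgroup.coe_mul, Subgroup.coe_inv, ← c.eq_iff x.2 (α x).2, ← hrho, h]; rfl
    · intro h
      refine Units.ext (hLext _ _ fun x => ?_)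
      rw [hrho, Units.val_one, Module.End.one_apply]
      exact ((c.eq_iff x.2 (α x).2).2 (by rw [← Subgroup.coe_inv, ← Subgroup.coe_mul, mem_phi]; exact h x)).symm
  have hinn1 : ∀ a ∈ Inn E, ρ a = 1 := by
    rintro _ ⟨g, rfl⟩
    refine Units.ext (hLext _ _ fun x => ?_)
    rw [hrho, Units.val_one, Module.End.one_apply, MulAut.conj_apply, Subgroup.coe_mul, Subgroup.coe_mul,
      Subgroup.coe_inv, c.map_conj g.2 x.2]
  -- the kernel
  let K : Subgroup A := ρ.ker.subgroupOf A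
  have hK : ∀ a : A, a ∈ K ↔ ρ a = 1 := fun a => Subgroup.mem_subgroupOf
  have hKp : IsPGroup p K := FusionEssential.PClosed.isPGroup_of_coprime_trivial K fun a ha hco =>
    Subtype.ext (Resistant67.eq_one_of_trivial_frattini hEp (by rwa [Subgroup.orderOf_coe])
      ((htriv a).1 ((hK a).1 ha)))
  have hker : ∀ a ∈ A, ρ a = 1 → a ∈ Inn E := fun a ha h1 =>
    (radical_of_essential hS hF hess).2.le ⟨⟨a, ha⟩,
      (le_sSup (a := K) ⟨inferInstance, hKp⟩ : K ≤ pCore p A) ((hK ⟨a, ha⟩).2 h1), rfl⟩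
  have hback : ∀ a ∈ A, ρ a ∈ R.map ρ → a ∈ R := by
    rintro a ha ⟨r, hr, hra⟩
    have h1 : r⁻¹ * a ∈ Inn E := hker _ (A.mul_mem (A.inv_mem (hRA hr)) ha) (by rw [map_mul, map_inv, hra, inv_mul_cancel])
    simpa using R.mul_mem hr (hIR h1)
  obtain ⟨M, ⟨a0, ha0, ha0M⟩, hRM, hctrl, -⟩ := FusionEssential.exists_data hS hF hess
  obtain ⟨Ry, hRy⟩ := fullyAutomized_of_fullyNormalized hS hF hess.2.1 |>.2
  -- the Sylow subgroup inside `A ⊓ M`
  have hsylM : ∀ T ≤ A ⊓ M, IsPGroup p T → ∃ a ∈ A ⊓ M, ∀ t ∈ T, a * t * a⁻¹ ∈ R := by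
    intro T hT hTp
    have hR' : R ≤ A ⊓ M := le_inf hRA hRM
    obtain ⟨W, hW⟩ := ((isPGroup_autInducedBy hS E).of_equiv (Subgroup.subgroupOfEquivOfLe hR').symm).exists_le_sylow
    have hWR : (W : Subgroup ↥(A ⊓ M)) = R.subgroupOf (A ⊓ M) := by
      refine le_antisymm ?_ hW
      obtain ⟨a, ha, haW⟩ := exists_conj_le_sylow Ry hRy (T := (W : Subgroup ↥(A ⊓ M)).map (A ⊓ M).subtype)
        ((Subgroup.map_subtype_le _).trans inf_le_left) (W.isPGroup'.map _)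
      have hc : Nat.card (W : Subgroup ↥(A ⊓ M)) ≤ Nat.card R := by
        haveI : Finite R := inferInstance
        refine Nat.card_le_card_of_injective (fun w => (⟨a * (w.1 : MulAut E) * a⁻¹, haW _ ⟨w.1, w.2, rfl⟩⟩ : R)) ?_
        intro w w' hww
        exact Subtype.ext (Subtype.ext (mul_left_cancel (mul_right_cancel (congrArg Subtype.val hww))))
      rw [← Nat.card_congr (Subgroup.subgroupOfEquivOfLe hR').toEquiv] at hc
      exact (Subgroup.eq_of_le_of_card_ge hW hc).ge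
    exact exists_conj_le_sylow W hWR hT hTp
  have hkerp : ∀ B ≤ A, ∀ Q : Subgroup (GV p V), IsPGroup p Q → IsPGroup p ↥((Q.comap ρ) ⊓ B) := by
    intro B hB Q hQ
    have hI : IsPGroup p (Inn E) := (isPGroup_autInducedBy hS E).to_le hIR
    rintro ⟨a, haQ, haB⟩
    obtain ⟨i, hi⟩ := hQ ⟨ρ a, haQ⟩
    have h1 : a ^ p ^ i ∈ Inn E := hker _ (A.pow_mem (hB haB) _) (by rw [map_pow]; exact congrArg Subtype.val hi)
    obtain ⟨j, hj⟩ := hI ⟨_, h1⟩
    exact ⟨i + j, Subtype.ext (by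
      rw [pow_add, pow_mul, Subgroup.coe_pow, Subgroup.coe_pow, Subgroup.coe_one]
      exact congrArg Subtype.val hj)⟩
  refine ⟨V, inferInstance, inferInstance, inferInstance,
    ⟨⟨c, ρ, hrho, hV, (A ⊓ M).map ρ, ⟨?_, ?_, ?_, ?_, ?_, ?_, ?_, ?_⟩, hker⟩⟩⟩
  · exact (isPGroup_autInducedBy hS E).map ρ
  · exact Subgroup.map_mono (le_inf hRA hRM)
  · exact Subgroup.map_mono inf_le_left
  · intro h
    obtain ⟨g, hg⟩ := exists_normalizer_not_mem hS hF hess
    refine not_inn_of_not_mem (hess.1.2 E (isConj_refl F hES)) hES g.2 hg (hker _ (conjN F hES g).2 ?_)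
    exact (Subgroup.map_eq_bot_iff R).1 h (mem_autInducedBy.2 ⟨g, g.2.1, fun _ => rfl⟩)
  · intro Q hQ hQp
    obtain ⟨a, ha, haR⟩ := exists_conj_le_sylow Ry hRy (T := Q.comap ρ ⊓ A) inf_le_right (hkerp A le_rfl Q hQp)
    refine ⟨ρ a, ⟨a, ha, rfl⟩, fun q hq => ?_⟩
    obtain ⟨b, hb, rfl⟩ := hQ hq
    exact ⟨_, haR b ⟨hq, hb⟩, by simp⟩
  · intro Q hQ hQp
    obtain ⟨a, ha, haR⟩ := hsylM (Q.comap ρ ⊓ (A ⊓ M)) inf_le_right (hkerp _ inf_le_left Q hQp)
    refine ⟨ρ a, ⟨a, ha, rfl⟩, fun q hq => ?_⟩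
    obtain ⟨b, hb, rfl⟩ := hQ hq
    exact ⟨_, haR b ⟨hq, hb⟩, by simp⟩
  · refine ⟨ρ a0, ⟨a0, ha0, rfl⟩, ?_⟩
    rintro ⟨m, hm, hma⟩
    refine ha0M ?_
    have h1 : m⁻¹ * a0 ∈ Inn E := hker _ (A.mul_mem (A.inv_mem hm.1) ha0) (by rw [map_mul, map_inv, hma, inv_mul_cancel])
    simpa using M.mul_mem hm.2 (hRM (hIR h1))
  · rintro _ ⟨a, ha, rfl⟩ _ ⟨u, hu, rfl⟩ hu1 hau
    refine ⟨a, ⟨ha, hctrl a ha u hu (fun h => hu1 (hinn1 u h)) (hback _ (A.mul_mem (A.mul_mem ha (hRA hu)) (A.inv_mem ha)) ?_)⟩, rfl⟩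
    rwa [map_mul, map_mul, map_inv]

namespace Auto

variable {V : Type u} [AddCommGroup V] [Module (ZMod p) V] [Finite V]

/-- The action of an element of `N_S(E)` on the Frattini quotient. -/
theorem exists_rho_conj (d : Auto F p E V) (hES : E ≤ S) {g : Ω} (hg : g ∈ normalizerIn S E) :
    ∃ z ∈ (autInducedBy S E).map d.ρ, ∀ x ∈ E, z.1 (d.c.v x) = d.c.v (g * x * g⁻¹) := by
  refine ⟨_, ⟨(conjN F hES ⟨g, hg⟩ : MulAut E), mem_autInducedBy.2 ⟨g, hg.1, fun _ => rfl⟩, rfl⟩, fun x hx => ?_⟩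
  exact d.rho (conjN F hES ⟨g, hg⟩ : MulAut E) ⟨x, hx⟩

theorem gv_ext (d : Auto F p E V) {z z' : GV p V} (h : ∀ x ∈ E, z.1 (d.c.v x) = z'.1 (d.c.v x)) : z = z' :=
  Units.ext_apply fun w => by obtain ⟨x, hx, rfl⟩ := d.c.surj w; exact h x hx

/-- An element of `N_S(E)` acting trivially lies in `E`. -/
theorem mem_of_trivial (d : Auto F p E V) (hess : F.IsEssential p E) {g : Ω} (hg : g ∈ normalizerIn S E)
    (h : ∀ x ∈ E, d.c.v (g * x * g⁻¹) = d.c.v x) : g ∈ E := by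
  have hES : E ≤ S := hess.2.1.1
  by_contra hgE
  refine not_inn_of_not_mem (hess.1.2 E (isConj_refl F hES)) hES hg hgE (d.ker _ (conjN F hES ⟨g, hg⟩).2 ?_)
  refine d.gv_ext fun x hx => ?_
  exact (d.rho (conjN F hES ⟨g, hg⟩ : MulAut E) ⟨x, hx⟩).trans (h x hx)

/-- `N_S(E) / E` has order `p`. -/
theorem exists_eq_mul_pow (d : Auto F p E V) (hp : 3 ≤ p) (hess : F.IsEssential p E) {x n : Ω}
    (hx : x ∈ normalizerIn S E) (hxE : x ∉ E) (hn : n ∈ normalizerIn S E) :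
    x ^ p ∈ E ∧ ∃ k : ℕ, ∃ e ∈ E, n = e * x ^ k := by
  have hES : E ≤ S := hess.2.1.1
  let f : normalizerIn S E →* GV p V := d.ρ.comp ((F.autGroup E).subtype.comp (conjN F hES))
  have hfP : ∀ g, f g ∈ (autInducedBy S E).map d.ρ := fun g => ⟨_, mem_autInducedBy.2 ⟨g, g.2.1, fun _ => rfl⟩, rfl⟩
  have hker : ∀ g : normalizerIn S E, f g = 1 → (g : Ω) ∈ E := fun g hg => d.mem_of_trivial hess g.2 fun y hy => by
    have := d.rho (conjN F hES g : MulAut E) ⟨y, hy⟩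
    rw [show d.ρ (conjN F hES g : MulAut E) = 1 from hg] at this
    exact this.symm
  set gx : normalizerIn S E := ⟨x, hx⟩
  have hx1 : f gx ≠ 1 := fun h => hxE (hker _ h)
  refine ⟨?_, ?_⟩
  · have := hker (gx ^ p) (by rw [map_pow]; exact Embedded.pow_p_P hp d.card d.emb (hfP _))
    exact this
  · obtain ⟨k, hk⟩ := (Embedded.mem_P_iff hp d.card d.emb (hfP gx) hx1).1 (hfP ⟨n, hn⟩)
    have := hker (⟨n, hn⟩ * (gx ^ k)⁻¹) (by rw [map_mul, map_inv, map_pow, hk, mul_inv_cancel])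
    exact ⟨k, _, this, by simp [gx]⟩

end Auto

end Cfsg.Agent.Lib.EssentialRankThree
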