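import Cfsg.Agent.Lib.EssentialRankThree.TData

/-!
# A pure elementary automorphism of the normaliser

A `p`-element of the automiser that moves `E` can be improved, using the weights of `γ`, to one inducing
`e ↦ e x` or `w ↦ w x` on the Frattini quotient.
-/

set_option autoImplicit false
set_option linter.style.haveILetI false
set_option linter.unusedSectionVars false

namespace Cfsg.Agent.Lib.EssentialRankThree

open Cfsg Cfsg.Agent.Lib Cfsg.Agent.Lib.FS
open Cfsg.Agent.Lib.EssentialRankThree.Units (GV dd dd_apply)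

universe u

/-- A nilpotent matrix of size two has trace and determinant zero. -/
theorem nil_two {K : Type*} [Field K] {a b c d : K} (h11 : a * a * a + 2 * (a * b * c) + b * c * d = 0)
    (h21 : c * (a * a + a * d + d * d + b * c) = 0) (h12 : b * (a * a + a * d + d * d + b * c) = 0)
    (h22 : d * d * d + 2 * (b * c * d) + a * b * c = 0) : d = -a ∧ b * c = -(a * a) := by
  have hdet : (a * d - b * c) ^ 3 = 0 := by
    linear_combination (d * d * d + 2 * (b * c * d) + a * b * c) * h11 - b * (a * a + a * d + d * d + b * c) * h21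
  have hdet' : a * d - b * c = 0 := (pow_eq_zero_iff three_ne_zero).1 hdet
  have h1 : a * (a + d) ^ 2 = 0 := by linear_combination h11 + (2 * a + d) * hdet'
  have h2 : d * (a + d) ^ 2 = 0 := by linear_combination h22 + (a + 2 * d) * hdet'
  have h3 : a + d = 0 := (pow_eq_zero_iff three_ne_zero).1 (by linear_combination h1 + h2)
  exact ⟨by linear_combination h3, by linear_combination a * h3 - hdet'⟩

variable {p : ℕ} [Fact p.Prime] {G : Type u} [Group G] [Finite G] {E : Subgroup G} {γ : MulAut G} {t : ZMod p}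
  {D : TData p E γ t} {U W : Type u} [AddCommGroup U] [Module (ZMod p) U] [Finite U] [AddCommGroup W]
  [Module (ZMod p) W] (C : TCoord D U W) (A : Subgroup (MulAut G))

/-- The hypotheses on the automiser. -/
structure AData (A : Subgroup (MulAut G)) : Prop where
  hγ : γ ∈ A
  hfix : ∀ α ∈ A, (∃ k, α ^ p ^ k = 1) → (∀ y ∈ E, α y ∈ E) → C.ρ α = 1

namespace AData

open TCoord

variable {C A} (hA : AData C A) (hG : IsPGroup p G) (hp : 3 ≤ p)
include hA hG hp

omit hA in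
theorem cube (C : TCoord D U W) {σ : GV p U} (hσ : σ ^ p = 1) (v : U) : dd σ (dd σ (dd σ v)) = 0 :=
  Units.dd_cube C.card_U (k := 1) (by rwa [pow_one]) v

omit hA hG in
/-- An element of order `p` of the image comes from a `p`-element. -/
theorem exists_lift {σ : GV p U} (hσA : σ ∈ A.map C.ρ) (hσ : σ ^ p = 1) :
    ∃ α ∈ A, (∃ k, α ^ p ^ k = 1) ∧ C.ρ α = σ := by
  obtain ⟨α, hα, rfl⟩ := hσA
  obtain ⟨n, hn, k, hk⟩ := FS.exists_pow_pElement (p := p) α
  obtain ⟨u, hu⟩ := Nat.exists_mul_mod_eq_one_of_coprime ((Fact.out : p.Prime).coprime_iff_not_dvd.2 hn).symm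
    (Fact.out : p.Prime).one_lt
  refine ⟨(α ^ n) ^ u, A.pow_mem (A.pow_mem hα n) u, ⟨k, ?_⟩, ?_⟩
  · rw [← pow_mul, mul_comm, pow_mul, ← hk, pow_orderOf_eq_one, one_pow]
  · rw [map_pow, map_pow, ← pow_mul, ← Nat.mod_add_div (n * u) p, pow_add, pow_mul, hσ, one_pow, mul_one, hu.2,
      pow_one]

omit hG in
/-- An element of order `p` preserving the image of `E` is trivial. -/
theorem eq_one {σ : GV p U} (hσA : σ ∈ A.map C.ρ) (hσ : σ ^ p = 1)
    (h1 : ∃ i k : ZMod p, σ.1 C.E0 = i • C.E0 + k • C.W0) (h2 : ∃ i k : ZMod p, σ.1 C.W0 = i • C.E0 + k • C.W0) :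
    σ = 1 := by
  obtain ⟨α, hα, hpα, rfl⟩ := exists_lift (C := C) (A := A) hp hσA hσ
  refine hA.hfix α hα hpα fun y hy => (C.mem_E_iff hp _).2 ?_
  obtain ⟨i, k, h⟩ := (C.mem_E_iff hp y).1 hy
  obtain ⟨i1, k1, h1⟩ := h1
  obtain ⟨i2, k2, h2⟩ := h2
  refine ⟨i * i1 + k * i2, i * k1 + k * k2, ?_⟩
  rw [← C.rho, h, map_add, map_smul, map_smul, h1, h2]
  module

omit hA in
/-- The line of `w` is invariant when `[e, w] = 0`. -/
theorem invariant_line (hF : C.F = 0) (hxw : C.b D.x D.w = 0) {σ : GV p U} (hσ : σ ∈ A.map C.ρ) :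
    ∃ l : ZMod p, σ.1 C.W0 = l • C.W0 := by
  obtain ⟨α, -, rfl⟩ := hσ
  obtain ⟨i, j, k, h⟩ := C.spanU ((C.ρ α).1 C.W0)
  have h' : C.cU.v (α D.w) = i • C.E0 + j • C.X0 + k • C.W0 := by rw [← C.rho]; exact h
  have key : ∀ m : G, C.b (α D.w) m = 0 := by
    intro m
    obtain ⟨m, rfl⟩ := α.surjective m
    obtain ⟨i', j', k', hm⟩ := C.spanU (C.cU.v m)
    rw [← b_map C hG, C.b_of_coords hG hp (i := 0) (j := 0) (k := 1) (by rw [zero_smul, zero_smul, one_smul, zero_add, zero_add]; rfl) hm,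
      hF, hxw]
    simp
  have hi : i = 0 := by
    have h1 := key D.x
    rw [C.b_of_coords hG hp h' (i' := 0) (j' := 1) (k' := 0) (by rw [zero_smul, zero_smul, one_smul, zero_add, add_zero]; rfl),
      hF, hxw] at h1
    simpa [C.Z_ne_zero hG hp] using h1
  have hj : j = 0 := by
    have h1 := key D.e
    rw [C.b_of_coords hG hp h' (i' := 1) (j' := 0) (k' := 0) (by rw [zero_smul, zero_smul, one_smul, add_zero, add_zero]; rfl),
      hF, hxw] at h1
    simpa [C.Z_ne_zero hG hp] using h1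
  exact ⟨k, by rw [h, hi, hj, zero_smul, zero_smul, zero_add, zero_add]⟩

omit hA in
/-- The plane of `x` and `w` is invariant when `[e, w] ≠ 0`. -/
theorem invariant_plane (hF : C.F ≠ 0) (hxw : C.b D.x D.w = 0) {σ : GV p U} (hσ : σ ∈ A.map C.ρ) :
    (∃ j k : ZMod p, σ.1 C.X0 = j • C.X0 + k • C.W0) ∧ ∃ j k : ZMod p, σ.1 C.W0 = j • C.X0 + k • C.W0 := by
  obtain ⟨α, -, rfl⟩ := hσ
  obtain ⟨i, j, k, h⟩ := C.spanU ((C.ρ α).1 C.X0)
  obtain ⟨i', j', k', h'⟩ := C.spanU ((C.ρ α).1 C.W0)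
  have h1 : C.b (α D.x) (α D.w) = 0 := by rw [← b_map C hG, hxw, map_zero]
  rw [C.b_of_coords hG hp (by rw [← C.rho]; exact h) (by rw [← C.rho]; exact h'), hxw, smul_zero, add_zero] at h1
  have hm1 : i * j' - j * i' = 0 :=
    C.z_indep hG hp (a := i * j' - j * i') (i := i * k' - k * i') (j := 0) (k := 0) (by simpa using h1)
  have hm2 : i * k' - k * i' = 0 := by
    rw [hm1, zero_smul, zero_add] at h1
    exact (smul_eq_zero.1 h1).resolve_right hF
  have hind : ∀ a b : ZMod p, a • (C.ρ α).1 C.X0 + b • (C.ρ α).1 C.W0 = 0 → a = 0 ∧ b = 0 := fun a b hab => by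
    rw [← map_smul, ← map_smul, ← map_add] at hab
    have h0 : a • C.X0 + b • C.W0 = 0 := Units.apply_inj (C.ρ α) (hab.trans (map_zero _).symm)
    exact (C.indepU 0 a b (by rwa [zero_smul, zero_add])).2
  have hi : i = 0 := by
    by_contra hi
    refine hi (neg_eq_zero.1 (neg_eq_zero.2 ((hind i' (-i) ?_).2 |> neg_eq_zero.1)))
    rw [h, h']
    linear_combination (norm := (match_scalars <;> ring)) (-hm1) • (1 : ZMod p) • C.X0 + (-hm2) • C.W0
  subst hi
  have hi' : i' = 0 := by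
    by_contra hi'
    have hj : j = 0 := (mul_eq_zero.1 (by linear_combination -hm1 : j * i' = 0)).resolve_right hi'
    have hk : k = 0 := (mul_eq_zero.1 (by linear_combination -hm2 : k * i' = 0)).resolve_right hi'
    exact one_ne_zero (hind 1 0 (by rw [h, hj, hk]; simp)).1
  exact ⟨⟨j, k, by rw [h, zero_smul, zero_add]⟩, ⟨j', k', by rw [h', hi', zero_smul, zero_add]⟩⟩

omit hG hp in
theorem gamma_mem : C.ρ γ ∈ A.map C.ρ := ⟨γ, hA.hγ, rfl⟩

omit hA in
/-- Values of a conjugate by `γ`. -/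
theorem conj_gamma (ht : t ≠ 0) (σ : GV p U) {s a b c : ZMod p} {v : U} (hv : (C.ρ γ).1 v = s • v) (hs : s ≠ 0)
    (hσv : σ.1 v = a • C.E0 + b • C.X0 + c • C.W0) :
    (C.ρ γ * σ * (C.ρ γ)⁻¹).1 v = (s⁻¹ * t⁻¹ * a) • C.E0 + (s⁻¹ * t ^ 2 * b) • C.X0 + (s⁻¹ * c) • C.W0 := by
  have hinv : (C.ρ γ)⁻¹.1 v = s⁻¹ • v := Units.apply_inj (C.ρ γ) (by
    rw [Units.apply_inv_self, map_smul, hv, smul_smul, inv_mul_cancel₀ hs, one_smul])
  rw [Units.mul_apply, Units.mul_apply, hinv, map_smul, map_smul, hσv, map_add, map_add, map_smul, map_smul, map_smul,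
    C.gamma_E0, C.gamma_X0, C.gamma_W0]
  module

omit hA hG in
/-- Powers of an element of order `p`. -/
theorem pow_val {σ : GV p U} (h3 : ∀ v, dd σ (dd σ (dd σ v)) = 0) (m : ZMod p) (v : U) :
    ∃ n : ZMod p, (σ ^ m.val).1 v = v + m • dd σ v + n • dd σ (dd σ v) :=
  ⟨(m.val.choose 2 : ZMod p), by rw [Units.pow_apply σ h3, ZMod.natCast_zmod_val]⟩

/-- The pure element when `[e, w] = 0`. -/
theorem pure_of_line (ht : t ≠ 0) (ht2 : t ^ 2 ≠ 1) (ht3 : t ^ 3 ≠ 1) (ht5 : t ^ 5 ≠ 1) (hF : C.F = 0)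
    (hxw : C.b D.x D.w = 0) {u : GV p U} (hu : u ∈ A.map C.ρ) (hup : u ^ p = 1) (hu1 : u ≠ 1) :
    ∃ σ ∈ A.map C.ρ, σ ^ p = 1 ∧ σ.1 C.E0 = C.E0 + C.X0 ∧ σ.1 C.X0 = C.X0 ∧ σ.1 C.W0 = C.W0 := by
  -- elements of order `p` fix `w`
  have hW : ∀ {σ : GV p U}, σ ∈ A.map C.ρ → σ ^ p = 1 → dd σ C.W0 = 0 := by
    intro σ hσ hσp
    obtain ⟨l, hl⟩ := invariant_line (C := C) (A := A) hG hp hF hxw hσ
    have hd : dd σ C.W0 = (l - 1) • C.W0 := by rw [dd_apply, hl, sub_smul, one_smul]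
    have h3 := cube (C := C) hG hp hσp C.W0
    rw [hd, map_smul, hd, map_smul, map_smul, hd, smul_smul, smul_smul] at h3
    obtain ⟨-, -, h4⟩ := C.indepU 0 0 ((l - 1) * (l - 1) * (l - 1)) (by rw [zero_smul, zero_smul, zero_add, zero_add]; exact h3)
    rw [hd, show l - 1 = 0 from (pow_eq_zero_iff three_ne_zero).1 (by linear_combination h4), zero_smul]
  obtain ⟨a, c, e1, hDE⟩ := C.spanU (dd u C.E0)
  obtain ⟨b, d, e2, hDX⟩ := C.spanU (dd u C.X0)
  have hDW := hW hu hup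
  obtain ⟨hd, hbc⟩ : d = -a ∧ b * c = -(a * a) := by
    have h3E := cube (C := C) hG hp hup C.E0
    have h3X := cube (C := C) hG hp hup C.X0
    simp only [hDE, hDX, hDW, map_add, map_smul, smul_zero, add_zero] at h3E h3X
    obtain ⟨q11, q21, -⟩ := C.indepU (a * a * a + 2 * (a * b * c) + b * c * d) (c * (a * a + a * d + d * d + b * c))
      ((a * a + b * c) * e1 + (a * c + c * d) * e2) (by linear_combination (norm := module) h3E)
    obtain ⟨q12, q22, -⟩ := C.indepU (b * (a * a + a * d + d * d + b * c)) (d * d * d + 2 * (b * c * d) + a * b * c)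
      ((a * b + b * d) * e1 + (b * c + d * d) * e2) (by linear_combination (norm := module) h3X)
    exact nil_two q11 q21 q12 q22
  subst hd
  -- an element fixing `x` modulo `w`
  obtain ⟨v, hvA, hvp, hv1, δ, hDvX⟩ : ∃ v ∈ A.map C.ρ, v ^ p = 1 ∧ v ≠ 1 ∧ ∃ δ : ZMod p, dd v C.X0 = δ • C.W0 := by
    by_cases hb : b = 0
    · subst hb
      rw [zero_mul, zero_eq_neg, mul_self_eq_zero] at hbc
      exact ⟨u, hu, hup, hu1, e2, by rw [hDX, hbc, neg_zero, zero_smul, zero_smul, zero_add, zero_add]⟩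
    · have ha : a ≠ 0 := fun ha => by
        subst ha
        have hc : c = 0 := by simpa [hb] using hbc
        subst hc
        exact hu1 (hA.eq_one hp hu hup ⟨1, e1, by rw [Units.apply_eq u C.E0, hDE]; simp⟩
          ⟨0, 1, by rw [Units.apply_eq u C.W0, hDW]; simp⟩)
      set u1 := C.ρ γ * u * (C.ρ γ)⁻¹ with hu1'
      have h1E := conj_gamma (C := C) hG hp ht u C.gamma_E0 (inv_ne_zero ht)
        (show u.1 C.E0 = (1 + a) • C.E0 + c • C.X0 + e1 • C.W0 by rw [Units.apply_eq u, hDE]; module)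
      have h1X := conj_gamma (C := C) hG hp ht u C.gamma_X0 (pow_ne_zero 2 ht)
        (show u.1 C.X0 = b • C.E0 + (1 + -a) • C.X0 + e2 • C.W0 by rw [Units.apply_eq u, hDX]; module)
      have h1W := conj_gamma (C := C) hG hp ht u (show (C.ρ γ).1 C.W0 = (1 : ZMod p) • C.W0 by rw [one_smul, C.gamma_W0]) one_ne_zero
        (show u.1 C.W0 = (0 : ZMod p) • C.E0 + (0 : ZMod p) • C.X0 + (1 : ZMod p) • C.W0 by rw [Units.apply_eq u, hDW]; simp)
      rw [← hu1'] at h1E h1X h1W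
      set s := (t ^ 3)⁻¹ with hs
      have hs1 : s - 1 ≠ 0 := sub_ne_zero.2 fun h => ht3 (by rwa [hs, inv_eq_one] at h)
      set j := -s / (a * (s - 1)) with hj
      have hja : j * (a * (s - 1)) = -s := div_mul_cancel₀ _ (mul_ne_zero ha hs1)
      set v1 := (b * s) • C.E0 + (-a) • C.X0 with hv1
      obtain ⟨r, hr⟩ : ∃ r : ZMod p, u1.1 v1 = v1 + r • C.W0 := by
        refine ⟨b * s * (t * e1) + -a * ((t ^ 2)⁻¹ * e2), ?_⟩
        rw [hv1, map_add, map_smul, map_smul, h1E, h1X, inv_inv]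
        match_scalars <;> rw [hs] <;> field_simp <;> first | ring1 | linear_combination hbc | linear_combination -hbc
      obtain ⟨n, hn⟩ := pow_val hp (cube (C := C) hG hp hup) j v1
      have hnX : (u ^ j.val).1 v1 = (a * (s - 1)) • C.X0 +
          (j * (b * s * e1 - a * e2) + n * ((b * s * a - a * b) * e1 + (b * s * c + a * a) * e2)) • C.W0 := by
        rw [hn, hv1]
        simp only [map_add, map_smul, hDE, hDX, hDW, smul_zero, add_zero]
        match_scalars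
        · linear_combination b * hja + n * (s * b) * hbc
        · linear_combination (-a) * hja + (j * s - n * a) * hbc
        · ring
      have hjA : u ^ j.val ∈ A.map C.ρ := pow_mem hu _
      have hu1A : u1 ∈ A.map C.ρ := mul_mem (mul_mem hA.gamma_mem hu) (inv_mem hA.gamma_mem)
      refine ⟨u ^ j.val * u1 * (u ^ j.val)⁻¹, mul_mem (mul_mem hjA hu1A) (inv_mem hjA), ?_, ?_,
        r / (a * (s - 1)), ?_⟩
      · rw [conj_pow, hu1', conj_pow, hup]; group
      · intro h; rw [conj_eq_one_iff, hu1', conj_eq_one_iff] at h; exact hu1 h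
      set w' := j * (b * s * e1 - a * e2) + n * ((b * s * a - a * b) * e1 + (b * s * c + a * a) * e2)
      have hfixW : ∀ (k : ℕ), (u ^ k).1 C.W0 = C.W0 := fun k => by
        rw [Units.pow_apply u (cube (C := C) hG hp hup), hDW, map_zero, smul_zero, smul_zero, add_zero, add_zero]
      have hinvW : (u ^ j.val)⁻¹.1 C.W0 = C.W0 := Units.apply_inj (u ^ j.val) (by rw [Units.apply_inv_self, hfixW])
      have h1W' : u1.1 C.W0 = C.W0 := by rw [h1W]; simp
      have h1 : (u ^ j.val * u1 * (u ^ j.val)⁻¹).1 ((u ^ j.val).1 v1) = (u ^ j.val).1 v1 + r • C.W0 := by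
        rw [← Units.mul_apply, mul_assoc, inv_mul_cancel, mul_one, Units.mul_apply, hr, map_add, map_smul, hfixW]
      rw [hnX, map_add, map_smul, map_smul,
        show (u ^ j.val * u1 * (u ^ j.val)⁻¹).1 C.W0 = C.W0 by
          rw [Units.mul_apply, Units.mul_apply, hinvW, h1W', hfixW]] at h1
      rw [dd_apply, div_eq_inv_mul, mul_smul]
      refine smul_right_injective U (mul_ne_zero ha hs1) ?_
      show (a * (s - 1)) • (_ - _) = (a * (s - 1)) • _
      rw [smul_smul _ _ (r • C.W0), mul_inv_cancel₀ (mul_ne_zero ha hs1), one_smul]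
      linear_combination (norm := module) h1
  have hDvW := hW hvA hvp
  obtain ⟨a', α, β, hDvE⟩ := C.spanU (dd v C.E0)
  have h3 := cube (C := C) hG hp hvp
  have ha' : a' = 0 := by
    have h := h3 C.E0
    simp only [hDvE, hDvX, hDvW, map_add, map_smul, smul_zero, add_zero] at h
    obtain ⟨q, -, -⟩ := C.indepU (a' * a' * a') (a' * a' * α) (a' * a' * β + a' * α * δ)
      (by linear_combination (norm := module) h)
    exact (pow_eq_zero_iff three_ne_zero).1 (by linear_combination q)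
  subst ha'
  rw [zero_smul, zero_add] at hDvE
  have hα : α ≠ 0 := fun h => hv1 (hA.eq_one hp hvA hvp ⟨1, β, by rw [Units.apply_eq v C.E0, hDvE, h]; simp⟩
    ⟨0, 1, by rw [Units.apply_eq v C.W0, hDvW]; simp⟩)
  -- compare with the conjugate by `γ`
  set c' := C.ρ γ * v * (C.ρ γ)⁻¹ with hc'
  have hc'A : c' ∈ A.map C.ρ := mul_mem (mul_mem hA.gamma_mem hvA) (inv_mem hA.gamma_mem)
  have hcE : c'.1 C.E0 = C.E0 + (t ^ 3 * α) • C.X0 + (t * β) • C.W0 := by
    rw [hc', conj_gamma (C := C) hG hp ht v C.gamma_E0 (inv_ne_zero ht) (a := 1) (b := α) (c := β)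
      (by rw [Units.apply_eq v, hDvE]; module), inv_inv]
    match_scalars <;> field_simp <;> ring
  have hcX : c'.1 C.X0 = C.X0 + ((t ^ 2)⁻¹ * δ) • C.W0 := by
    rw [hc', conj_gamma (C := C) hG hp ht v C.gamma_X0 (pow_ne_zero 2 ht) (a := 0) (b := 1) (c := δ)
      (by rw [Units.apply_eq v, hDvX]; module)]
    match_scalars <;> field_simp <;> ring
  have hcW : c'.1 C.W0 = C.W0 := by
    rw [hc', conj_gamma (C := C) hG hp ht v (s := 1) (by rw [one_smul, C.gamma_W0]) one_ne_zero (a := 0) (b := 0)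
      (c := 1) (by rw [Units.apply_eq v, hDvW]; module)]
    simp
  set k := (t ^ 3).val with hk
  have hvpow : ∀ x, (v ^ k).1 x = x + (t ^ 3) • dd v x + ((k.choose 2 : ℕ) : ZMod p) • dd v (dd v x) := fun x => by
    rw [Units.pow_apply v h3, hk, ZMod.natCast_zmod_val]
  set n := ((k.choose 2 : ℕ) : ZMod p)
  have hvkW : (v ^ k).1 C.W0 = C.W0 := by rw [hvpow, hDvW]; simp
  have hvkX : (v ^ k).1 C.X0 = C.X0 + (t ^ 3 * δ) • C.W0 := by rw [hvpow, hDvX, map_smul, hDvW]; module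
  have hvkE : (v ^ k).1 C.E0 = C.E0 + (t ^ 3 * α) • C.X0 + (t ^ 3 * β + n * α * δ) • C.W0 := by
    rw [hvpow, hDvE]; simp only [map_add, map_smul, hDvX, hDvW]; module
  set q := (v ^ k)⁻¹ * c' with hq
  have hqA : q ∈ A.map C.ρ := mul_mem (inv_mem (pow_mem hvA k)) hc'A
  have hiW : (v ^ k)⁻¹.1 C.W0 = C.W0 := Units.apply_inj (v ^ k) (by rw [Units.apply_inv_self, hvkW])
  have hqW : q.1 C.W0 = C.W0 := by rw [hq, Units.mul_apply, hcW, hiW]
  have hqE : q.1 C.E0 = C.E0 + (t * β - t ^ 3 * β - n * α * δ) • C.W0 := by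
    rw [hq, Units.mul_apply]; refine Units.apply_inj (v ^ k) ?_
    rw [Units.apply_inv_self, hcE, map_add, map_smul, hvkE, hvkW]; module
  have hqX : q.1 C.X0 = C.X0 + ((t ^ 2)⁻¹ * δ - t ^ 3 * δ) • C.W0 := by
    rw [hq, Units.mul_apply]; refine Units.apply_inj (v ^ k) ?_
    rw [Units.apply_inv_self, hcX, map_add, map_smul, hvkX, hvkW]; module
  have hqp : q ^ p = 1 := by
    refine Units.pow_p_of_cube hp q fun x => ?_
    obtain ⟨x1, x2, x3, rfl⟩ := C.spanU x
    simp only [dd_apply, map_add, map_sub, map_smul, hqE, hqX, hqW]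
    module
  have hq1 := hA.eq_one hp hqA hqp ⟨1, _, by rw [hqE, one_smul]⟩ ⟨0, 1, by rw [hqW, zero_smul, one_smul, zero_add]⟩
  have hδ : δ = 0 := by
    have h1 := hqX
    rw [hq1, Units.val_one, Module.End.one_apply, left_eq_add, smul_eq_zero] at h1
    have hW0 : C.W0 ≠ 0 := fun h => one_ne_zero (C.indepU 0 0 1 (by simp [h])).2.2
    have h2 := h1.resolve_right hW0
    field_simp at h2
    have h3' : δ * (1 - t ^ 5) = 0 := by linear_combination h2
    exact (mul_eq_zero.1 h3').resolve_right (sub_ne_zero.2 (Ne.symm ht5))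
  have hβ : β = 0 := by
    have h1 := hqE
    rw [hq1, Units.val_one, Module.End.one_apply, left_eq_add, smul_eq_zero, hδ] at h1
    have hW0 : C.W0 ≠ 0 := fun h => one_ne_zero (C.indepU 0 0 1 (by simp [h])).2.2
    have h2 : β * (t * (1 - t ^ 2)) = 0 := by linear_combination h1.resolve_right hW0
    exact (mul_eq_zero.1 h2).resolve_right (mul_ne_zero ht (sub_ne_zero.2 (Ne.symm ht2)))
  subst hδ hβ
  refine ⟨v ^ (α⁻¹).val, pow_mem hvA _, by rw [← pow_mul, mul_comm, pow_mul, hvp, one_pow], ?_, ?_, ?_⟩ <;>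
    rw [Units.pow_apply v h3, ZMod.natCast_zmod_val]
  · simp [hDvE, hDvX, smul_smul, inv_mul_cancel₀ hα]
  · simp [hDvX]
  · simp [hDvW]

/-- The pure element when `[e, w] ≠ 0`. -/
theorem pure_of_plane (ht : t ≠ 0) (ht2 : t ^ 2 ≠ 1) (ht5 : t ^ 5 ≠ 1) (hF : C.F ≠ 0) (hxw : C.b D.x D.w = 0)
    {u : GV p U} (hu : u ∈ A.map C.ρ) (hup : u ^ p = 1) (hu1 : u ≠ 1) :
    ∃ σ ∈ A.map C.ρ, σ ^ p = 1 ∧ ((σ.1 C.E0 = C.E0 + C.X0 ∧ σ.1 C.X0 = C.X0 ∧ σ.1 C.W0 = C.W0) ∨
      (σ.1 C.E0 = C.E0 ∧ σ.1 C.X0 = C.X0 ∧ σ.1 C.W0 = C.W0 + C.X0)) := by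
  have hW0 : C.W0 ≠ 0 := fun h => one_ne_zero (C.indepU 0 0 1 (by simp [h])).2.2
  have hX0 : C.X0 ≠ 0 := fun h => one_ne_zero (C.indepU 0 1 0 (by simp [h])).2.1
  -- shapes of elements of order `p`
  have hshape : ∀ {σ : GV p U}, σ ∈ A.map C.ρ → σ ^ p = 1 → ∃ a b c α β : ZMod p, b * c = -(a * a) ∧
      dd σ C.X0 = a • C.X0 + c • C.W0 ∧ dd σ C.W0 = b • C.X0 + (-a) • C.W0 ∧ dd σ C.E0 = α • C.X0 + β • C.W0 := by
    intro σ hσ hσp
    obtain ⟨⟨a1, c, h1⟩, b, d1, h2⟩ := invariant_plane (C := C) (A := A) hG hp hF hxw hσ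
    obtain ⟨l, α, β, h3⟩ := C.spanU (dd σ C.E0)
    have hX : dd σ C.X0 = (a1 - 1) • C.X0 + c • C.W0 := by rw [dd_apply, h1]; module
    have hW : dd σ C.W0 = b • C.X0 + (d1 - 1) • C.W0 := by rw [dd_apply, h2]; module
    obtain ⟨a, rfl⟩ : ∃ a, a1 = 1 + a := ⟨a1 - 1, by ring⟩
    obtain ⟨d, rfl⟩ : ∃ d, d1 = 1 + d := ⟨d1 - 1, by ring⟩
    rw [add_sub_cancel_left] at hX hW
    have cX := cube (C := C) hG hp hσp C.X0
    have cW := cube (C := C) hG hp hσp C.W0
    have cE := cube (C := C) hG hp hσp C.E0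
    simp only [hX, hW, h3, map_add, map_smul] at cX cW cE
    obtain ⟨-, q11, q21⟩ := C.indepU 0 (a * a * a + 2 * (a * b * c) + b * c * d) (c * (a * a + a * d + d * d + b * c))
      (by linear_combination (norm := module) cX)
    obtain ⟨-, q12, q22⟩ := C.indepU 0 (b * (a * a + a * d + d * d + b * c)) (d * d * d + 2 * (b * c * d) + a * b * c)
      (by linear_combination (norm := module) cW)
    obtain ⟨hd, hbc⟩ := nil_two q11 q21 q12 q22
    obtain ⟨q, -, -⟩ := C.indepU (l * l * l) (l * l * α + l * (α * a + β * b) + ((α * a + β * b) * a + (α * c + β * d) * b))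
      (l * l * β + l * (α * c + β * d) + ((α * a + β * b) * c + (α * c + β * d) * d))
      (by linear_combination (norm := module) cE)
    have hl : l = 0 := (pow_eq_zero_iff three_ne_zero).1 (by linear_combination q)
    subst hl hd
    exact ⟨a, b, c, α, β, hbc, hX, hW, by rw [h3, zero_smul, zero_add]⟩
  -- translations
  by_cases htr : ∃ σ ∈ A.map C.ρ, σ ^ p = 1 ∧ σ ≠ 1 ∧ dd σ C.X0 = 0 ∧ dd σ C.W0 = 0
  · obtain ⟨σ, hσ, hσp, hσ1, hσX, hσW⟩ := htr
    obtain ⟨-, -, -, α, β, -, -, -, hσE⟩ := hshape hσ hσp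
    have hα : α ≠ 0 := fun h => hσ1 (hA.eq_one hp hσ hσp ⟨1, β, by rw [Units.apply_eq σ C.E0, hσE, h]; simp⟩
      ⟨0, 1, by rw [Units.apply_eq σ C.W0, hσW]; simp⟩)
    have h3 := cube (C := C) hG hp hσp
    have hpow : ∀ (k : ℕ), (σ ^ k).1 C.E0 = C.E0 + ((k : ZMod p) * α) • C.X0 + ((k : ZMod p) * β) • C.W0 ∧
        (σ ^ k).1 C.X0 = C.X0 ∧ (σ ^ k).1 C.W0 = C.W0 := fun k => by
      refine ⟨?_, ?_, ?_⟩ <;> rw [Units.pow_apply σ h3] <;>
        simp only [hσE, hσX, hσW, map_add, map_smul, map_zero, smul_zero, add_zero] <;> module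
    set c' := C.ρ γ * σ * (C.ρ γ)⁻¹ with hc'
    have hcE : c'.1 C.E0 = C.E0 + (t ^ 3 * α) • C.X0 + (t * β) • C.W0 := by
      rw [hc', conj_gamma (C := C) hG hp ht σ C.gamma_E0 (inv_ne_zero ht) (a := 1) (b := α) (c := β)
        (by rw [Units.apply_eq σ, hσE]; module), inv_inv]
      match_scalars <;> field_simp <;> ring
    have hcX : c'.1 C.X0 = C.X0 := by
      rw [hc', conj_gamma (C := C) hG hp ht σ C.gamma_X0 (pow_ne_zero 2 ht) (a := 0) (b := 1) (c := 0)
        (by rw [Units.apply_eq σ, hσX]; module)]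
      match_scalars <;> field_simp <;> ring
    have hcW : c'.1 C.W0 = C.W0 := by
      rw [hc', conj_gamma (C := C) hG hp ht σ (s := 1) (by rw [one_smul, C.gamma_W0]) one_ne_zero (a := 0) (b := 0)
        (c := 1) (by rw [Units.apply_eq σ, hσW]; module)]
      simp
    obtain ⟨e1, e2, e3⟩ := hpow (t.val)
    set q := (σ ^ t.val)⁻¹ * c' with hq
    have i2 : (σ ^ t.val)⁻¹.1 C.X0 = C.X0 := Units.apply_inj (σ ^ t.val) (by rw [Units.apply_inv_self, e2])
    have i3 : (σ ^ t.val)⁻¹.1 C.W0 = C.W0 := Units.apply_inj (σ ^ t.val) (by rw [Units.apply_inv_self, e3])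
    have hqX : q.1 C.X0 = C.X0 := by rw [hq, Units.mul_apply, hcX, i2]
    have hqW : q.1 C.W0 = C.W0 := by rw [hq, Units.mul_apply, hcW, i3]
    have hqE : q.1 C.E0 = C.E0 + (α * (t ^ 3 - t)) • C.X0 := by
      rw [hq, Units.mul_apply]; refine Units.apply_inj (σ ^ t.val) ?_
      rw [Units.apply_inv_self, hcE, map_add, map_smul, e1, e2, ZMod.natCast_zmod_val]; module
    have hqA : q ∈ A.map C.ρ :=
      mul_mem (inv_mem (pow_mem hσ _)) (mul_mem (mul_mem hA.gamma_mem hσ) (inv_mem hA.gamma_mem))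
    have hq3 : ∀ x, dd q (dd q (dd q x)) = 0 := fun x => by
      obtain ⟨x1, x2, x3, rfl⟩ := C.spanU x
      simp only [dd_apply, map_add, map_sub, map_smul, hqE, hqX, hqW]
      module
    have hα' : α * (t ^ 3 - t) ≠ 0 := by
      refine mul_ne_zero hα ?_
      rw [show t ^ 3 - t = t * (t ^ 2 - 1) by ring]
      exact mul_ne_zero ht (sub_ne_zero.2 ht2)
    refine ⟨q ^ ((α * (t ^ 3 - t))⁻¹).val, pow_mem hqA _,
      by rw [← pow_mul, mul_comm, pow_mul, Units.pow_p_of_cube hp q hq3, one_pow], Or.inl ⟨?_, ?_, ?_⟩⟩ <;>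
      rw [Units.pow_apply q hq3, ZMod.natCast_zmod_val]
    · rw [show dd q C.E0 = (α * (t ^ 3 - t)) • C.X0 by rw [dd_apply, hqE, add_sub_cancel_left], map_smul,
        show dd q C.X0 = 0 by rw [dd_apply, hqX, sub_self], smul_zero, smul_zero, add_zero, smul_smul,
        inv_mul_cancel₀ hα', one_smul]
    · simp [dd_apply, hqX]
    · simp [dd_apply, hqW]
  push Not at htr
  have htr' : ∀ σ ∈ A.map C.ρ, σ.1 C.X0 = C.X0 → σ.1 C.W0 = C.W0 →
      (∃ i j : ZMod p, σ.1 C.E0 = C.E0 + i • C.X0 + j • C.W0) → σ = 1 := by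
    rintro σ hσ h1 h2 ⟨i, j, h3⟩
    by_contra hσ1
    have hd1 : dd σ C.X0 = 0 := by rw [dd_apply, h1, sub_self]
    refine htr σ hσ (Units.pow_p_of_cube hp σ fun x => ?_) hσ1 hd1 (by rw [dd_apply, h2, sub_self])
    obtain ⟨x1, x2, x3, rfl⟩ := C.spanU x
    simp only [dd_apply, map_add, map_sub, map_smul, h1, h2, h3]
    module
  -- an element fixing `x`
  obtain ⟨v, hvA, hvp, ρ', hρ', hvX, α, β, hvW, hvE⟩ : ∃ v ∈ A.map C.ρ, v ^ p = 1 ∧ ∃ ρ' : ZMod p, ρ' ≠ 0 ∧
      dd v C.X0 = 0 ∧ ∃ α β : ZMod p, dd v C.W0 = ρ' • C.X0 ∧ dd v C.E0 = α • C.X0 + β • C.W0 := by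
    obtain ⟨a, b, c, α, β, hbc, hX, hW, hE⟩ := hshape hu hup
    by_cases hc : c = 0
    · subst hc
      rw [mul_zero, zero_eq_neg, mul_self_eq_zero] at hbc
      subst hbc
      refine ⟨u, hu, hup, b, fun hb => ?_, by rw [hX]; simp, α, β, by rw [hW]; simp, hE⟩
      subst hb
      exact hu1 (htr' u hu (by rw [Units.apply_eq u C.X0, hX]; simp) (by rw [Units.apply_eq u C.W0, hW]; simp)
        ⟨α, β, by rw [Units.apply_eq u C.E0, hE, add_assoc]⟩)
    set u1 := C.ρ γ * u * (C.ρ γ)⁻¹ with hu1'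
    have h1X := conj_gamma (C := C) hG hp ht u C.gamma_X0 (pow_ne_zero 2 ht) (a := 0) (b := 1 + a) (c := c)
      (by rw [Units.apply_eq u, hX]; module)
    have h1W := conj_gamma (C := C) hG hp ht u (s := 1) (by rw [one_smul, C.gamma_W0]) one_ne_zero (a := 0) (b := b)
      (c := 1 + -a) (by rw [Units.apply_eq u, hW]; module)
    have h1E := conj_gamma (C := C) hG hp ht u C.gamma_E0 (inv_ne_zero ht) (a := 1) (b := α) (c := β)
      (by rw [Units.apply_eq u, hE]; module)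
    rw [← hu1'] at h1X h1W h1E
    have hu1A : u1 ∈ A.map C.ρ := mul_mem (mul_mem hA.gamma_mem hu) (inv_mem hA.gamma_mem)
    by_cases ha : a = 0
    · -- the fixed line is that of `w`
      exfalso
      subst ha
      have hb : b = 0 := by simpa [hc] using hbc
      subst hb
      set k := ((t ^ 2)⁻¹).val with hk
      have h3 := cube (C := C) hG hp hup
      have hpk : ∀ x, (u ^ k).1 x = x + (t ^ 2)⁻¹ • dd u x + ((k.choose 2 : ℕ) : ZMod p) • dd u (dd u x) := fun x => by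
        rw [Units.pow_apply u h3, hk, ZMod.natCast_zmod_val]
      set n := ((k.choose 2 : ℕ) : ZMod p)
      have eX : (u ^ k).1 C.X0 = C.X0 + ((t ^ 2)⁻¹ * c) • C.W0 := by
        rw [hpk, hX]; simp only [map_add, map_smul, hW, hX]; module
      have eW : (u ^ k).1 C.W0 = C.W0 := by rw [hpk, hW]; simp only [map_add, map_smul, hW, hX]; module
      have eE : (u ^ k).1 C.E0 = C.E0 + ((t ^ 2)⁻¹ * α) • C.X0 + ((t ^ 2)⁻¹ * β + n * α * c) • C.W0 := by
        rw [hpk, hE]; simp only [map_add, map_smul, hW, hX]; module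
      set q := (u ^ k)⁻¹ * u1 with hq
      have iW : (u ^ k)⁻¹.1 C.W0 = C.W0 := Units.apply_inj (u ^ k) (by rw [Units.apply_inv_self, eW])
      have hqX : q.1 C.X0 = C.X0 := by
        rw [hq, Units.mul_apply]; refine Units.apply_inj (u ^ k) ?_
        rw [Units.apply_inv_self, h1X, eX]; match_scalars <;> field_simp <;> ring
      have hqW : q.1 C.W0 = C.W0 := by
        rw [hq, Units.mul_apply, show u1.1 C.W0 = C.W0 by rw [h1W]; simp, iW]
      set κ := t ^ 3 * α - (t ^ 2)⁻¹ * α with hκ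
      have hqE : q.1 C.E0 = C.E0 + κ • C.X0 + (t * β - (t ^ 2)⁻¹ * β - n * α * c - κ * ((t ^ 2)⁻¹ * c)) • C.W0 := by
        rw [hq, Units.mul_apply]; refine Units.apply_inj (u ^ k) ?_
        rw [Units.apply_inv_self, h1E, inv_inv, map_add, map_add, map_smul, map_smul, eE, eX, eW, hκ]
        match_scalars <;> field_simp <;> ring
      have hq1 := htr' q (mul_mem (inv_mem (pow_mem hu k)) hu1A) hqX hqW ⟨κ, _, hqE⟩
      rw [hq1, Units.val_one, Module.End.one_apply] at hqE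
      have hκ0 : κ = 0 := (C.indepU 0 κ (t * β - (t ^ 2)⁻¹ * β - n * α * c - κ * ((t ^ 2)⁻¹ * c))
        (by linear_combination (norm := module) -hqE)).2.1
      have hα0 : α = 0 := by
        rw [hκ] at hκ0
        field_simp at hκ0
        have h2 : α * (t ^ 5 - 1) = 0 := by linear_combination hκ0
        exact (mul_eq_zero.1 h2).resolve_right (sub_ne_zero.2 ht5)
      have := hA.eq_one hp hu hup ⟨1, β, by rw [Units.apply_eq u C.E0, hE, hα0]; simp⟩
        ⟨0, 1, by rw [Units.apply_eq u C.W0, hW]; simp⟩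
      exact hu1 this
    · set s := (t ^ 2)⁻¹ with hs
      have hs1 : 1 - s ≠ 0 := sub_ne_zero.2 fun h => ht2 (by rw [hs, eq_comm, inv_eq_one] at h; exact h)
      set j := -s / (a * (1 - s)) with hj
      have hja : j * (a * (1 - s)) = -s := div_mul_cancel₀ _ (mul_ne_zero ha hs1)
      set v1 := a • C.X0 + (c * s) • C.W0 with hv1
      have hr : u1.1 v1 = v1 := by
        rw [hv1, map_add, map_smul, map_smul, h1X, h1W]
        match_scalars <;> rw [hs] <;> field_simp <;> first | ring1 | linear_combination hbc | linear_combination -hbc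
      obtain ⟨n, hn⟩ := pow_val hp (cube (C := C) hG hp hup) j v1
      have hnX : (u ^ j.val).1 v1 = (a * (1 - s)) • C.X0 := by
        rw [hn, hv1]
        simp only [map_add, map_smul, hX, hW]
        match_scalars
        · linear_combination a * hja + (j * s + n * a) * hbc
        · linear_combination c * hja + n * c * s * hbc
      have hjA : u ^ j.val ∈ A.map C.ρ := pow_mem hu _
      set v := u ^ j.val * u1 * (u ^ j.val)⁻¹ with hv
      have hvA : v ∈ A.map C.ρ := mul_mem (mul_mem hjA hu1A) (inv_mem hjA)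
      have hvp : v ^ p = 1 := by rw [hv, conj_pow, hu1', conj_pow, hup]; group
      have hvX' : dd v C.X0 = 0 := by
        have h1 : v.1 ((u ^ j.val).1 v1) = (u ^ j.val).1 v1 := by
          rw [hv, ← Units.mul_apply, mul_assoc, inv_mul_cancel, mul_one, Units.mul_apply, hr]
        rw [hnX, map_smul] at h1
        rw [dd_apply, smul_right_injective U (mul_ne_zero ha hs1) h1, sub_self]
      obtain ⟨a', b', c'', α', β', hbc', hX', hW', hE'⟩ := hshape hvA hvp
      have ha' : a' = 0 ∧ c'' = 0 := by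
        have := (C.indepU 0 a' c'' (by rw [zero_smul, zero_add, ← hX', hvX'])).2
        exact this
      obtain ⟨rfl, rfl⟩ := ha'
      refine ⟨v, hvA, hvp, b', fun hb => ?_, hvX', α', β', by rw [hW']; simp, hE'⟩
      subst hb
      have hone := htr' v hvA (by rw [Units.apply_eq v C.X0, hvX', add_zero])
        (by rw [Units.apply_eq v C.W0, hW']; simp) ⟨α', β', by rw [Units.apply_eq v C.E0, hE', add_assoc]⟩
      rw [hv, conj_eq_one_iff, hu1', conj_eq_one_iff] at hone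
      exact hu1 hone
  -- compare with the conjugate by `γ`
  have h3 := cube (C := C) hG hp hvp
  set c' := C.ρ γ * v * (C.ρ γ)⁻¹ with hc'
  have hc'A : c' ∈ A.map C.ρ := mul_mem (mul_mem hA.gamma_mem hvA) (inv_mem hA.gamma_mem)
  have hcE : c'.1 C.E0 = C.E0 + (t ^ 3 * α) • C.X0 + (t * β) • C.W0 := by
    rw [hc', conj_gamma (C := C) hG hp ht v C.gamma_E0 (inv_ne_zero ht) (a := 1) (b := α) (c := β)
      (by rw [Units.apply_eq v, hvE]; module), inv_inv]
    match_scalars <;> field_simp <;> ring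
  have hcX : c'.1 C.X0 = C.X0 := by
    rw [hc', conj_gamma (C := C) hG hp ht v C.gamma_X0 (pow_ne_zero 2 ht) (a := 0) (b := 1) (c := 0)
      (by rw [Units.apply_eq v, hvX]; module)]
    match_scalars <;> field_simp <;> ring
  have hcW : c'.1 C.W0 = (t ^ 2 * ρ') • C.X0 + C.W0 := by
    rw [hc', conj_gamma (C := C) hG hp ht v (s := 1) (by rw [one_smul, C.gamma_W0]) one_ne_zero (a := 0) (b := ρ')
      (c := 1) (by rw [Units.apply_eq v, hvW]; module)]
    simp
  set k := (t ^ 2).val with hk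
  have hvpow : ∀ x, (v ^ k).1 x = x + (t ^ 2) • dd v x + ((k.choose 2 : ℕ) : ZMod p) • dd v (dd v x) := fun x => by
    rw [Units.pow_apply v h3, hk, ZMod.natCast_zmod_val]
  set n := ((k.choose 2 : ℕ) : ZMod p)
  have eX : (v ^ k).1 C.X0 = C.X0 := by rw [hvpow, hvX]; simp
  have eW : (v ^ k).1 C.W0 = (t ^ 2 * ρ') • C.X0 + C.W0 := by rw [hvpow, hvW, map_smul, hvX]; module
  have eE : (v ^ k).1 C.E0 = C.E0 + (t ^ 2 * α + n * β * ρ') • C.X0 + (t ^ 2 * β) • C.W0 := by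
    rw [hvpow, hvE]; simp only [map_add, map_smul, hvX, hvW]; module
  set q := (v ^ k)⁻¹ * c' with hq
  have hqX : q.1 C.X0 = C.X0 := by
    rw [hq, Units.mul_apply]; refine Units.apply_inj (v ^ k) ?_
    rw [Units.apply_inv_self, hcX, eX]
  have hqW : q.1 C.W0 = C.W0 := by
    rw [hq, Units.mul_apply]; refine Units.apply_inj (v ^ k) ?_
    rw [Units.apply_inv_self, hcW, eW]
  set η := t * β - t ^ 2 * β with hη
  set κ := t ^ 3 * α - (t ^ 2 * α + n * β * ρ') - η * (t ^ 2 * ρ') with hκ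
  have hqE : q.1 C.E0 = C.E0 + κ • C.X0 + η • C.W0 := by
    rw [hq, Units.mul_apply]; refine Units.apply_inj (v ^ k) ?_
    rw [Units.apply_inv_self, hcE, map_add, map_add, map_smul, map_smul, eE, eX, eW, hκ, hη]
    module
  have hq1 := htr' q (mul_mem (inv_mem (pow_mem hvA k)) hc'A) hqX hqW ⟨κ, η, hqE⟩
  rw [hq1, Units.val_one, Module.End.one_apply] at hqE
  obtain ⟨-, hκ0, hη0⟩ := C.indepU 0 κ η (by linear_combination (norm := module) -hqE)
  have ht1 : t - t ^ 2 ≠ 0 := by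
    rw [show t - t ^ 2 = t * (1 - t) by ring]
    exact mul_ne_zero ht (sub_ne_zero.2 fun h => ht2 (by rw [← h]; ring))
  have hβ : β = 0 := (mul_eq_zero.1 (by linear_combination hη0 : β * (t - t ^ 2) = 0)).resolve_right ht1
  have hα : α = 0 := by
    rw [hκ, hη0, hβ] at hκ0
    have h2 : α * (t * (t - t ^ 2)) = 0 := by linear_combination -hκ0
    exact (mul_eq_zero.1 h2).resolve_right (mul_ne_zero ht ht1)
  subst hα hβ
  refine ⟨v ^ (ρ'⁻¹).val, pow_mem hvA _, by rw [← pow_mul, mul_comm, pow_mul, hvp, one_pow], Or.inr ⟨?_, ?_, ?_⟩⟩ <;>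
    rw [Units.pow_apply v h3, ZMod.natCast_zmod_val]
  · simp [hvE]
  · simp [hvX]
  · simp [hvW, hvX, smul_smul, inv_mul_cancel₀ hρ']

/-- A pure element. -/
theorem exists_pure (ht : t ≠ 0) (ht2 : t ^ 2 ≠ 1) (ht3 : t ^ 3 ≠ 1) (ht5 : t ^ 5 ≠ 1) {α : MulAut G} (hα : α ∈ A)
    (hαp : ∃ k, α ^ p ^ k = 1) {y : G} (hy : y ∈ E) (hαy : α y ∉ E) :
    ∃ θ ∈ A, (∃ k, θ ^ p ^ k = 1) ∧
      (((C.ρ θ).1 C.E0 = C.E0 + C.X0 ∧ (C.ρ θ).1 C.X0 = C.X0 ∧ (C.ρ θ).1 C.W0 = C.W0) ∨
        (C.F ≠ 0 ∧ (C.ρ θ).1 C.E0 = C.E0 ∧ (C.ρ θ).1 C.X0 = C.X0 ∧ (C.ρ θ).1 C.W0 = C.W0 + C.X0)) := by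
  have h21 : t ^ 2 ≠ t⁻¹ := fun h => ht3 (by rw [pow_succ, h, inv_mul_cancel₀ ht])
  have hxw := C.xw_zero hG hp h21 ht2
  obtain ⟨k, hk⟩ := hαp
  set u := C.ρ α with hu
  have hup : u ^ p = 1 :=
    Units.pow_p_of_cube hp u (Units.dd_cube C.card_U (g := u) (k := k) (by rw [hu, ← map_pow, hk, map_one]))
  have hu1 : u ≠ 1 := by
    intro h
    refine hαy ((C.mem_E_iff hp _).2 ?_)
    obtain ⟨i, k', hi⟩ := (C.mem_E_iff hp y).1 hy
    exact ⟨i, k', by rw [← C.rho, ← hu, h, Units.val_one, Module.End.one_apply, hi]⟩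
  have huA : u ∈ A.map C.ρ := ⟨α, hα, rfl⟩
  by_cases hF : C.F = 0
  · obtain ⟨σ, hσ, hσp, h⟩ := hA.pure_of_line hG hp ht ht2 ht3 ht5 hF hxw huA hup hu1
    obtain ⟨θ, hθ, hθp, hθσ⟩ := exists_lift (C := C) (A := A) hp hσ hσp
    exact ⟨θ, hθ, hθp, Or.inl (hθσ ▸ h)⟩
  · obtain ⟨σ, hσ, hσp, h⟩ := hA.pure_of_plane hG hp ht ht2 ht5 hF hxw huA hup hu1
    obtain ⟨θ, hθ, hθp, hθσ⟩ := exists_lift (C := C) (A := A) hp hσ hσp
    exact ⟨θ, hθ, hθp, h.imp (fun h => hθσ ▸ h) (fun h => ⟨hF, hθσ ▸ h⟩)⟩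

end AData

end Cfsg.Agent.Lib.EssentialRankThree
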