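import Cfsg.Agent.Lib.EssentialRankThree.Units

/-!
# Subgroups of `GL₃(p)` with a strongly `p`-embedded subgroup

The Sylow `p`-subgroup has order `p`. If it is a single Jordan block the action is irreducible, and if it consists
of transvections the torus of an `SL₂` normalises it.
-/

set_option autoImplicit false
set_option linter.unusedSectionVars false

namespace Cfsg.Agent.Lib.EssentialRankThree.Embedded

open Cfsg.Agent.Lib.EssentialRankThree.Units

variable {p : ℕ}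

/-- A subgroup `M` of `X` controlling the fusion of its Sylow `p`-subgroup `P`. -/
structure Emb {G : Type*} [Group G] (p : ℕ) (X P M : Subgroup G) : Prop where
  pg : IsPGroup p P
  leM : P ≤ M
  Mle : M ≤ X
  ne : P ≠ ⊥
  syl : ∀ Q ≤ X, IsPGroup p Q → ∃ a ∈ X, ∀ q ∈ Q, a * q * a⁻¹ ∈ P
  sylM : ∀ Q ≤ M, IsPGroup p Q → ∃ a ∈ M, ∀ q ∈ Q, a * q * a⁻¹ ∈ P
  out : ∃ r ∈ X, r ∉ M
  ctrl : ∀ a ∈ X, ∀ u ∈ P, u ≠ 1 → a * u * a⁻¹ ∈ P → a ∈ M

section Group

variable {G : Type*} [Group G] {X P M : Subgroup G}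

theorem Emb.leX (h : Emb p X P M) : P ≤ X := h.leM.trans h.Mle

theorem Emb.mem_of_pGroup (h : Emb p X P M) {Q : Subgroup G} (hQ : Q ≤ X) (hQp : IsPGroup p Q) {u r : G}
    (hu : u ∈ P) (hu1 : u ≠ 1) (hr : r ∈ X) (huQ : u ∈ Q) (hruQ : r * u * r⁻¹ ∈ Q) : r ∈ M := by
  obtain ⟨a, ha, haQ⟩ := h.syl Q hQ hQp
  have h1 := h.ctrl a ha u hu hu1 (haQ u huQ)
  have h2 := h.ctrl (a * r) (X.mul_mem ha hr) u hu hu1 (by
    rw [show a * r * u * (a * r)⁻¹ = a * (r * u * r⁻¹) * a⁻¹ by group]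
    exact haQ _ hruQ)
  simpa using M.mul_mem (M.inv_mem h1) h2

theorem Emb.false_of_pair (h : Emb p X P M) {Q : Subgroup G} (hQ : Q ≤ X) (hQp : IsPGroup p Q) {u r y : G}
    (hu : u ∈ P) (hu1 : u ≠ 1) (hr : r ∈ X) (hrM : r ∉ M) (hy : y ∈ P) (hy1 : y ≠ 1)
    (h1 : r * u * r⁻¹ ∈ Q) (h2 : y * (r * u * r⁻¹) * y⁻¹ ∈ Q) : False := by
  have hs : r⁻¹ * y * r ∈ X := X.mul_mem (X.mul_mem (X.inv_mem hr) (h.leX hy)) hr
  have hmem : ∀ q ∈ Q, r⁻¹ * q * r ∈ Q.map (MulAut.conj r⁻¹).toMonoidHom := fun q hq =>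
    ⟨q, hq, by simp [MulAut.conj_apply]⟩
  have hsM : r⁻¹ * y * r ∈ M := by
    refine h.mem_of_pGroup (Q := Q.map (MulAut.conj r⁻¹).toMonoidHom) ?_ (hQp.map _) hu hu1 hs ?_ ?_
    · rintro _ ⟨q, hq, rfl⟩
      exact X.mul_mem (X.mul_mem (X.inv_mem hr) (hQ hq)) (X.inv_mem (X.inv_mem hr))
    · simpa [mul_assoc] using hmem _ h1
    · rw [show r⁻¹ * y * r * u * (r⁻¹ * y * r)⁻¹ = r⁻¹ * (y * (r * u * r⁻¹) * y⁻¹) * r by group]
      exact hmem _ h2
  have hsp : IsPGroup p (Subgroup.zpowers (r⁻¹ * y * r)) := by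
    refine IsPGroup.to_le (h.pg.map (MulAut.conj r⁻¹).toMonoidHom) (Subgroup.zpowers_le.2 ⟨y, hy, ?_⟩)
    simp [MulAut.conj_apply]
  obtain ⟨a, ha, haP⟩ := h.sylM _ (Subgroup.zpowers_le.2 hsM) hsp
  have h3 := h.ctrl (a * r⁻¹) (X.mul_mem (h.Mle ha) (X.inv_mem hr)) y hy hy1 (by
    rw [show a * r⁻¹ * y * (a * r⁻¹)⁻¹ = a * (r⁻¹ * y * r) * a⁻¹ by group]
    exact haP _ (Subgroup.mem_zpowers _))
  exact hrM (by simpa using M.inv_mem (M.mul_mem (M.inv_mem ha) h3))

theorem Emb.eq_bot_of_normal (h : Emb p X P M) {K : Subgroup G} (hK : K ≤ X) (hKp : IsPGroup p K)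
    (hn : ∀ r ∈ X, ∀ k ∈ K, r * k * r⁻¹ ∈ K) : K = ⊥ := by
  refine (Subgroup.eq_bot_iff_forall _).2 fun k hk => by_contra fun hk1 => ?_
  obtain ⟨a, ha, haP⟩ := h.syl K hK hKp
  obtain ⟨r, hr, hrM⟩ := h.out
  exact hrM (h.mem_of_pGroup hK hKp (haP k hk) (by simpa using hk1) hr (hn a ha k hk) (hn r hr _ (hn a ha k hk)))

end Group

variable [Fact p.Prime] {V : Type*} [AddCommGroup V] [Module (ZMod p) V] [Finite V] {X P M : Subgroup (GV p V)}

/-- Two transvections, the centre of the second on the axis of the first, generate a `p`-group. -/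
theorem pair_pGroup (hp : 3 ≤ p) {g0 g1 : GV p V} {φ0 φ1 : V →ₗ[ZMod p] ZMod p} {c0 c1 : V}
    (h0 : ∀ v, g0.1 v = v + φ0 v • c0) (h1 : ∀ v, g1.1 v = v + φ1 v • c1) (h00 : φ0 c0 = 0) (h11 : φ1 c1 = 0)
    (h01 : φ0 c1 = 0) : IsPGroup p (Subgroup.closure ({g0, g1} : Set (GV p V))) := by
  have d0 : ∀ v, dd g0 v = φ0 v • c0 := fun v => by rw [dd_apply, h0, add_sub_cancel_left]
  have d1 : ∀ v, dd g1 v = φ1 v • c1 := fun v => by rw [dd_apply, h1, add_sub_cancel_left]
  refine IsPGroup.to_le (flag_pGroup hp (Submodule.span (ZMod p) {c1}) (Submodule.span (ZMod p) {c0, c1}))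
    ((Subgroup.closure_le _).2 ?_)
  have hc : ∀ b ∈ Submodule.span (ZMod p) {c0, c1}, φ0 b = 0 := fun b hb => by
    obtain ⟨x, y, rfl⟩ := Submodule.mem_span_pair.1 hb
    simp [h00, h01]
  have hc' : ∀ a ∈ Submodule.span (ZMod p) {c1}, φ0 a = 0 ∧ φ1 a = 0 := fun a ha => by
    obtain ⟨x, rfl⟩ := Submodule.mem_span_singleton.1 ha
    simp [h01, h11]
  rintro g (rfl | rfl)
  · refine mem_flag.2 ⟨fun v => ?_, fun b hb => ?_, fun a ha => ?_⟩
    · rw [d0]; exact Submodule.smul_mem _ _ (Submodule.subset_span (Or.inl rfl))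
    · rw [d0, hc b hb, zero_smul]; exact zero_mem _
    · rw [d0, (hc' a ha).1, zero_smul]
  · refine mem_flag.2 ⟨fun v => ?_, fun b hb => ?_, fun a ha => ?_⟩
    · rw [d1]; exact Submodule.smul_mem _ _ (Submodule.subset_span (Or.inr rfl))
    · rw [d1]; exact Submodule.smul_mem _ _ (Submodule.subset_span rfl)
    · rw [d1, (hc' a ha).2, zero_smul]

theorem dd_cube_P (hc : Nat.card V = p ^ 3) (h : Emb p X P M) {u : GV p V} (hu : u ∈ P) (x : V) :
    dd u (dd u (dd u x)) = 0 :=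
  dd_cube_of_pGroup hc h.pg hu x

theorem pow_p_P (hp : 3 ≤ p) (hc : Nat.card V = p ^ 3) (h : Emb p X P M) {u : GV p V} (hu : u ∈ P) : u ^ p = 1 :=
  pow_p_of_cube hp u (dd_cube_P hc h hu)

/-- A conjugate transvection. -/
theorem conj_apply_transvection {g r : GV p V} {φ : V →ₗ[ZMod p] ZMod p} {c : V}
    (h : ∀ v, g.1 v = v + φ v • c) (v : V) :
    (r * g * r⁻¹).1 v = v + (φ.comp r⁻¹.1) v • r.1 c := by
  rw [mul_apply, mul_apply, h, map_add, map_smul, apply_inv_self]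
  rfl

/-- A transvection inside a subgroup of order `p²`. -/
theorem exists_transvection_of_card (hp : 3 ≤ p) (hc : Nat.card V = p ^ 3) (h : Emb p X P M)
    {Y : Subgroup (GV p V)} (hYP : Y ≤ P) (hY : Nat.card Y = p ^ 2) :
    ∃ z ∈ Y, z ≠ 1 ∧ ∀ x, dd z (dd z x) = 0 := by
  by_contra hcon
  push Not at hcon
  obtain ⟨⟨y, hyY⟩, hy1⟩ : ∃ y : Y, y ≠ 1 := by
    haveI : Nontrivial Y := Finite.one_lt_card_iff_nontrivial.1 (hY ▸ Nat.one_lt_pow two_ne_zero (Fact.out : p.Prime).one_lt)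
    exact exists_ne 1
  obtain ⟨a, ha⟩ := hcon y hyY (fun e => hy1 (Subtype.ext e))
  have h3 := dd_cube_P hc h (hYP hyY)
  have hind := indep_jordan y h3 ha
  have hlt : ¬ Y ≤ Subgroup.zpowers y := by
    intro hle
    have h1 := Subgroup.card_le_of_le hle
    rw [hY, Nat.card_zpowers] at h1
    have h2 : orderOf y ≤ p := Nat.le_of_dvd (Fact.out : p.Prime).pos
      (orderOf_dvd_of_pow_eq_one (pow_p_P hp hc h (hYP hyY)))
    nlinarith [(Fact.out : p.Prime).two_le]
  obtain ⟨y', hy'Y, hy'⟩ := SetLike.not_le_iff_exists.1 hlt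
  have : IsMulCommutative Y := IsPGroup.isMulCommutative_of_card_eq_prime_sq hY
  have hcomm : Commute y' y := congrArg Subtype.val ((inferInstance : IsMulCommutative Y).is_comm.comm
    (⟨y', hy'Y⟩ : Y) ⟨y, hyY⟩)
  obtain ⟨α, β, γ, hy'a⟩ := hind.span hc (y'.1 a)
  have hc1 : y'.1 (dd y a) = α • dd y a + β • dd y (dd y a) := by
    rw [dd_comm hcomm, hy'a]; simp [h3]
  have hc2 : y'.1 (dd y (dd y a)) = α • dd y (dd y a) := by
    rw [dd_comm hcomm, hc1]; simp [h3]
  have hα : α = 1 := by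
    have hit : ∀ n : ℕ, (y' ^ n).1 (dd y (dd y a)) = α ^ n • dd y (dd y a) := by
      intro n
      induction n with
      | zero => simp
      | succ n ih => rw [pow_succ', mul_apply, ih, map_smul, hc2, smul_smul, pow_succ]
    have h1 := hit p
    rw [pow_p_P hp hc h (hYP hy'Y), ZMod.pow_card, Units.val_one, Module.End.one_apply] at h1
    by_contra hα
    refine ha ((smul_eq_zero.1 (?_ : (α - 1) • dd y (dd y a) = 0)).resolve_left (sub_ne_zero.2 hα))
    rw [sub_smul, one_smul, ← h1, sub_self]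
  subst hα
  -- `y'` times a power of `y` fixes the middle layer
  set z := y' * y ^ (-β).val with hz
  have hzY : z ∈ Y := mul_mem hy'Y (pow_mem hyY _)
  have hz1 : z ≠ 1 := fun e => hy' (by
    rw [eq_inv_of_mul_eq_one_left e]
    exact inv_mem (pow_mem (Subgroup.mem_zpowers y) _))
  obtain ⟨b, hb⟩ := hcon z hzY hz1
  set m := ((-β).val.choose 2 : ZMod p)
  have hpow : ∀ x, (y ^ (-β).val).1 x = x + (-β) • dd y x + m • dd y (dd y x) := fun x => by
    rw [pow_apply y h3, ZMod.natCast_zmod_val]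
  have z2 : dd z (dd y (dd y a)) = 0 := by
    rw [dd_apply, hz, mul_apply, hpow, h3, smul_zero, add_zero]
    simp only [map_zero, smul_zero, add_zero, hc2, one_smul, sub_self]
  have z1' : dd z (dd y a) = 0 := by
    rw [dd_apply, hz, mul_apply, hpow, h3, smul_zero, add_zero, map_add, map_smul, hc1, hc2]
    module
  have za : dd z a = (γ + m - β * β) • dd y (dd y a) := by
    rw [dd_apply, hz, mul_apply, hpow, map_add, map_add, map_smul, map_smul, hy'a, hc1, hc2]
    module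
  obtain ⟨x1, x2, x3, rfl⟩ := hind.span hc b
  refine hb ?_
  simp [za, z1', z2]

/-- The Sylow `p`-subgroup has order `p`. -/
theorem card_P (hp : 3 ≤ p) (hc : Nat.card V = p ^ 3) (h : Emb p X P M) : Nat.card P = p := by
  obtain ⟨k, hk⟩ := IsPGroup.iff_card.1 h.pg
  have hk0 : k ≠ 0 := fun e => h.ne (Subgroup.eq_bot_of_card_eq _ (by rw [hk, e, pow_zero]))
  suffices hk2 : ¬ 2 ≤ k by rw [hk, show k = 1 by omega, pow_one]
  intro hk2
  obtain ⟨Y', hY'⟩ := Sylow.exists_subgroup_card_pow_prime (G := P) p (n := 2) (by rw [hk]; exact pow_dvd_pow p hk2)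
  set Y := Y'.map P.subtype with hYdef
  have hY : Nat.card Y = p ^ 2 := by rw [Subgroup.card_map_of_injective P.subtype_injective, hY']
  have hYP : Y ≤ P := Subgroup.map_subtype_le Y'
  have : IsMulCommutative Y := IsPGroup.isMulCommutative_of_card_eq_prime_sq hY
  obtain ⟨z0, hz0, hz01, hz0sq⟩ := exists_transvection_of_card hp hc h hYP hY
  obtain ⟨φ0, c0, hc0, hφ0, ⟨v0, hv0⟩, hform⟩ := exists_transvection hc z0 hz0sq hz01
  obtain ⟨r, hr, hrM⟩ := h.out
  set φ1 := φ0.comp r⁻¹.1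
  set c1 := r.1 c0
  have hform1 : ∀ v, (r * z0 * r⁻¹).1 v = v + φ1 v • c1 := conj_apply_transvection hform
  have hφ1 : φ1 c1 = 0 := by show φ0 (r⁻¹.1 (r.1 c0)) = 0; rw [inv_apply_self, hφ0]
  have hz0X := h.leX (hYP hz0)
  have hc1 : φ0 c1 ≠ 0 := fun e => hrM (h.mem_of_pGroup ((Subgroup.closure_le _).2 (by
      rintro g (rfl | rfl)
      · exact hz0X
      · exact X.mul_mem (X.mul_mem hr hz0X) (X.inv_mem hr)))
    (pair_pGroup hp hform hform1 hφ0 hφ1 e) (hYP hz0) hz01 hr (Subgroup.subset_closure (by simp))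
    (Subgroup.subset_closure (by simp)))
  -- `Y` preserves the axis of `z0`
  have haxis : ∀ y ∈ Y, ∀ v, φ0 (y.1 v) = φ0 v := by
    intro y hy
    have hcm : Commute y z0 := congrArg Subtype.val ((inferInstance : IsMulCommutative Y).is_comm.comm
      (⟨y, hy⟩ : Y) ⟨z0, hz0⟩)
    have key : ∀ v, φ0 v • y.1 c0 = φ0 (y.1 v) • c0 := fun v => by
      have h1 := congrArg (fun g : GV p V => g.1 v) hcm.eq
      simp only [mul_apply, hform, map_add, map_smul] at h1
      exact add_left_cancel h1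
    set l := φ0 (y.1 v0) with hl
    have hyc : y.1 c0 = l • c0 := by simpa [hv0] using key v0
    have hall : ∀ v, φ0 (y.1 v) = l * φ0 v := fun v => by
      have h1 := key v
      rw [hyc, smul_smul] at h1
      exact ((smul_left_injective (ZMod p) hc0 h1).symm.trans (mul_comm _ _))
    have hit : ∀ n : ℕ, φ0 ((y ^ n).1 v0) = l ^ n := by
      intro n
      induction n with
      | zero => simpa using hv0
      | succ n ih => rw [pow_succ', mul_apply, hall, ih, pow_succ']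
    have h1 := hit p
    rw [pow_p_P hp hc h (hYP hy), ZMod.pow_card, Units.val_one, Module.End.one_apply, hv0] at h1
    intro v
    rw [hall, ← h1, one_mul]
  set e := (φ0 c1)⁻¹ • c1 with he
  have he0 : φ0 e = 1 := by rw [he, map_smul, smul_eq_mul, inv_mul_cancel₀ hc1]
  have hker : Nat.card {v : V // φ0 v = 1} ≤ p ^ 2 := by
    have hsurj : Function.Surjective φ0 := fun x => ⟨x • v0, by simp [hv0]⟩
    have h1 := φ0.toAddMonoidHom.ker.card_mul_index
    rw [AddSubgroup.index_ker, hc, AddMonoidHom.range_eq_top.2 hsurj] at h1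
    simp only [Nat.card_congr AddSubgroup.topEquiv.toEquiv, Nat.card_zmod] at h1
    have h2 : Nat.card {v : V // φ0 v = 1} ≤ Nat.card φ0.toAddMonoidHom.ker :=
      Nat.card_le_card_of_injective (fun v => ⟨v.1 - v0, by simp [AddMonoidHom.mem_ker, v.2, hv0]⟩)
        fun v w hvw => Subtype.ext (sub_left_injective (congrArg Subtype.val hvw))
    refine h2.trans (le_of_eq ?_)
    exact Nat.eq_of_mul_eq_mul_right (Fact.out : p.Prime).pos (h1.trans (pow_succ p 2))
  let orb : Y → {v : V // φ0 v = 1} := fun y => ⟨y.1.1 e, by rw [haxis _ y.2, he0]⟩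
  -- a fixed centre is impossible
  have hfix : ∀ y ∈ Y, φ1 (y.1 e) = 0 → y = 1 := by
    intro y hy hye
    by_contra hy1
    set φ2 := φ1.comp y⁻¹.1
    have hform2 : ∀ v, (y * (r * z0 * r⁻¹) * y⁻¹).1 v = v + φ2 v • y.1 c1 := conj_apply_transvection hform1
    have h11 : φ2 (y.1 c1) = 0 := by show φ1 (y⁻¹.1 (y.1 c1)) = 0; rw [inv_apply_self, hφ1]
    have h12 : φ1 (y.1 c1) = 0 := by
      have h1 := hye
      rw [he, map_smul, map_smul, smul_eq_mul, mul_eq_zero] at h1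
      exact h1.resolve_left (inv_ne_zero hc1)
    have hzX := X.mul_mem (X.mul_mem hr hz0X) (X.inv_mem hr)
    have hyX := h.leX (hYP hy)
    exact h.false_of_pair ((Subgroup.closure_le _).2 (by
        rintro g (rfl | rfl)
        · exact hzX
        · exact X.mul_mem (X.mul_mem hyX hzX) (X.inv_mem hyX)))
      (pair_pGroup hp hform1 hform2 hφ1 h11 h12) (hYP hz0) hz01 hr hrM (hYP hy) hy1
      (Subgroup.subset_closure (by simp)) (Subgroup.subset_closure (by simp))
  have hinj : Function.Injective orb := by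
    intro y y' hyy
    have h1 : y.1.1 e = y'.1.1 e := congrArg Subtype.val hyy
    have h2 := hfix (y'.1⁻¹ * y.1) (mul_mem (inv_mem y'.2) y.2) (by
      rw [mul_apply, h1, inv_apply_self, he, map_smul, hφ1, smul_zero])
    exact Subtype.ext (inv_mul_eq_one.1 h2).symm
  -- a second centre on the axis of the conjugate
  obtain ⟨k, hk0, hkφ0, hkφ1⟩ : ∃ k : V, k ≠ 0 ∧ φ0 k = 0 ∧ φ1 k = 0 := by
    by_contra hno
    push Not at hno
    have : Nat.card V ≤ Nat.card (ZMod p × ZMod p) :=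
      Nat.card_le_card_of_injective (fun v => (φ0 v, φ1 v)) fun v w hvw => by
        by_contra hne
        exact hno (v - w) (sub_ne_zero.2 hne) (by rw [map_sub, show φ0 v = φ0 w from (Prod.ext_iff.1 hvw).1, sub_self])
          (by rw [map_sub, show φ1 v = φ1 w from (Prod.ext_iff.1 hvw).2, sub_self])
    rw [hc, Nat.card_prod, Nat.card_zmod] at this
    nlinarith [(Fact.out : p.Prime).two_le, Nat.mul_pos (Fact.out : p.Prime).pos (Fact.out : p.Prime).pos]
  obtain ⟨y, hy⟩ := (hinj.bijective_of_nat_card_le (by rw [hY]; exact hker)).2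
    ⟨e + k, by rw [map_add, he0, hkφ0, add_zero]⟩
  have hy' : y.1.1 e = e + k := congrArg Subtype.val hy
  have hy1 := hfix y.1 y.2 (by rw [hy', map_add, hkφ1, he, map_smul, hφ1, smul_zero, add_zero])
  rw [hy1, Units.val_one, Module.End.one_apply] at hy'
  exact hk0 (left_eq_add.1 hy')

/-- The Sylow `p`-subgroup is generated by any of its nontrivial elements. -/
theorem mem_P_iff (hp : 3 ≤ p) (hc : Nat.card V = p ^ 3) (h : Emb p X P M) {u : GV p V} (hu : u ∈ P)
    (hu1 : u ≠ 1) {g : GV p V} : g ∈ P ↔ ∃ n : ℕ, u ^ n = g := by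
  have hcard := card_P hp hc h
  have e : Subgroup.zpowers u = P := by
    refine Subgroup.eq_of_le_of_card_ge (Subgroup.zpowers_le.2 hu) ?_
    rw [hcard, Nat.card_zpowers, orderOf_eq_prime (pow_p_P hp hc h hu) hu1]
  constructor
  · intro hg
    rw [← e] at hg
    exact (isOfFinOrder_of_finite u).mem_powers_iff_mem_zpowers.2 hg
  · rintro ⟨n, rfl⟩
    exact pow_mem hu n

end Cfsg.Agent.Lib.EssentialRankThree.Embedded
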