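import Cfsg.Agent.Lib.EssentialRankThree.Elements

/-!
# The extension by a pure elementary automorphism has sectional rank four

`T` is generated by a copy of `G` and an element `h` inducing `θ`; the torus element extends to `T` and sends
`h` to `h ^ m` modulo `G`. The weights force four commuting independent elements of order `p` in a section.
-/

set_option autoImplicit false
set_option linter.style.haveILetI false
set_option linter.unusedSectionVars false

namespace Cfsg.Agent.Lib.EssentialRankThree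

open Cfsg Cfsg.Agent.Lib Cfsg.Agent.Lib.FS
open Cfsg.Agent.Lib.EssentialRankThree.Units (GV dd dd_apply)
open scoped commutatorElement

universe u v

/-- The sectional rank bound passes to groups embedded in it. -/
theorem sectional_of_injective {A : Type u} {B : Type v} [Group A] [Group B] {p k : ℕ} (f : A →* B)
    (hf : Function.Injective f) (hB : SectionalPRankLE p k B) : SectionalPRankLE p k A := by
  intro H N hN X hX hXp
  haveI := hX
  let φ : H →* H.map f := (f.comp H.subtype).codRestrict _ fun x => ⟨x, x.2, rfl⟩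
  have hφ : Function.Bijective φ := by
    refine ⟨fun a b h => Subtype.ext (hf (congrArg Subtype.val h)), ?_⟩
    rintro ⟨_, a, ha, rfl⟩
    exact ⟨⟨a, ha⟩, rfl⟩
  let e : H ≃* H.map f := MulEquiv.ofBijective φ hφ
  haveI : (N.map e.toMonoidHom).Normal := hN.map _ e.surjective
  let q : H ⧸ N ≃* H.map f ⧸ N.map e.toMonoidHom := QuotientGroup.congr N _ e rfl
  have hc : IsMulCommutative (X.map q.toMonoidHom) := inferInstance
  have h := hB (H.map f) (N.map e.toMonoidHom) (X.map q.toMonoidHom) hc (by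
    rintro _ ⟨a, ha, rfl⟩; rw [← map_pow, hXp a ha, map_one])
  rwa [Subgroup.card_map_of_injective (f := q.toMonoidHom) q.injective] at h

variable {p : ℕ} [Fact p.Prime] {G : Type u} [Group G] [Finite G] {E : Subgroup G} {γ : MulAut G} {t : ZMod p}

/-- An overgroup generated by an element inducing `θ`, on which `γ` extends. -/
structure Ext (p : ℕ) (γ θ : MulAut G) (m : ℕ) (T : Type v) [Group T] where
  /-- The embedding. -/
  ι : G →* T
  inj : Function.Injective ι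
  /-- The element inducing `θ`. -/
  h : T
  conj : ∀ n, h * ι n * h⁻¹ = ι (θ n)
  hpow : ∃ n, ι n = h ^ p
  hne : ∀ n, ι n ≠ h
  gen : ∀ y, ∃ (i : ℕ) (n : G), y = ι n * h ^ i
  /-- The extension of `γ`. -/
  χ : T →* T
  χι : ∀ n, χ (ι n) = ι (γ n)
  /-- The correction term. -/
  n0 : G
  χh : χ h = h ^ m * ι n0

namespace Ext

variable {θ : MulAut G} {m : ℕ} {T : Type v} [Group T] (X : Ext p γ θ m T)

theorem conj_pow_h (i : ℕ) (n : G) : X.h ^ i * X.ι n * (X.h ^ i)⁻¹ = X.ι ((θ ^ i) n) := by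
  induction i generalizing n with
  | zero => simp
  | succ i ih =>
    rw [pow_succ X.h, show X.h ^ i * X.h * X.ι n * (X.h ^ i * X.h)⁻¹ = X.h ^ i * (X.h * X.ι n * X.h⁻¹) * (X.h ^ i)⁻¹ by group,
      X.conj, ih, pow_succ θ, MulAut.mul_apply]

/-- The relation between `γ` and `θ`. -/
theorem comm_rel (g : G) : γ (θ g) = (θ ^ m) (X.n0 * γ g * X.n0⁻¹) := by
  refine X.inj ?_
  rw [← X.χι, ← X.conj, map_mul X.χ, map_mul X.χ, map_inv X.χ, X.χι, X.χh, ← X.conj_pow_h, map_mul, map_mul, map_inv]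
  group

/-- Replace `h` by `h r`. -/
theorem exists_change (r : G) : ∃ (r' : G) (X' : Ext p γ (θ * MulAut.conj r) m T),
    X'.n0 = r'⁻¹ * X.n0 * γ r ∧ (X.h * X.ι r) ^ m = X.h ^ m * X.ι r' := by
  have hpm : ∀ i : ℕ, ∃ r', (X.h * X.ι r) ^ i = X.h ^ i * X.ι r' := by
    intro i
    induction i with
    | zero => exact ⟨1, by simp⟩
    | succ i ih =>
      obtain ⟨r', hr'⟩ := ih
      refine ⟨θ⁻¹ r' * r, ?_⟩
      have h1 := X.conj (θ⁻¹ r')
      rw [MulAut.apply_inv_self] at h1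
      rw [pow_succ, hr', map_mul, pow_succ X.h, ← h1]
      group
  obtain ⟨r', hr'⟩ := hpm m
  obtain ⟨rp, hrp⟩ := hpm p
  obtain ⟨np, hnp⟩ := X.hpow
  refine ⟨r', ⟨X.ι, X.inj, X.h * X.ι r, fun n => ?_, ⟨np * rp, by rw [hrp, map_mul, hnp]⟩, fun n hn => ?_,
    fun y => ?_, X.χ, X.χι, r'⁻¹ * X.n0 * γ r, ?_⟩, rfl, hr'⟩
  · rw [MulAut.mul_apply, MulAut.conj_apply, ← X.conj, map_mul, map_mul, map_inv]; group
  · exact X.hne (n * r⁻¹) (by rw [map_mul, map_inv, hn]; group)
  · obtain ⟨i, n, rfl⟩ := X.gen y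
    obtain ⟨ri, hri⟩ := hpm i
    refine ⟨i, n * (θ ^ i) ri⁻¹, ?_⟩
    rw [map_mul, ← X.conj_pow_h, hri, map_inv]; group
  · rw [map_mul, X.χh, X.χι, hr', map_mul, map_mul, map_inv]; group

end Ext

variable {D : TData p E γ t} {U W : Type u} [AddCommGroup U] [Module (ZMod p) U] [Finite U] [AddCommGroup W]
  [Module (ZMod p) W] [Finite W] (C : TCoord D U W)

/-- The subgroup of `Φ(G)` over a subspace of the second layer. -/
def layerSub (S : Submodule (ZMod p) W) : Subgroup G where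
  carrier := {y | y ∈ frattini G ∧ C.cW.v y ∈ S}
  one_mem' := ⟨one_mem _, by rw [C.cW.map_one]; exact zero_mem _⟩
  mul_mem' := fun {a b} ha hb => ⟨mul_mem ha.1 hb.1, by rw [C.cW.map_mul _ ha.1 _ hb.1]; exact add_mem ha.2 hb.2⟩
  inv_mem' := fun {a} ha => ⟨inv_mem ha.1, by rw [C.cW.map_inv ha.1]; exact neg_mem ha.2⟩

theorem mem_layerSub {S : Submodule (ZMod p) W} {y : G} :
    y ∈ layerSub C S ↔ y ∈ frattini G ∧ C.cW.v y ∈ S := Iff.rfl

/-- `g⁻¹ θ(g)` in the second layer. -/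
def dl (θ : MulAut G) (g : G) : W := C.cW.v (g⁻¹ * θ g)

section Twist

variable (hG : IsPGroup p G) (θ : MulAut G)
include hG

theorem conj_value (g : G) {f : G} (hf : f ∈ frattini G) : C.cW.v (g * f * g⁻¹) = C.cW.v f := by
  refine ((C.cW.eq_iff hf (frattini_normal_mem g hf)).2 ?_).symm
  have := comm_mem_layer (p := p) (E := (⊤ : Subgroup G)) (inv_mem hf) (e := g) trivial
  rwa [inv_inv, show f⁻¹ * g * f * g⁻¹ = f⁻¹ * (g * f * g⁻¹) by group] at this

omit hG in
theorem diff_mem {g : G} (hg : (C.ρ θ).1 (C.cU.v g) = C.cU.v g) : g⁻¹ * θ g ∈ frattini G :=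
  (C.cU.eq_iff (x := g) trivial trivial).1 (by rw [← C.rho, hg])

omit hG in
theorem fixed_pow {v : U} (hv : (C.ρ θ).1 v = v) (i : ℕ) : (C.ρ (θ ^ i)).1 v = v := by
  induction i with
  | zero => simp
  | succ i ih => rw [pow_succ, map_mul, Units.mul_apply, hv, ih]

theorem dl_mul {g g' : G} (hg : (C.ρ θ).1 (C.cU.v g) = C.cU.v g) (hg' : (C.ρ θ).1 (C.cU.v g') = C.cU.v g') :
    dl C θ (g * g') = dl C θ g + dl C θ g' := by
  rw [dl, map_mul, show (g * g')⁻¹ * (θ g * θ g') = g'⁻¹ * (g⁻¹ * θ g) * g'⁻¹⁻¹ * (g'⁻¹ * θ g') by group,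
    C.cW.map_mul _ (frattini_normal_mem _ (diff_mem C θ hg)) _ (diff_mem C θ hg'),
    conj_value C hG _ (diff_mem C θ hg)]
  rfl

omit hG in
theorem dl_frattini {f : G} (hf : f ∈ frattini G) : dl C θ f = dd (C.σ θ) (C.cW.v f) := by
  rw [dl, C.cW.map_mul _ (inv_mem hf) _ (Resistant67.aut_mem_frattini θ hf), C.cW.map_inv hf, dd_apply,
    C.sigma θ f hf]
  abel

theorem dl_pow {g : G} (hg : (C.ρ θ).1 (C.cU.v g) = C.cU.v g) (n : ℕ) :
    dl C θ (g ^ n) = (n : ZMod p) • dl C θ g := by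
  induction n with
  | zero => simp [dl, C.cW.map_one]
  | succ n ih =>
    rw [pow_succ, dl_mul C hG θ (by rw [C.cU.map_pow trivial, map_smul, hg]) hg, ih, Nat.cast_succ, add_smul, one_smul]

omit hG in
/-- Iterates. -/
theorem dl_iter {g : G} (hg : (C.ρ θ).1 (C.cU.v g) = C.cU.v g) (hD : ∀ w, dd (C.σ θ) (dd (C.σ θ) w) = 0) (i : ℕ) :
    C.cW.v (g⁻¹ * (θ ^ i) g) =
      (i : ZMod p) • dl C θ g + (i.choose 2 : ZMod p) • dd (C.σ θ) (dl C θ g) := by
  induction i with
  | zero => simp [C.cW.map_one]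
  | succ i ih =>
    have hm : g⁻¹ * (θ ^ i) g ∈ frattini G := diff_mem C (θ ^ i) (fixed_pow C θ hg i)
    rw [pow_succ', MulAut.mul_apply,
      show g⁻¹ * θ ((θ ^ i) g) = g⁻¹ * θ g * θ (g⁻¹ * (θ ^ i) g) by rw [map_mul, map_inv]; group,
      C.cW.map_mul _ (diff_mem C θ hg) _ (Resistant67.aut_mem_frattini θ hm), ← C.sigma θ _ hm, ih, map_add,
      map_smul, map_smul, Units.apply_eq (C.σ θ) (dl C θ g), Units.apply_eq (C.σ θ) (dd _ _), hD,
      Nat.choose_succ_succ, Nat.choose_one_right, show C.cW.v (g⁻¹ * θ g) = dl C θ g from rfl]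
    push_cast
    module

end Twist

/-- What the two cases share: a subspace containing the movement of `θ` on the second layer. -/
structure Base (θ : MulAut G) (S : Submodule (ZMod p) W) : Prop where
  hG : IsPGroup p G
  hp : 3 ≤ p
  move : ∀ w, dd (C.σ θ) w ∈ S
  sq : ∀ w, dd (C.σ θ) (dd (C.σ θ) w) = 0

namespace Base

variable {C} {θ : MulAut G} {S : Submodule (ZMod p) W} (B : Base C θ S) {m : ℕ}
include B

theorem pow_mem_S (i : ℕ) (w : W) : ((C.σ θ) ^ i).1 w - w ∈ S := by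
  induction i generalizing w with
  | zero => simp
  | succ i ih =>
    rw [pow_succ, Units.mul_apply]
    have := add_mem (ih ((C.σ θ).1 w)) (B.move w)
    rw [dd_apply, sub_add_sub_cancel] at this
    exact this

/-- The weight relation on the movement of an eigenvector. -/
theorem key {T : Type v} [Group T] (X : Ext p γ θ m T) {g : G} (hg : (C.ρ θ).1 (C.cU.v g) = C.cU.v g) {s : ZMod p}
    (hs : (g ^ s.val)⁻¹ * γ g ∈ frattini G) :
    (C.σ γ).1 (dl C θ g) - ((m : ZMod p) * s) • dl C θ g - C.b (γ g) X.n0 ∈ S := by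
  have hG := B.hG
  have hgs : (C.ρ θ).1 (C.cU.v (g ^ s.val)) = C.cU.v (g ^ s.val) := by rw [C.cU.map_pow trivial, map_smul, hg]
  have hf' : (C.ρ θ).1 (C.cU.v ((g ^ s.val)⁻¹ * γ g)) = C.cU.v ((g ^ s.val)⁻¹ * γ g) := by
    rw [(C.cU.mem _ trivial).2 hs, map_zero]
  have hγg : (C.ρ θ).1 (C.cU.v (γ g)) = C.cU.v (γ g) := by
    conv_lhs => rw [← (C.cU.eq_iff (x := g ^ s.val) trivial trivial).2 hs]
    rw [hgs, (C.cU.eq_iff (x := g ^ s.val) trivial trivial).2 hs]
  have hd : dl C θ (γ g) = s • dl C θ g + dd (C.σ θ) (C.cW.v ((g ^ s.val)⁻¹ * γ g)) := by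
    conv_lhs => rw [show γ g = g ^ s.val * ((g ^ s.val)⁻¹ * γ g) by group]
    rw [dl_mul C hG θ hgs hf', dl_pow C hG θ hg, dl_frattini C θ hs, ZMod.natCast_zmod_val]
  have hdiff : g⁻¹ * θ g ∈ frattini G := diff_mem C θ hg
  have hf : (γ g)⁻¹ * X.n0 * γ g * X.n0⁻¹ ∈ frattini G := TCoord.comm_mem hG (γ g) X.n0
  have he : γ (g⁻¹ * θ g) = (γ g)⁻¹ * (θ ^ m) (γ g) * (θ ^ m) ((γ g)⁻¹ * X.n0 * γ g * X.n0⁻¹) := by
    rw [map_mul γ, map_inv γ, X.comm_rel, mul_assoc _ ((θ ^ m) (γ g)), ← map_mul (θ ^ m)]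
    congr 2; group
  have hv : (C.σ γ).1 (dl C θ g) = (m : ZMod p) • dl C θ (γ g) + ((m.choose 2 : ℕ) : ZMod p) •
      dd (C.σ θ) (dl C θ (γ g)) + ((C.σ θ) ^ m).1 (C.b (γ g) X.n0) := by
    rw [dl, C.sigma γ _ hdiff, he, C.cW.map_mul _ (diff_mem C (θ ^ m) (fixed_pow C θ hγg m)) _
      (Resistant67.aut_mem_frattini _ hf), dl_iter C θ hγg B.sq, ← C.sigma (θ ^ m) _ hf, map_pow]
    rfl
  have h1 := add_mem (add_mem (S.smul_mem (m : ZMod p) (B.move (C.cW.v ((g ^ s.val)⁻¹ * γ g))))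
    (S.smul_mem ((m.choose 2 : ℕ) : ZMod p) (B.move (dl C θ (γ g))))) (B.pow_mem_S m (C.b (γ g) X.n0))
  convert h1 using 1
  rw [hv, hd]
  module

variable (hSθ : ∀ w ∈ S, (C.σ θ).1 w ∈ S)

theorem normal {T : Type v} [Group T] (X : Ext p γ θ m T) (y : T) {k : G} (hk : k ∈ layerSub C S) :
    ∃ k' ∈ layerSub C S, y * X.ι k * y⁻¹ = X.ι k' := by
  obtain ⟨i, n, rfl⟩ := X.gen y
  refine ⟨n * (θ ^ i) k * n⁻¹, ⟨frattini_normal_mem n (Resistant67.aut_mem_frattini _ hk.1), ?_⟩, ?_⟩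
  · rw [conj_value C B.hG n (Resistant67.aut_mem_frattini _ hk.1), ← C.sigma (θ ^ i) _ hk.1, map_pow]
    have := add_mem (B.pow_mem_S i (C.cW.v k)) hk.2
    rwa [sub_add_cancel] at this
  · rw [map_mul, map_mul, map_inv, ← X.conj_pow_h]; group

theorem comm_layer {y : G} (hy : y ∈ frattini G) (g : G) : y * g * y⁻¹ * g⁻¹ ∈ layerSub C S := by
  refine ⟨PGroups.commutatorElement_mem_frattini B.hG y g, ?_⟩
  rw [show C.cW.v (y * g * y⁻¹ * g⁻¹) = 0 from
    (C.cW.mem _ (PGroups.commutatorElement_mem_frattini B.hG y g)).2 (comm_mem_layer hy trivial)]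
  exact zero_mem _

theorem pow_layer {y : G} (hy : y ∈ frattini G) : y ^ p ∈ layerSub C S := by
  refine ⟨pow_mem hy p, ?_⟩
  rw [C.cW.map_pow hy, ZMod.natCast_self, zero_smul]
  exact zero_mem _

/-- The `p`-th power of `h` under `γ`. -/
theorem key_pow {T : Type v} [Group T] (X : Ext p γ θ m T) (hn0 : (C.ρ θ).1 (C.cU.v X.n0) = C.cU.v X.n0)
    (hn0p : TCoord.pw p C X.n0 ∈ S) {n : G} (hn : X.ι n = X.h ^ p) : (n ^ m)⁻¹ * γ n ∈ layerSub C S := by
  have hG := B.hG
  set K := (layerSub C S).map X.ι with hKdef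
  haveI hK : K.Normal := ⟨fun k hk y => by
    obtain ⟨k₀, hk₀, rfl⟩ := hk
    obtain ⟨k', hk', he⟩ := B.normal X y hk₀
    exact ⟨k', hk', he.symm⟩⟩
  let π := QuotientGroup.mk' K
  have hker : ∀ a, π (X.ι a) = 1 ↔ a ∈ layerSub C S := fun a =>
    (QuotientGroup.eq_one_iff _).trans (Subgroup.mem_map_iff_mem X.inj)
  -- the second layer is central
  have hcG : ∀ y ∈ frattini G, ∀ a, Commute (π (X.ι y)) (π (X.ι a)) := fun y hy a => by
    refine commutatorElement_eq_one_iff_commute.1 ?_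
    rw [← map_commutatorElement, ← map_commutatorElement, hker]
    exact B.comm_layer hy a
  have hcH : ∀ y ∈ frattini G, Commute (π (X.ι y)) (π X.h) := fun y hy => by
    refine (commutatorElement_eq_one_iff_commute.1 ?_).symm
    rw [← map_commutatorElement, show ⁅X.h, X.ι y⁆ = X.ι (θ y * y⁻¹) by
      rw [commutatorElement_def, X.conj, map_mul, map_inv], hker]
    refine ⟨mul_mem (Resistant67.aut_mem_frattini θ hy) (inv_mem hy), ?_⟩
    rw [C.cW.map_mul _ (Resistant67.aut_mem_frattini θ hy) _ (inv_mem hy), C.cW.map_inv hy, ← C.sigma θ y hy,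
      ← sub_eq_add_neg]
    exact B.move _
  obtain ⟨c, hc, hceq⟩ : ∃ c ∈ frattini G,
      π (X.ι X.n0) * π X.h ^ m * (π (X.ι X.n0))⁻¹ * (π X.h ^ m)⁻¹ = π (X.ι c) := by
    refine ⟨X.n0 * ((θ ^ m) X.n0)⁻¹, (C.cU.mem _ trivial).1 ?_, ?_⟩
    · rw [C.cU.map_mul _ trivial _ trivial, C.cU.map_inv trivial, ← C.rho, fixed_pow C θ hn0 m, add_neg_cancel]
    · rw [map_mul X.ι, map_inv X.ι, ← X.conj_pow_h]
      simp only [map_mul, map_inv, map_pow]
      group
  have h := mul_pow_class_two (π X.h ^ m) (π (X.ι X.n0)) (hceq ▸ (hcH c hc).pow_right m) (hceq ▸ hcG c hc _) p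
  obtain ⟨s, hs⟩ := (Fact.out : p.Prime).dvd_choose_self two_ne_zero (by have := B.hp; omega : 2 < p)
  rw [hceq, hs, pow_mul (π (X.ι c)), show π (X.ι c) ^ p = 1 by rw [← map_pow, ← map_pow, hker]; exact B.pow_layer hc,
    one_pow, mul_one, show π (X.ι X.n0) ^ p = 1 by
      rw [← map_pow, ← map_pow, hker]; exact ⟨PGroups.pow_mem_frattini hG _, hn0p⟩, mul_one,
    ← map_pow π X.h, ← map_mul, ← X.χh, ← map_pow π, ← map_pow π, ← map_pow X.χ, ← hn, X.χι, ← pow_mul, mul_comm m p,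
    pow_mul, ← hn, ← map_pow X.ι] at h
  rw [← hker, map_mul, map_mul, map_inv, map_inv, h, inv_mul_cancel]

/-- Four independent commuting elements of order `p` give a contradiction. -/
theorem false_of_four {T : Type v} [Group T] [Finite T] (X : Ext p γ θ m T) (hsr : SectionalPRankLE p 3 T)
    {n : G} (hn : X.ι n = X.h ^ p) (hnK : n ∈ layerSub C S) (b : Fin 3 → G) (hbp : ∀ i, b i ^ p ∈ layerSub C S)
    (hbc : ∀ i j, b i * b j * (b i)⁻¹ * (b j)⁻¹ ∈ layerSub C S) (hbθ : ∀ i, (b i)⁻¹ * θ (b i) ∈ layerSub C S)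
    (hind : ∀ d : Fin 3 → ℤ, b 0 ^ d 0 * b 1 ^ d 1 * b 2 ^ d 2 ∈ layerSub C S → ∀ i, (p : ℤ) ∣ d i) : False := by
  set K := (layerSub C S).map X.ι with hKdef
  have hcommK : ∀ g, g⁻¹ * θ g ∈ layerSub C S → θ g * g⁻¹ ∈ layerSub C S := fun g hg => by
    refine ⟨?_, ?_⟩
    · rw [show θ g * g⁻¹ = g * (g⁻¹ * θ g) * g⁻¹ by group]; exact frattini_normal_mem g hg.1
    · rw [show θ g * g⁻¹ = g * (g⁻¹ * θ g) * g⁻¹ by group, conj_value C B.hG g hg.1]; exact hg.2
  refine rank_false (S := (⊤ : Subgroup T)) (H := ⊤) (K := K)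
    (sectional_of_injective (⊤ : Subgroup T).subtype Subtype.coe_injective hsr) le_rfl le_top
    (fun y _ k hk => by
      obtain ⟨k₀, hk₀, rfl⟩ := hk
      obtain ⟨k', hk', he⟩ := B.normal X y hk₀
      exact ⟨k', hk', he.symm⟩) ![X.h, X.ι (b 0), X.ι (b 1), X.ι (b 2)] (fun _ => trivial) ?_ ?_ ?_
  · intro i
    fin_cases i
    · exact ⟨n, hnK, hn⟩
    all_goals exact ⟨_, hbp _, map_pow X.ι _ p⟩
  · have hh : ∀ i, X.h * X.ι (b i) * X.h⁻¹ * (X.ι (b i))⁻¹ ∈ K := fun i =>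
      ⟨_, hcommK _ (hbθ i), by rw [map_mul, map_inv, X.conj]⟩
    have hh' : ∀ i, X.ι (b i) * X.h * (X.ι (b i))⁻¹ * X.h⁻¹ ∈ K := fun i => by
      have := K.inv_mem (hh i)
      rwa [show (X.h * X.ι (b i) * X.h⁻¹ * (X.ι (b i))⁻¹)⁻¹ = X.ι (b i) * X.h * (X.ι (b i))⁻¹ * X.h⁻¹ by group] at this
    have hb : ∀ i j, X.ι (b i) * X.ι (b j) * (X.ι (b i))⁻¹ * (X.ι (b j))⁻¹ ∈ K := fun i j =>
      ⟨_, hbc i j, by rw [map_mul, map_mul, map_mul, map_inv, map_inv]⟩
    intro i j
    fin_cases i <;> fin_cases j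
    case «0».«0» =>
      show X.h * X.h * X.h⁻¹ * X.h⁻¹ ∈ K
      rw [mul_inv_cancel_right, mul_inv_cancel]; exact K.one_mem
    all_goals first
      | exact hh _
      | exact hh' _
      | exact hb _ _
  · intro d hd
    simp only [Matrix.cons_val_zero, Matrix.cons_val_one, Matrix.cons_val_two, Matrix.cons_val_three,
      Matrix.head_cons, Matrix.tail_cons] at hd
    obtain ⟨k, hk, hkd⟩ := hd
    have h0 : X.h ^ d 0 = X.ι (k * (b 0 ^ d 1 * b 1 ^ d 2 * b 2 ^ d 3)⁻¹) := by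
      rw [map_mul, hkd, map_inv, map_mul, map_mul, map_zpow, map_zpow, map_zpow]; group
    have hd0 : (p : ℤ) ∣ d 0 := by
      by_contra hd0
      obtain ⟨a, c, hac⟩ := ((Nat.prime_iff_prime_int.1 (Fact.out : p.Prime)).coprime_iff_not_dvd.2 hd0).symm
      refine X.hne ((k * (b 0 ^ d 1 * b 1 ^ d 2 * b 2 ^ d 3)⁻¹) ^ a * n ^ c) ?_
      rw [map_mul, map_zpow, map_zpow, ← h0, hn, ← zpow_natCast, ← zpow_mul, ← zpow_mul, ← zpow_add,
        mul_comm (d 0), mul_comm (p : ℤ), hac, zpow_one]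
    obtain ⟨c, hc⟩ := hd0
    have hb : b 0 ^ d 1 * b 1 ^ d 2 * b 2 ^ d 3 ∈ layerSub C S := by
      have h1 : k * (b 0 ^ d 1 * b 1 ^ d 2 * b 2 ^ d 3)⁻¹ = n ^ c := X.inj (by
        rw [← h0, hc, zpow_mul, zpow_natCast, ← hn, map_zpow])
      rw [show b 0 ^ d 1 * b 1 ^ d 2 * b 2 ^ d 3 = (n ^ c)⁻¹ * k by rw [← h1]; group]
      exact mul_mem (inv_mem (zpow_mem hnK c)) hk
    intro i
    have h3 := hind (fun j => d j.succ) hb
    fin_cases i
    exacts [⟨c, hc⟩, h3 0, h3 1, h3 2]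

end Base

namespace TCoord

variable {C} (hG : IsPGroup p G) (hp : 3 ≤ p)
include hG hp

/-- The second layer is spanned by `z`, `[e, w]`, `e ^ p`, `w ^ p`. -/
theorem spanW (w : W) : ∃ a i j k : ZMod p, w = a • C.Z + i • C.F + j • pw p C D.e + k • pw p C D.w := by
  obtain ⟨y, hy, rfl⟩ := C.cW.surj w
  obtain ⟨a, ha⟩ := D.zmem y hy
  obtain ⟨i, j, k, h⟩ := C.phiE_span hG hp ha
  refine ⟨(a : ZMod p), i, j, k, ?_⟩
  have hz : D.e⁻¹ * D.x * D.e * D.x⁻¹ ∈ frattini G := comm_mem hG D.e D.x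
  rw [C.cW.map_mul _ (inv_mem (pow_mem hz a)) _ hy, C.cW.map_inv (pow_mem hz a), C.cW.map_pow hz] at h
  change -((a : ZMod p) • C.Z) + C.cW.v y = _ at h
  linear_combination (norm := module) h

end TCoord

open TCoord

section Cases

variable {C} {θ : MulAut G} {m : ℕ} {T : Type v} [Group T] [Finite T]

omit [Finite T] in
/-- Inner automorphisms act trivially on the Frattini quotient. -/
theorem rho_conj (r : G) : C.ρ (MulAut.conj r) = 1 :=
  Units.ext_apply fun v => by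
    obtain ⟨y, -, rfl⟩ := C.cU.surj v
    rw [C.rho, MulAut.conj_apply, C.cU.map_conj trivial trivial]
    rfl

/-- The case `e ↦ e x`. -/
theorem false_of_first (hG : IsPGroup p G) (hp : 3 ≤ p) (hsr : SectionalPRankLE p 3 T) (ht : t ≠ 0) (ht2 : t ^ 2 ≠ 1)
    (ht3 : t ^ 3 ≠ 1) (hE : (C.ρ θ).1 C.E0 = C.E0 + C.X0) (hX : (C.ρ θ).1 C.X0 = C.X0)
    (hW : (C.ρ θ).1 C.W0 = C.W0) (hm : (m : ZMod p) = t ^ 3) (X : Ext p γ θ m T) : False := by
  have h21 : t ^ 2 ≠ t⁻¹ := fun h => ht3 (by rw [pow_succ, h, inv_mul_cancel₀ ht])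
  have hxw := C.xw_zero hG hp h21 ht2
  have hxp := C.px_zero hG hp h21 ht2
  have t23 : t ^ 2 - t ^ 3 ≠ 0 := by
    rw [show t ^ 2 - t ^ 3 = t ^ 2 * (1 - t) by ring]
    exact mul_ne_zero (pow_ne_zero 2 ht) (sub_ne_zero.2 fun h => ht2 (by rw [← h, one_pow]))
  have t13 : t - t ^ 3 ≠ 0 := by
    rw [show t - t ^ 3 = t * (1 - t ^ 2) by ring]
    exact mul_ne_zero ht (sub_ne_zero.2 (Ne.symm ht2))
  set S := Submodule.span (ZMod p) {C.F, pw p C D.e, pw p C D.w} with hS
  have hSmem : ∀ i j k : ZMod p, i • C.F + j • pw p C D.e + k • pw p C D.w ∈ S := fun i j k =>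
    add_mem (add_mem (S.smul_mem _ (Submodule.subset_span (by simp))) (S.smul_mem _ (Submodule.subset_span (by simp))))
      (S.smul_mem _ (Submodule.subset_span (by simp)))
  have hSz : ∀ a : ZMod p, a • C.Z ∈ S → a = 0 := fun a ha => by
    obtain ⟨i, j, k, h⟩ := Submodule.mem_span_triple.1 ha
    exact C.z_indep hG hp (a := a) (i := -i) (j := -j) (k := -k) (by linear_combination (norm := module) -h)
  -- `θ` fixes the second layer
  have hfix : ∀ {θ' : MulAut G}, C.ρ θ' = C.ρ θ → ∀ w, dd (C.σ θ') w = 0 := by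
    intro θ' he w
    obtain ⟨a, i, j, k, rfl⟩ := spanW (C := C) hG hp w
    have cE : C.cU.v (θ' D.e) = (1 : ZMod p) • C.E0 + (1 : ZMod p) • C.X0 + (0 : ZMod p) • C.W0 := by
      rw [← C.rho, he]; show (C.ρ θ).1 C.E0 = _; rw [hE]; simp
    have cX : C.cU.v (θ' D.x) = (0 : ZMod p) • C.E0 + (1 : ZMod p) • C.X0 + (0 : ZMod p) • C.W0 := by
      rw [← C.rho, he]; show (C.ρ θ).1 C.X0 = _; rw [hX]; simp
    have cW : C.cU.v (θ' D.w) = (0 : ZMod p) • C.E0 + (0 : ZMod p) • C.X0 + (1 : ZMod p) • C.W0 := by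
      rw [← C.rho, he]; show (C.ρ θ).1 C.W0 = _; rw [hW]; simp
    have eZ : (C.σ θ').1 C.Z = C.Z := by rw [Z, b_map C hG, C.b_of_coords hG hp cE cX, hxw]; simp [Z]
    have eF : (C.σ θ').1 C.F = C.F := by rw [F, b_map C hG, C.b_of_coords hG hp cE cW, hxw]; simp [F]
    have ee : (C.σ θ').1 (pw p C D.e) = pw p C D.e := by rw [pw_map C hG, C.pw_of_coords hG hp cE, hxp]; simp
    have ew : (C.σ θ').1 (pw p C D.w) = pw p C D.w := by rw [pw_map C hG, C.pw_of_coords hG hp cW]; simp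
    simp only [dd_apply, map_add, map_smul, eZ, eF, ee, ew, sub_self, smul_zero, add_zero]
  have hbase : ∀ {θ' : MulAut G}, C.ρ θ' = C.ρ θ → Base C θ' S := fun he =>
    ⟨hG, hp, fun w => by rw [hfix he]; exact zero_mem _, fun w => hfix he _⟩
  -- adjust `h` so that it centralises `x`
  obtain ⟨a, i₁, j₁, k₁, hlx⟩ := spanW (C := C) hG hp (dl C θ D.x)
  obtain ⟨r', X', -, -⟩ := X.exists_change (D.e ^ a.val)
  set θ' := θ * MulAut.conj (D.e ^ a.val) with hθ'
  have he : C.ρ θ' = C.ρ θ := by rw [hθ', map_mul, rho_conj, mul_one]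
  have B := hbase he
  have hE' : (C.ρ θ').1 (C.cU.v D.e) = C.E0 + C.X0 := by rw [he]; exact hE
  have hX' : (C.ρ θ').1 (C.cU.v D.x) = C.cU.v D.x := by rw [he]; exact hX
  have hW' : (C.ρ θ').1 (C.cU.v D.w) = C.cU.v D.w := by rw [he]; exact hW
  have hfxU : ∀ {y : G}, y ∈ frattini G → (C.ρ θ').1 (C.cU.v y) = C.cU.v y := fun hy => by
    rw [(C.cU.mem _ trivial).2 hy, map_zero]
  have hlx' : dl C θ' D.x ∈ S := by
    have hcm := comm_mem (p := p) hG D.x (D.e ^ a.val)
    have h1 : D.x⁻¹ * θ' D.x = D.x⁻¹ * θ D.x * θ (D.x⁻¹ * D.e ^ a.val * D.x * (D.e ^ a.val)⁻¹) := by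
      rw [mul_assoc, ← map_mul, hθ', MulAut.mul_apply, MulAut.conj_apply]
      congr 2; group
    rw [dl, h1, C.cW.map_mul _ (diff_mem C θ (show (C.ρ θ).1 (C.cU.v D.x) = _ from hX)) _
      (Resistant67.aut_mem_frattini θ hcm), ← C.sigma θ _ hcm, Units.apply_eq (C.σ θ), hfix rfl, add_zero]
    show dl C θ D.x + C.b D.x (D.e ^ a.val) ∈ S
    rw [b_pow_right C hG, b_swap C hG D.e D.x, ZMod.natCast_zmod_val, hlx]
    convert hSmem i₁ j₁ k₁ using 1
    simp only [Z]; module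
  obtain ⟨i0, j0, k0, hn0⟩ := C.spanU (C.cU.v X'.n0)
  -- `n₀` has no `e`
  have hi0 : i0 = 0 := by
    have h := B.key X' hX' (s := t ^ 2) D.γx
    have h1 : (C.σ γ).1 (dl C θ' D.x) ∈ S := by
      obtain ⟨i, j, k, hl⟩ := Submodule.mem_span_triple.1 hlx'
      rw [← hl, map_add, map_add, map_smul, map_smul, map_smul, C.gamma_F hG hp, C.gamma_pe hG hp, C.gamma_pw hG hp,
        smul_smul, smul_smul]
      exact hSmem _ _ _
    have h2 := sub_mem (sub_mem h1 (S.smul_mem ((m : ZMod p) * t ^ 2) hlx')) h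
    rw [sub_sub_cancel, C.b_of_coords hG hp (i := 0) (j := t ^ 2) (k := 0)
      (by rw [← C.rho]; show (C.ρ γ).1 C.X0 = _; rw [C.gamma_X0]; simp) hn0, hxw] at h2
    have h3 : (-(t ^ 2 * i0)) • C.Z ∈ S := by convert h2 using 1; module
    simpa [ht] using hSz _ h3
  subst hi0
  have hn0fix : (C.ρ θ').1 (C.cU.v X'.n0) = C.cU.v X'.n0 := by
    rw [hn0, map_add, map_add, map_smul, map_smul, map_smul, show (C.ρ θ').1 C.X0 = C.X0 from hX',
      show (C.ρ θ').1 C.W0 = C.W0 from hW', zero_smul, zero_smul]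
  have hn0p : pw p C X'.n0 ∈ S := by
    rw [C.pw_of_coords hG hp hn0, hxp, zero_smul, smul_zero, zero_add, zero_add]
    exact S.smul_mem _ (Submodule.subset_span (by simp))
  -- `[h, w] = 1`
  have hlw : dl C θ' D.w ∈ S := by
    have h := B.key X' hW' (s := 1) (by rw [ZMod.val_one, pow_one]; exact D.γw)
    obtain ⟨c, i, j, k, hl⟩ := spanW (C := C) hG hp (dl C θ' D.w)
    have hb : C.b (γ D.w) X'.n0 ∈ S := by
      rw [C.b_of_coords hG hp (i := 0) (j := 0) (k := 1)
        (by rw [← C.rho]; show (C.ρ γ).1 C.W0 = _; rw [C.gamma_W0]; simp) hn0, hxw]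
      convert hSmem 0 0 0 using 1; module
    have h1 := add_mem h hb
    rw [sub_add_cancel, hl, map_add, map_add, map_add, map_smul, map_smul, map_smul, map_smul, C.gamma_Z hG hp ht,
      C.gamma_F hG hp, C.gamma_pe hG hp, C.gamma_pw hG hp, hm, mul_one] at h1
    have h2 := sub_mem h1 (hSmem (i * t⁻¹ - t ^ 3 * i) (j * t⁻¹ - t ^ 3 * j) (k - t ^ 3 * k))
    have h3 : (c * (t - t ^ 3)) • C.Z ∈ S := by convert h2 using 1; module
    have hc : c = 0 := (mul_eq_zero.1 (hSz _ h3)).resolve_right t13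
    rw [hl, hc, zero_smul, zero_add]
    exact hSmem i j k
  -- the `p`-th power of `h`
  obtain ⟨n, hn⟩ := X'.hpow
  obtain ⟨i, j, k, hnU⟩ := C.spanU (C.cU.v n)
  have hi : i = 0 := by
    have h1 : (θ' ^ p) D.x = n * D.x * n⁻¹ := X'.inj (by
      rw [← X'.conj_pow_h, ← hn, map_mul, map_mul, map_inv])
    have h2 := dl_iter C θ' hX' B.sq p
    rw [h1, hfix he, smul_zero, add_zero, ZMod.natCast_self, zero_smul,
      show D.x⁻¹ * (n * D.x * n⁻¹) = D.x⁻¹ * n * D.x * n⁻¹ by group] at h2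
    change C.b D.x n = 0 at h2
    rw [C.b_of_coords hG hp (i := 0) (j := 1) (k := 0) (by simp; rfl) hnU, hxw] at h2
    have h3 : (-i) • C.Z = 0 := by linear_combination (norm := module) h2
    exact neg_eq_zero.1 ((smul_eq_zero.1 h3).resolve_right (C.Z_ne_zero hG hp))
  subst hi
  have hkp := B.key_pow X' hn0fix hn0p hn
  obtain ⟨hj, hk⟩ : j = 0 ∧ k = 0 := by
    have h := (C.cU.mem _ trivial).2 hkp.1
    rw [C.cU.map_mul _ trivial _ trivial, C.cU.map_inv trivial, C.cU.map_pow trivial, ← C.rho, hnU, map_add, map_add,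
      map_smul, map_smul, map_smul, C.gamma_X0, C.gamma_W0, hm, zero_smul, zero_smul] at h
    obtain ⟨-, h1, h2⟩ := C.indepU 0 (j * (t ^ 2 - t ^ 3)) (k * (1 - t ^ 3)) (by linear_combination (norm := module) h)
    exact ⟨(mul_eq_zero.1 h1).resolve_right t23,
      (mul_eq_zero.1 h2).resolve_right (sub_ne_zero.2 (Ne.symm ht3))⟩
  subst hj hk
  have hnF : n ∈ frattini G := (C.cU.mem n trivial).1 (by rw [hnU]; simp)
  have hnK : n ∈ layerSub C S := by
    obtain ⟨c, i, j, k, hl⟩ := spanW (C := C) hG hp (C.cW.v n)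
    have h := hkp.2
    rw [C.cW.map_mul _ (inv_mem (pow_mem hnF m)) _ (Resistant67.aut_mem_frattini γ hnF),
      C.cW.map_inv (pow_mem hnF m), C.cW.map_pow hnF, ← C.sigma γ n hnF, hl, map_add, map_add, map_add, map_smul,
      map_smul, map_smul, map_smul, C.gamma_Z hG hp ht, C.gamma_F hG hp, C.gamma_pe hG hp, C.gamma_pw hG hp, hm] at h
    have h2 := sub_mem h (hSmem (i * t⁻¹ - t ^ 3 * i) (j * t⁻¹ - t ^ 3 * j) (k - t ^ 3 * k))
    have h3 : (c * (t - t ^ 3)) • C.Z ∈ S := by convert h2 using 1; module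
    have hc : c = 0 := (mul_eq_zero.1 (hSz _ h3)).resolve_right t13
    exact ⟨hnF, by rw [hl, hc, zero_smul, zero_add]; exact hSmem i j k⟩
  -- four elements
  set z0 := D.e⁻¹ * D.x * D.e * D.x⁻¹ with hz0
  have hzF : z0 ∈ frattini G := comm_mem hG D.e D.x
  have hzv : C.cW.v z0 = C.Z := rfl
  refine B.false_of_four X' hsr hn hnK ![D.x, D.w, z0] ?_ ?_ ?_ ?_
  · intro i; fin_cases i
    · show D.x ^ p ∈ layerSub C S
      refine ⟨PGroups.pow_mem_frattini hG _, ?_⟩
      show pw p C D.x ∈ S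
      rw [hxp]; exact zero_mem _
    · show D.w ^ p ∈ layerSub C S
      exact ⟨PGroups.pow_mem_frattini hG _, Submodule.subset_span (by simp [pw])⟩
    · exact B.pow_layer hzF
  · have hxwK : ∀ y y' : G, C.b y⁻¹ y' ∈ S → y * y' * y⁻¹ * y'⁻¹ ∈ layerSub C S := fun y y' hy => by
      refine ⟨PGroups.commutatorElement_mem_frattini hG y y', ?_⟩
      rwa [b, form, inv_inv] at hy
    have hinvb : ∀ y y' : G, C.b y⁻¹ y' = - C.b y y' := fun y y' => by
      have h := b_left C hG y⁻¹ y y'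
      rw [inv_mul_cancel, b_one_left C hG] at h
      exact eq_neg_of_add_eq_zero_left h.symm
    have hinv : ∀ {y y' : G}, y * y' * y⁻¹ * y'⁻¹ ∈ layerSub C S → y' * y * y'⁻¹ * y⁻¹ ∈ layerSub C S :=
      fun {y y'} h => by
        have := inv_mem h
        rwa [show (y * y' * y⁻¹ * y'⁻¹)⁻¹ = y' * y * y'⁻¹ * y⁻¹ by group] at this
    have k1 : D.x * D.w * D.x⁻¹ * D.w⁻¹ ∈ layerSub C S :=
      hxwK _ _ (by rw [hinvb, hxw, neg_zero]; exact zero_mem _)
    intro i j
    fin_cases i <;> fin_cases j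
    all_goals first
      | exact k1
      | exact hinv k1
      | exact B.comm_layer hzF _
      | exact hinv (B.comm_layer hzF _)
      | (simp; exact one_mem _)
      | simp
  · intro i; fin_cases i
    · exact ⟨diff_mem C θ' hX', hlx'⟩
    · exact ⟨diff_mem C θ' hW', hlw⟩
    · refine ⟨diff_mem C θ' (hfxU hzF), ?_⟩
      show dl C θ' z0 ∈ S
      rw [dl_frattini C θ' hzF]; exact B.move _
  · intro d hd
    simp only [Matrix.cons_val_zero, Matrix.cons_val_one, Matrix.cons_val_two, Matrix.head_cons,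
      Matrix.tail_cons] at hd
    have h := (C.cU.mem _ trivial).2 hd.1
    rw [C.cU.map_mul _ trivial _ trivial, C.cU.map_mul _ trivial _ trivial, C.cU.map_zpow trivial, C.cU.map_zpow trivial,
      C.cU.map_zpow trivial, (C.cU.mem _ trivial).2 hzF, smul_zero, add_zero] at h
    obtain ⟨-, h0, h1⟩ := C.indepU 0 (d 0 : ZMod p) (d 1 : ZMod p) (by rw [zero_smul, zero_add]; exact h)
    obtain ⟨c0, hc0⟩ := (ZMod.intCast_zmod_eq_zero_iff_dvd _ p).1 h0
    obtain ⟨c1, hc1⟩ := (ZMod.intCast_zmod_eq_zero_iff_dvd _ p).1 h1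
    have hx0 : D.x ^ d 0 ∈ layerSub C S := by
      rw [hc0, zpow_mul, zpow_natCast]
      exact zpow_mem (show D.x ^ p ∈ layerSub C S from
        ⟨PGroups.pow_mem_frattini hG _, by show pw p C D.x ∈ S; rw [hxp]; exact zero_mem _⟩) _
    have hw0 : D.w ^ d 1 ∈ layerSub C S := by
      rw [hc1, zpow_mul, zpow_natCast]
      exact zpow_mem (show D.w ^ p ∈ layerSub C S from
        ⟨PGroups.pow_mem_frattini hG _, Submodule.subset_span (by simp [pw])⟩) _
    have hz : z0 ^ d 2 ∈ layerSub C S := by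
      have := mul_mem (inv_mem (mul_mem hx0 hw0)) hd
      rwa [inv_mul_cancel_left] at this
    have h2 := hz.2
    rw [C.cW.map_zpow hzF, hzv] at h2
    intro l
    rw [← ZMod.intCast_zmod_eq_zero_iff_dvd]
    fin_cases l
    exacts [h0, h1, hSz _ h2]

set_option maxHeartbeats 1600000 in
/-- The case `w ↦ w x`. -/
theorem false_of_second (hG : IsPGroup p G) (hp : 3 ≤ p) (hsr : SectionalPRankLE p 3 T) (ht : t ≠ 0) (ht2 : t ^ 2 ≠ 1)
    (ht3 : t ^ 3 ≠ 1) (ht5 : t ^ 5 ≠ 1) (hF : C.F ≠ 0) (hE : (C.ρ θ).1 C.E0 = C.E0) (hX : (C.ρ θ).1 C.X0 = C.X0)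
    (hW : (C.ρ θ).1 C.W0 = C.W0 + C.X0) (hm : (m : ZMod p) = t ^ 2) (X : Ext p γ θ m T) : False := by
  have h21 : t ^ 2 ≠ t⁻¹ := fun h => ht3 (by rw [pow_succ, h, inv_mul_cancel₀ ht])
  have hxw := C.xw_zero hG hp h21 ht2
  have hxp := C.px_zero hG hp h21 ht2
  have hs1 : t⁻¹ - 1 ≠ 0 := sub_ne_zero.2 fun h => ht2 (by rw [inv_eq_one] at h; rw [h, one_pow])
  set S := Submodule.span (ZMod p) {C.Z} with hS
  have hSz : ∀ {i j k : ZMod p}, i • C.F + j • pw p C D.e + k • pw p C D.w ∈ S →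
      i • C.F + j • pw p C D.e + k • pw p C D.w = 0 := fun {i j k} h => by
    obtain ⟨a, ha⟩ := Submodule.mem_span_singleton.1 h
    have := C.z_indep hG hp (a := -a) (i := i) (j := j) (k := k) (by linear_combination (norm := module) -ha)
    rw [neg_eq_zero] at this
    rw [this, zero_smul] at ha
    exact ha.symm
  have hmv : ∀ {θ' : MulAut G}, C.ρ θ' = C.ρ θ → (dd (C.σ θ') C.Z = 0 ∧ dd (C.σ θ') C.F = C.Z ∧
      dd (C.σ θ') (pw p C D.e) = 0 ∧ dd (C.σ θ') (pw p C D.w) = 0) ∧ Base C θ' S := by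
    intro θ' he
    have cE : C.cU.v (θ' D.e) = (1 : ZMod p) • C.E0 + (0 : ZMod p) • C.X0 + (0 : ZMod p) • C.W0 := by
      rw [← C.rho, he]; show (C.ρ θ).1 C.E0 = _; rw [hE]; simp
    have cX : C.cU.v (θ' D.x) = (0 : ZMod p) • C.E0 + (1 : ZMod p) • C.X0 + (0 : ZMod p) • C.W0 := by
      rw [← C.rho, he]; show (C.ρ θ).1 C.X0 = _; rw [hX]; simp
    have cW : C.cU.v (θ' D.w) = (0 : ZMod p) • C.E0 + (1 : ZMod p) • C.X0 + (1 : ZMod p) • C.W0 := by
      rw [← C.rho, he]; show (C.ρ θ).1 C.W0 = _; rw [hW]; simp; abel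
    have d1 : dd (C.σ θ') C.Z = 0 := by rw [dd_apply, Z, b_map C hG, C.b_of_coords hG hp cE cX]; simp [Z]
    have d2 : dd (C.σ θ') C.F = C.Z := by rw [dd_apply, F, b_map C hG, C.b_of_coords hG hp cE cW]; simp [F]
    have d3 : dd (C.σ θ') (pw p C D.e) = 0 := by rw [dd_apply, pw_map C hG, C.pw_of_coords hG hp cE]; simp
    have d4 : dd (C.σ θ') (pw p C D.w) = 0 := by rw [dd_apply, pw_map C hG, C.pw_of_coords hG hp cW, hxp]; simp
    refine ⟨⟨d1, d2, d3, d4⟩, hG, hp, fun w => ?_, fun w => ?_⟩ <;>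
      obtain ⟨a, i, j, k, rfl⟩ := spanW (C := C) hG hp w
    · simp only [map_add, map_smul, d1, d2, d3, d4, smul_zero, zero_add, add_zero]
      exact S.smul_mem _ (Submodule.mem_span_singleton_self _)
    · simp only [map_add, map_smul, d1, d2, d3, d4, smul_zero, zero_add, add_zero]
  -- adjust `h`
  obtain ⟨i0, j0, k0, hn0⟩ := C.spanU (C.cU.v X.n0)
  have hd1 : (m : ZMod p) - t⁻¹ ≠ 0 := by rw [hm]; exact sub_ne_zero.2 h21
  have hd2 : (m : ZMod p) - 1 ≠ 0 := by rw [hm]; exact sub_ne_zero.2 ht2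
  set i := i0 / ((m : ZMod p) - t⁻¹) with hidef
  set k := k0 / ((m : ZMod p) - 1) with hkdef
  obtain ⟨r, hr⟩ : ∃ r, r = D.e ^ i.val * D.w ^ k.val := ⟨_, rfl⟩
  have hrU : C.cU.v r = i • C.E0 + (0 : ZMod p) • C.X0 + k • C.W0 := by
    rw [hr, C.cU.map_mul _ trivial _ trivial, C.cU.map_pow trivial, C.cU.map_pow trivial, ZMod.natCast_zmod_val,
      ZMod.natCast_zmod_val, zero_smul, add_zero]
    rfl
  have hr'U : ∀ (l : ℕ) (y : G), (X.h * X.ι r) ^ l = X.h ^ l * X.ι y →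
      ∃ a : ZMod p, C.cU.v y = ((l : ZMod p) * i) • C.E0 + a • C.X0 + ((l : ZMod p) * k) • C.W0 := by
    intro l
    induction l with
    | zero =>
      intro y hy
      refine ⟨0, ?_⟩
      rw [pow_zero, pow_zero, one_mul] at hy
      rw [show y = 1 from X.inj (hy.symm.trans (map_one X.ι).symm), C.cU.map_one]
      simp
    | succ l ih =>
      intro y hy
      obtain ⟨y', hy'⟩ : ∃ y', (X.h * X.ι r) ^ l = X.h ^ l * X.ι y' := by
        refine ⟨θ (y * r⁻¹), ?_⟩
        rw [← X.conj, map_mul, map_inv]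
        rw [pow_succ, pow_succ X.h] at hy
        rw [eq_mul_inv_of_mul_eq hy]; group
      obtain ⟨a, ha⟩ := ih y' hy'
      have he : y = θ⁻¹ y' * r := X.inj (mul_left_cancel (a := X.h ^ (l + 1)) (by
        rw [← hy, pow_succ, hy', map_mul, pow_succ X.h]
        have h1 := X.conj (θ⁻¹ y'); rw [MulAut.apply_inv_self] at h1
        rw [← h1]; group))
      refine ⟨a - (l : ZMod p) * k, ?_⟩
      rw [he, C.cU.map_mul _ trivial _ trivial, hrU, ← C.rho θ⁻¹, ha, map_inv,
        show (C.ρ θ)⁻¹.1 (((l : ZMod p) * i) • C.E0 + a • C.X0 + ((l : ZMod p) * k) • C.W0) =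
          ((l : ZMod p) * i) • C.E0 + (a - (l : ZMod p) * k) • C.X0 + ((l : ZMod p) * k) • C.W0 by
          refine Units.apply_inj (C.ρ θ) ?_
          rw [Units.apply_inv_self]
          simp only [map_add, map_smul, hE, hX, hW]
          module]
      push_cast
      module
  obtain ⟨θ', hθ', r', X', hn0', hr'⟩ : ∃ θ', θ' = θ * MulAut.conj r ∧ ∃ (r' : G) (X' : Ext p γ θ' m T),
      X'.n0 = r'⁻¹ * X.n0 * γ r ∧ (X.h * X.ι r) ^ m = X.h ^ m * X.ι r' := ⟨_, rfl, X.exists_change r⟩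
  have he : C.ρ θ' = C.ρ θ := by rw [hθ', map_mul, rho_conj, mul_one]
  obtain ⟨⟨d1, d2, d3, d4⟩, B⟩ := hmv he
  have hE' : (C.ρ θ').1 (C.cU.v D.e) = C.cU.v D.e := by rw [he]; exact hE
  have hX' : (C.ρ θ').1 (C.cU.v D.x) = C.cU.v D.x := by rw [he]; exact hX
  have hfxU : ∀ {y : G}, y ∈ frattini G → (C.ρ θ').1 (C.cU.v y) = C.cU.v y := fun hy => by
    rw [(C.cU.mem _ trivial).2 hy, map_zero]
  obtain ⟨a, hn0x⟩ : ∃ a : ZMod p, C.cU.v X'.n0 = (0 : ZMod p) • C.E0 + a • C.X0 + (0 : ZMod p) • C.W0 := by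
    obtain ⟨a, ha⟩ := hr'U m r' hr'
    refine ⟨j0 - a, ?_⟩
    rw [hn0', C.cU.map_mul _ trivial _ trivial, C.cU.map_mul _ trivial _ trivial, C.cU.map_inv trivial, ha,
      hn0, ← C.rho γ r, hrU, map_add, map_add, map_smul, map_smul, map_smul, C.gamma_E0, C.gamma_X0, C.gamma_W0]
    match_scalars
    · have : i * ((m : ZMod p) - t⁻¹) = i0 := by rw [hidef, div_mul_cancel₀ _ hd1]
      linear_combination -this
    · ring
    · have : k * ((m : ZMod p) - 1) = k0 := by rw [hkdef, div_mul_cancel₀ _ hd2]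
      linear_combination -this
  have hn0fix : (C.ρ θ').1 (C.cU.v X'.n0) = C.cU.v X'.n0 := by
    rw [hn0x]
    simp [show (C.ρ θ').1 C.X0 = C.X0 from hX', show (C.ρ θ').1 C.E0 = C.E0 from hE']
  have hn0p : pw p C X'.n0 ∈ S := by
    rw [C.pw_of_coords hG hp hn0x, hxp]; simp
  -- `[h, e]` lies in `<z>`
  have hle : dl C θ' D.e ∈ S := by
    have h := B.key X' hE' (s := t⁻¹) D.γe
    obtain ⟨c, i, j, k, hl⟩ := spanW (C := C) hG hp (dl C θ' D.e)
    rw [C.b_of_coords hG hp (i := t⁻¹) (j := 0) (k := 0)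
      (by rw [← C.rho]; show (C.ρ γ).1 C.E0 = _; rw [C.gamma_E0]; simp) hn0x, hxw, hl, map_add, map_add, map_add,
      map_smul, map_smul, map_smul, map_smul, C.gamma_Z hG hp ht, C.gamma_F hG hp, C.gamma_pe hG hp,
      C.gamma_pw hG hp, hm, show t ^ 2 * t⁻¹ = t by field_simp] at h
    have hz : ∀ a : ZMod p, a • C.Z ∈ S := fun a => S.smul_mem a (Submodule.mem_span_singleton_self _)
    have h2 := sub_mem h (hz (c * t - t * c - t⁻¹ * a))
    have h3 := hSz (i := i * t⁻¹ - t * i) (j := j * t⁻¹ - t * j) (k := k - t * k) (by convert h2 using 1; module)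
    have hv := C.eq_zero_of_weight hG hp (v := i • C.F + j • pw p C D.e + k • pw p C D.w) rfl (s := t) (by
        simp only [map_add, map_smul, C.gamma_F hG hp, C.gamma_pe hG hp, C.gamma_pw hG hp]
        linear_combination (norm := module) h3)
      (fun h => ht2 (by rw [sq]; nth_rewrite 1 [h]; exact inv_mul_cancel₀ ht)) (fun h => ht2 (by rw [h, one_pow]))
    rw [hl, show c • C.Z + i • C.F + j • pw p C D.e + k • pw p C D.w =
      c • C.Z + (i • C.F + j • pw p C D.e + k • pw p C D.w) by abel, hv, add_zero]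
    exact hz c
  -- `[h, x]` is a multiple of `w ^ p` modulo `z`
  obtain ⟨κ, hlx⟩ : ∃ κ : ZMod p, dl C θ' D.x - κ • pw p C D.w ∈ S := by
    have h := B.key X' hX' (s := t ^ 2) D.γx
    obtain ⟨c, i, j, k, hl⟩ := spanW (C := C) hG hp (dl C θ' D.x)
    rw [C.b_of_coords hG hp (i := 0) (j := t ^ 2) (k := 0)
      (by rw [← C.rho]; show (C.ρ γ).1 C.X0 = _; rw [C.gamma_X0]; simp) hn0x, hxw, hl, map_add, map_add, map_add,
      map_smul, map_smul, map_smul, map_smul, C.gamma_Z hG hp ht, C.gamma_F hG hp, C.gamma_pe hG hp,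
      C.gamma_pw hG hp, hm] at h
    have hz : ∀ a : ZMod p, a • C.Z ∈ S := fun a => S.smul_mem a (Submodule.mem_span_singleton_self _)
    have h2 := sub_mem h (hz (c * t - t ^ 4 * c))
    have h3 := hSz (i := i * t⁻¹ - t ^ 4 * i) (j := j * t⁻¹ - t ^ 4 * j) (k := k - t ^ 4 * k)
      (by convert h2 using 1; module)
    have h4 := congrArg (C.σ γ).1 h3
    simp only [map_add, map_smul, map_zero, C.gamma_F hG hp, C.gamma_pe hG hp, C.gamma_pw hG hp] at h4
    have h5 : ((t⁻¹ - 1) * (t⁻¹ - t ^ 4)) • (i • C.F + j • pw p C D.e) = 0 := by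
      linear_combination (norm := module) h4 - h3
    have ht14 : t⁻¹ - t ^ 4 ≠ 0 := sub_ne_zero.2 fun h => ht5 (by rw [pow_succ, ← h, inv_mul_cancel₀ ht])
    have h6 := (smul_eq_zero.1 h5).resolve_left (mul_ne_zero hs1 ht14)
    refine ⟨k, ?_⟩
    rw [hl, show c • C.Z + i • C.F + j • pw p C D.e + k • pw p C D.w - k • pw p C D.w =
      c • C.Z + (i • C.F + j • pw p C D.e) by abel, h6, add_zero]
    exact hz c
  -- the `p`-th power of `h`
  obtain ⟨n, hn⟩ := X'.hpow
  obtain ⟨i1, j1, k1, hnU⟩ := C.spanU (C.cU.v n)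
  obtain ⟨rfl, rfl⟩ : j1 = 0 ∧ k1 = 0 := by
    have h1 : (θ' ^ p) D.e = n * D.e * n⁻¹ := X'.inj (by
      rw [← X'.conj_pow_h, ← hn, map_mul, map_mul, map_inv])
    have h2 := dl_iter C θ' hE' B.sq p
    rw [h1, ZMod.natCast_self, zero_smul, zero_add,
      show ((p.choose 2 : ℕ) : ZMod p) = 0 from (ZMod.natCast_eq_zero_iff _ _).2
        ((Fact.out : p.Prime).dvd_choose_self two_ne_zero (by omega)), zero_smul,
      show D.e⁻¹ * (n * D.e * n⁻¹) = D.e⁻¹ * n * D.e * n⁻¹ by group] at h2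
    change C.b D.e n = 0 at h2
    rw [C.b_of_coords hG hp (i := 1) (j := 0) (k := 0) (by simp; rfl) hnU, hxw] at h2
    have h3 : j1 • C.Z + k1 • C.F = 0 := by linear_combination (norm := module) h2
    have hj := C.z_indep hG hp (a := j1) (i := k1) (j := 0) (k := 0) (by simpa using h3)
    rw [hj, zero_smul, zero_add] at h3
    exact ⟨hj, (smul_eq_zero.1 h3).resolve_right hF⟩
  have hkp := B.key_pow X' hn0fix hn0p hn
  have hi1 : i1 = 0 := by
    have h := (C.cU.mem _ trivial).2 hkp.1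
    rw [C.cU.map_mul _ trivial _ trivial, C.cU.map_inv trivial, C.cU.map_pow trivial, ← C.rho, hnU, map_add, map_add,
      map_smul, map_smul, map_smul, C.gamma_E0, hm, zero_smul, zero_smul] at h
    obtain ⟨h1, -, -⟩ := C.indepU (i1 * (t⁻¹ - t ^ 2)) 0 0 (by linear_combination (norm := module) h)
    exact (mul_eq_zero.1 h1).resolve_right (sub_ne_zero.2 h21.symm)
  subst hi1
  have hnF : n ∈ frattini G := (C.cU.mem n trivial).1 (by rw [hnU]; simp)
  have hz : ∀ a : ZMod p, a • C.Z ∈ S := fun a => S.smul_mem a (Submodule.mem_span_singleton_self _)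
  have hnK : n ∈ layerSub C S := by
    obtain ⟨c, i, j, k, hl⟩ := spanW (C := C) hG hp (C.cW.v n)
    have h := hkp.2
    rw [C.cW.map_mul _ (inv_mem (pow_mem hnF m)) _ (Resistant67.aut_mem_frattini γ hnF),
      C.cW.map_inv (pow_mem hnF m), C.cW.map_pow hnF, ← C.sigma γ n hnF, hl, map_add, map_add, map_add, map_smul,
      map_smul, map_smul, map_smul, C.gamma_Z hG hp ht, C.gamma_F hG hp, C.gamma_pe hG hp, C.gamma_pw hG hp, hm] at h
    have h2 := sub_mem h (hz (c * t - t ^ 2 * c))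
    have h3 := hSz (i := i * t⁻¹ - t ^ 2 * i) (j := j * t⁻¹ - t ^ 2 * j) (k := k - t ^ 2 * k)
      (by convert h2 using 1; module)
    have hv := C.eq_zero_of_weight hG hp (v := i • C.F + j • pw p C D.e + k • pw p C D.w) rfl (s := t ^ 2) (by
        simp only [map_add, map_smul, C.gamma_F hG hp, C.gamma_pe hG hp, C.gamma_pw hG hp]
        linear_combination (norm := module) h3) h21 ht2
    refine ⟨hnF, ?_⟩
    rw [hl, show c • C.Z + i • C.F + j • pw p C D.e + k • pw p C D.w =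
      c • C.Z + (i • C.F + j • pw p C D.e + k • pw p C D.w) by abel, hv, add_zero]
    exact hz c
  -- independence in the second layer
  have hindW : ∀ a b c : ZMod p, a • C.F + b • pw p C D.e + c • pw p C D.w = 0 →
      a = 0 ∧ b • pw p C D.e = 0 ∧ c • pw p C D.w = 0 := fun a b c h => by
    have h1 := congrArg (dd (C.σ θ')) h
    simp only [map_add, map_smul, map_zero, d2, d3, d4, smul_zero, add_zero] at h1
    have ha := (smul_eq_zero.1 h1).resolve_right (C.Z_ne_zero hG hp)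
    rw [ha, zero_smul, zero_add] at h
    have h2 := congrArg (C.σ γ).1 h
    simp only [map_add, map_smul, map_zero, C.gamma_pe hG hp, C.gamma_pw hG hp] at h2
    have h3 : (t⁻¹ - 1) • (c • pw p C D.w) = 0 := by
      have h4 := congrArg (fun v : W => t⁻¹ • v) h
      simp only [smul_zero] at h4
      linear_combination (norm := module) h4 - h2
    have hc := (smul_eq_zero.1 h3).resolve_left hs1
    rw [hc, add_zero] at h
    exact ⟨ha, h, hc⟩
  -- the lifts
  set f0 := D.e⁻¹ * D.w * D.e * D.w⁻¹ with hf0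
  have hfF : f0 ∈ frattini G := comm_mem hG D.e D.w
  have hfv : C.cW.v f0 = C.F := rfl
  have hepF := PGroups.pow_mem_frattini (p := p) hG D.e
  have hwpF := PGroups.pow_mem_frattini (p := p) hG D.w
  have hθfr : ∀ y ∈ frattini G, y⁻¹ * θ' y ∈ layerSub C S := fun y hy =>
    ⟨diff_mem C θ' (hfxU hy), by show dl C θ' y ∈ S; rw [dl_frattini C θ' hy]; exact B.move _⟩
  have hθe : D.e⁻¹ * θ' D.e ∈ layerSub C S := ⟨diff_mem C θ' hE', hle⟩
  have hinv : ∀ {y y' : G}, y * y' * y⁻¹ * y'⁻¹ ∈ layerSub C S → y' * y * y'⁻¹ * y⁻¹ ∈ layerSub C S :=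
    fun {y y'} h => by
      have := inv_mem h
      rwa [show (y * y' * y⁻¹ * y'⁻¹)⁻¹ = y' * y * y'⁻¹ * y⁻¹ by group] at this
  have hxe : D.x * D.e * D.x⁻¹ * D.e⁻¹ ∈ layerSub C S := by
    refine ⟨PGroups.commutatorElement_mem_frattini hG D.x D.e, ?_⟩
    have h0 : C.cW.v (D.x * D.e * D.x⁻¹ * D.e⁻¹) = C.b D.x⁻¹ D.e := by rw [b, form, inv_inv]
    have h1 := b_left C hG D.x⁻¹ D.x D.e
    rw [inv_mul_cancel, b_one_left C hG, b_swap C hG D.e D.x, ← sub_eq_add_neg, eq_comm, sub_eq_zero] at h1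
    rw [h0, h1]
    exact Submodule.mem_span_singleton_self _
  have hxK : D.x ^ p ∈ layerSub C S := ⟨PGroups.pow_mem_frattini hG _, by show pw p C D.x ∈ S; rw [hxp]; exact zero_mem _⟩
  -- exponents
  have hexp : ∀ (y : G), y ^ p ∈ layerSub C S → ∀ d : ℤ, ((d : ℤ) : ZMod p) = 0 → y ^ d ∈ layerSub C S := by
    intro y hy d hd
    obtain ⟨c, rfl⟩ := (ZMod.intCast_zmod_eq_zero_iff_dvd _ p).1 hd
    rw [zpow_mul, zpow_natCast]
    exact zpow_mem hy c
  by_cases he0 : pw p C D.e = 0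
  · have heK : D.e ^ p ∈ layerSub C S := ⟨hepF, by show pw p C D.e ∈ S; rw [he0]; exact zero_mem _⟩
    by_cases hw0 : pw p C D.w = 0
    · -- `h`, `x`, `e`, `f`
      have hθx : D.x⁻¹ * θ' D.x ∈ layerSub C S := ⟨diff_mem C θ' hX', by
        rw [hw0, smul_zero, sub_zero] at hlx; exact hlx⟩
      refine B.false_of_four X' hsr hn hnK ![D.x, D.e, f0] ?_ ?_ ?_ ?_
      · intro i; fin_cases i
        exacts [hxK, heK, B.pow_layer hfF]
      · intro i j
        fin_cases i <;> fin_cases j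
        all_goals first
          | exact hxe
          | exact hinv hxe
          | exact B.comm_layer hfF _
          | exact hinv (B.comm_layer hfF _)
          | (simp; exact one_mem _)
          | simp
      · intro i; fin_cases i
        exacts [hθx, hθe, hθfr _ hfF]
      · intro d hd
        simp only [Matrix.cons_val_zero, Matrix.cons_val_one, Matrix.cons_val_two, Matrix.head_cons,
          Matrix.tail_cons] at hd
        have h := (C.cU.mem _ trivial).2 hd.1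
        rw [C.cU.map_mul _ trivial _ trivial, C.cU.map_mul _ trivial _ trivial, C.cU.map_zpow trivial,
          C.cU.map_zpow trivial, C.cU.map_zpow trivial, (C.cU.mem _ trivial).2 hfF, smul_zero, add_zero] at h
        obtain ⟨h1, h0, -⟩ := C.indepU (d 1 : ZMod p) (d 0 : ZMod p) 0 (by
          rw [zero_smul, add_zero, add_comm]; exact h)
        have hf := mul_mem (inv_mem (mul_mem (hexp _ hxK _ h0) (hexp _ heK _ h1))) hd
        rw [inv_mul_cancel_left] at hf
        have h2 := hf.2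
        rw [C.cW.map_zpow hfF, hfv] at h2
        have h3 := hSz (i := (d 2 : ZMod p)) (j := 0) (k := 0) (by simpa using h2)
        intro l
        rw [← ZMod.intCast_zmod_eq_zero_iff_dvd]
        fin_cases l
        exacts [h0, h1, (hindW _ 0 0 h3).1]
    · -- `h`, `e`, `f`, `w ^ p`
      refine B.false_of_four X' hsr hn hnK ![D.e, f0, D.w ^ p] ?_ ?_ ?_ ?_
      · intro i; fin_cases i
        exacts [heK, B.pow_layer hfF, B.pow_layer hwpF]
      · intro i j
        fin_cases i <;> fin_cases j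
        all_goals first
          | exact B.comm_layer hfF _
          | exact hinv (B.comm_layer hfF _)
          | exact B.comm_layer hwpF _
          | exact hinv (B.comm_layer hwpF _)
          | (simp; exact one_mem _)
          | simp
      · intro i; fin_cases i
        exacts [hθe, hθfr _ hfF, hθfr _ hwpF]
      · intro d hd
        simp only [Matrix.cons_val_zero, Matrix.cons_val_one, Matrix.cons_val_two, Matrix.head_cons,
          Matrix.tail_cons] at hd
        have h := (C.cU.mem _ trivial).2 hd.1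
        rw [C.cU.map_mul _ trivial _ trivial, C.cU.map_mul _ trivial _ trivial, C.cU.map_zpow trivial,
          C.cU.map_zpow trivial, C.cU.map_zpow trivial, (C.cU.mem _ trivial).2 hfF, (C.cU.mem _ trivial).2 hwpF,
          smul_zero, smul_zero, add_zero, add_zero] at h
        obtain ⟨h0, -, -⟩ := C.indepU (d 0 : ZMod p) 0 0 (by rw [zero_smul, zero_smul, add_zero, add_zero]; exact h)
        have hf : f0 ^ d 1 * (D.w ^ p) ^ d 2 ∈ layerSub C S := by
          have := mul_mem (inv_mem (hexp _ heK _ h0)) hd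
          rwa [mul_assoc (D.e ^ d 0), inv_mul_cancel_left] at this
        have h2 := hf.2
        rw [C.cW.map_mul _ (zpow_mem hfF _) _ (zpow_mem hwpF _), C.cW.map_zpow hfF, C.cW.map_zpow hwpF, hfv] at h2
        obtain ⟨h3, -, h4⟩ := hindW _ _ _ (hSz (i := (d 1 : ZMod p)) (j := 0) (k := (d 2 : ZMod p))
          (by rw [zero_smul, add_zero]; exact h2))
        intro l
        rw [← ZMod.intCast_zmod_eq_zero_iff_dvd]
        fin_cases l
        exacts [h0, h3, (smul_eq_zero.1 h4).resolve_right hw0]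
  · by_cases hw0 : pw p C D.w = 0
    · -- `h`, `x`, `f`, `e ^ p`
      have hθx : D.x⁻¹ * θ' D.x ∈ layerSub C S := ⟨diff_mem C θ' hX', by
        rw [hw0, smul_zero, sub_zero] at hlx; exact hlx⟩
      refine B.false_of_four X' hsr hn hnK ![D.x, f0, D.e ^ p] ?_ ?_ ?_ ?_
      · intro i; fin_cases i
        exacts [hxK, B.pow_layer hfF, B.pow_layer hepF]
      · intro i j
        fin_cases i <;> fin_cases j
        all_goals first
          | exact B.comm_layer hfF _
          | exact hinv (B.comm_layer hfF _)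
          | exact B.comm_layer hepF _
          | exact hinv (B.comm_layer hepF _)
          | (simp; exact one_mem _)
          | simp
      · intro i; fin_cases i
        exacts [hθx, hθfr _ hfF, hθfr _ hepF]
      · intro d hd
        simp only [Matrix.cons_val_zero, Matrix.cons_val_one, Matrix.cons_val_two, Matrix.head_cons,
          Matrix.tail_cons] at hd
        have h := (C.cU.mem _ trivial).2 hd.1
        rw [C.cU.map_mul _ trivial _ trivial, C.cU.map_mul _ trivial _ trivial, C.cU.map_zpow trivial,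
          C.cU.map_zpow trivial, C.cU.map_zpow trivial, (C.cU.mem _ trivial).2 hfF, (C.cU.mem _ trivial).2 hepF,
          smul_zero, smul_zero, add_zero, add_zero] at h
        obtain ⟨-, h0, -⟩ := C.indepU 0 (d 0 : ZMod p) 0 (by rw [zero_smul, zero_smul, zero_add, add_zero]; exact h)
        have hf : f0 ^ d 1 * (D.e ^ p) ^ d 2 ∈ layerSub C S := by
          have := mul_mem (inv_mem (hexp _ hxK _ h0)) hd
          rwa [mul_assoc (D.x ^ d 0), inv_mul_cancel_left] at this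
        have h2 := hf.2
        rw [C.cW.map_mul _ (zpow_mem hfF _) _ (zpow_mem hepF _), C.cW.map_zpow hfF, C.cW.map_zpow hepF, hfv] at h2
        obtain ⟨h3, h4, -⟩ := hindW _ _ _ (hSz (i := (d 1 : ZMod p)) (j := (d 2 : ZMod p)) (k := 0)
          (by rw [zero_smul, add_zero]; exact h2))
        intro l
        rw [← ZMod.intCast_zmod_eq_zero_iff_dvd]
        fin_cases l
        exacts [h0, h3, (smul_eq_zero.1 h4).resolve_right he0]
    · -- `h`, `f`, `e ^ p`, `w ^ p`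
      refine B.false_of_four X' hsr hn hnK ![f0, D.e ^ p, D.w ^ p] ?_ ?_ ?_ ?_
      · intro i; fin_cases i
        exacts [B.pow_layer hfF, B.pow_layer hepF, B.pow_layer hwpF]
      · intro i j
        fin_cases i <;> fin_cases j
        all_goals first
          | exact B.comm_layer hfF _
          | exact B.comm_layer hepF _
          | exact B.comm_layer hwpF _
      · intro i; fin_cases i
        exacts [hθfr _ hfF, hθfr _ hepF, hθfr _ hwpF]
      · intro d hd
        simp only [Matrix.cons_val_zero, Matrix.cons_val_one, Matrix.cons_val_two, Matrix.head_cons,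
          Matrix.tail_cons] at hd
        have h2 := hd.2
        rw [C.cW.map_mul _ (mul_mem (zpow_mem hfF _) (zpow_mem hepF _)) _ (zpow_mem hwpF _),
          C.cW.map_mul _ (zpow_mem hfF _) _ (zpow_mem hepF _), C.cW.map_zpow hfF, C.cW.map_zpow hepF,
          C.cW.map_zpow hwpF, hfv] at h2
        obtain ⟨h3, h4, h5⟩ := hindW _ _ _ (hSz (i := (d 0 : ZMod p)) (j := (d 1 : ZMod p)) (k := (d 2 : ZMod p)) h2)
        intro l
        rw [← ZMod.intCast_zmod_eq_zero_iff_dvd]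
        fin_cases l
        exacts [h3, (smul_eq_zero.1 h4).resolve_right he0, (smul_eq_zero.1 h5).resolve_right hw0]

end Cases

end Cfsg.Agent.Lib.EssentialRankThree
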