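import Cfsg.Agent.Lib.EssentialRankThree.Layer

/-!
# An essential subgroup that is not normal and is moved by a single Jordan block

The Frattini subgroup of its normaliser has index `p ^ 2`, and some element `g` of `S` carries a generator `a`
to `a x`.
-/

set_option autoImplicit false
set_option linter.style.haveILetI false
set_option linter.unusedSectionVars false

namespace Cfsg.Agent.Lib.EssentialRankThree

open Cfsg Cfsg.FusionSystem Cfsg.Agent.Lib Cfsg.Agent.Lib.FS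
open Cfsg.Agent.Lib.EssentialRankThree.Units (GV dd dd_apply)
open scoped commutatorElement

universe u

/-- Unipotence in any dimension. -/
theorem dd_nilpotent {p : ℕ} [Fact p.Prime] {V : Type*} [AddCommGroup V] [Module (ZMod p) V] [Finite V]
    {g : GV p V} {k : ℕ} (hg : g ^ p ^ k = 1) :
    (dd g) ^ Module.finrank (ZMod p) V = 0 := by
  obtain ⟨r, hr⟩ := (Commute.one_right (dd g)).symm.exists_add_pow_prime_pow_eq (Fact.out : p.Prime) k
  have hp0 : ((p : ℕ) : Module.End (ZMod p) V) = 0 := LinearMap.ext fun y => by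
    show ((p : ℕ) : Module.End (ZMod p) V) y = 0
    rw [Module.End.natCast_apply, ← Nat.cast_smul_eq_nsmul (ZMod p), ZMod.natCast_self, zero_smul]
  have hge : (1 : Module.End (ZMod p) V) + dd g = g.1 := by rw [dd]; abel
  rw [one_pow, hge, ← Units.val_pow_eq_pow_val, hg, hp0, zero_mul, zero_mul, zero_mul, add_zero,
    Units.val_one, left_eq_add] at hr
  haveI : FiniteDimensional (ZMod p) V := Module.Finite.of_finite
  refine LinearMap.ext fun x => ?_
  have h1 : x ∈ LinearMap.ker ((dd g) ^ max (p ^ k) (Module.finrank (ZMod p) V)) := by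
    rw [LinearMap.mem_ker, pow_eq_zero_of_le (le_max_left _ _) hr, LinearMap.zero_apply]
  rw [Module.End.ker_pow_eq_ker_pow_finrank_of_le (le_max_right _ _)] at h1
  exact h1

variable {Ω : Type u} [Group Ω] {S : Subgroup Ω} [Finite S] {p : ℕ} [Fact p.Prime] {F : FusionSystem S}
  {E : Subgroup Ω} {V : Type u} [AddCommGroup V] [Module (ZMod p) V] [Finite V]

/-- The pair `(a, x)` and the element `g`. -/
structure JPair (d : Auto F p E V) where
  /-- The generator. -/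
  a : Ω
  /-- The element of `N_S(E)` outside `E`. -/
  x : Ω
  /-- The element normalising `N_S(E)`. -/
  g : Ω
  /-- The action of `x`. -/
  z : GV p V
  ha : a ∈ E
  hx : x ∈ normalizerIn S E
  hxE : x ∉ E
  hgS : g ∈ S
  hgN : g ∈ Subgroup.normalizer ((normalizerIn S E : Subgroup Ω) : Set Ω)
  hga : g * a * g⁻¹ = a * x
  hgx : x⁻¹ * (g * x * g⁻¹) ∈ phi (normalizerIn S E)
  hzP : z ∈ (autInducedBy S E).map d.ρ
  hz : ∀ y ∈ E, z.1 (d.c.v y) = d.c.v (x * y * x⁻¹)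
  hcube : ∀ w, dd z (dd z (dd z w)) = 0
  hblock : dd z (dd z (d.c.v a)) ≠ 0
  phi_le' : phi (normalizerIn S E) ≤ E
  le_phi' : phi E ≤ phi (normalizerIn S E)
  mem_phiN : ∀ y ∈ E, (y ∈ phi (normalizerIn S E) ↔
    ∃ β γ : ZMod p, d.c.v y = β • dd z (d.c.v a) + γ • dd z (dd z (d.c.v a)))

theorem phi_le_of {E R : Subgroup Ω} [Finite E] (hE : IsPGroup p E) (hn : ∀ e ∈ E, ∀ r ∈ R, r ∈ E → e * r * e⁻¹ ∈ R)
    (hpow : ∀ x ∈ E, x ^ p ∈ R) (hcomm : ∀ x ∈ E, ∀ y ∈ E, x * y * x⁻¹ * y⁻¹ ∈ R) : phi E ≤ R := by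
  haveI : (R.subgroupOf E).Normal := ⟨fun r hr e => Subgroup.mem_subgroupOf.2
    (hn e e.2 r (Subgroup.mem_subgroupOf.1 hr) r.2)⟩
  have h := PGroups.frattini_le_of_pow_commutator (p := p) (R.subgroupOf E)
    (fun x => Subgroup.mem_subgroupOf.2 (hpow x x.2)) (by
      rw [_root_.commutator_def, Subgroup.commutator_le]
      intro x _ y _
      exact Subgroup.mem_subgroupOf.2 (hcomm x x.2 y y.2))
  rintro _ ⟨x, hx, rfl⟩
  exact Subgroup.mem_subgroupOf.1 (h hx)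

/-- Elements of `N_S(E)` commute modulo `E` and have exponent `p` modulo it. -/
theorem comm_mem_of_auto (d : Auto F p E V) (hp : 3 ≤ p) (hess : F.IsEssential p E) {m n : Ω}
    (hm : m ∈ normalizerIn S E) (hn : n ∈ normalizerIn S E) : m ^ p ∈ E ∧ m * n * m⁻¹ * n⁻¹ ∈ E := by
  by_cases hmE : m ∈ E
  · refine ⟨E.pow_mem hmE p, ?_⟩
    rw [show m * n * m⁻¹ * n⁻¹ = m * (n * m⁻¹ * n⁻¹) by group]
    exact E.mul_mem hmE (conj_mem_of_normalizer hn.2 (E.inv_mem hmE))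
  · obtain ⟨hmp, k, e, he, rfl⟩ := d.exists_eq_mul_pow hp hess hm hmE hn
    refine ⟨hmp, ?_⟩
    rw [show m * (e * m ^ k) * m⁻¹ * (e * m ^ k)⁻¹ = (m * e * m⁻¹) * e⁻¹ by group]
    exact E.mul_mem (conj_mem_of_normalizer hm.2 he) (E.inv_mem he)

/-- The pair exists. -/
theorem exists_jpair (hS : IsPGroup p S) (hp5 : 5 ≤ p) (hess : F.IsEssential p E) (d : Auto F p E V)
    (hnn : ¬ S ≤ Subgroup.normalizer (E : Set Ω)) {z0 : GV p V} (hz0 : z0 ∈ (autInducedBy S E).map d.ρ) {w : V}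
    (hw : dd z0 (dd z0 w) ≠ 0) : Nonempty (JPair d) := by
  have hp3 : 3 ≤ p := by omega
  have hES : E ≤ S := hess.2.1.1
  set N := normalizerIn S E with hN
  have hNS : N ≤ S := normalizerIn_le E
  have hEN : E ≤ N := le_normalizerIn hES
  haveI := finite_sub hES
  haveI := finite_sub hNS
  have hEp := isPGroup_of_le hS hES
  have hNp := isPGroup_of_le hS hNS
  -- the element of `N` inducing `z0`
  obtain ⟨α, hα, rfl⟩ := hz0
  obtain ⟨x0, hx0S, hx0⟩ := mem_autInducedBy.1 hα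
  have hx0N : x0 ∈ N := ⟨hx0S, mem_normalizer_of_aut hx0⟩
  set z0 := d.ρ α
  have hz0' : ∀ y ∈ E, z0.1 (d.c.v y) = d.c.v (x0 * y * x0⁻¹) := fun y hy => by
    rw [d.rho α ⟨y, hy⟩, hx0]
  have hcube : ∀ w, dd z0 (dd z0 (dd z0 w)) = 0 := Embedded.dd_cube_P d.card d.emb ⟨α, hα, rfl⟩
  obtain ⟨a, ha, rfl⟩ := d.c.surj w
  set c2 := dd z0 (d.c.v a) with hc2
  set c1 := dd z0 c2 with hc1
  have hind : Units.Indep p (d.c.v a) c2 c1 := Units.indep_jordan z0 hcube hw
  have hdd : ∀ y ∈ E, dd z0 (d.c.v y) = d.c.v (y⁻¹ * (x0 * y * x0⁻¹)) := fun y hy => by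
    rw [dd_apply, hz0' y hy, d.c.map_mul _ (E.inv_mem hy) _ (conj_mem_of_normalizer hx0N.2 hy), d.c.map_inv hy]; abel
  -- `g`
  obtain ⟨g, hgS, hgN, hgE⟩ : ∃ g ∈ S, g ∈ Subgroup.normalizer (N : Set Ω) ∧ g ∉ N := by
    have hlt : N < S := lt_of_le_of_ne hNS fun h => hnn (h ▸ inf_le_right)
    obtain ⟨g, hg, hgn⟩ := SetLike.exists_of_lt (normalizerIn_ne_of_lt hS hlt)
    exact ⟨g, hg.1, hg.2, hgn⟩
  set E' := E.map (MulAut.conj g).toMonoidHom with hE'
  have hmemE' : ∀ {y : Ω}, y ∈ E' ↔ g⁻¹ * y * g ∈ E := by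
    intro y
    constructor
    · rintro ⟨e, he, rfl⟩; simpa [MulAut.conj_apply, mul_assoc] using he
    · intro h; exact ⟨_, h, by simp [MulAut.conj_apply, mul_assoc]⟩
  have hgNi : ∀ n ∈ N, g⁻¹ * n * g ∈ N := fun n hn => conj_inv_mem_of_normalizer hgN hn
  have hpowD : ∀ n ∈ N, n ^ p ∈ E ⊓ E' := fun n hn => by
    refine ⟨(comm_mem_of_auto d hp3 hess hn hn).1, hmemE'.2 ?_⟩
    have := (comm_mem_of_auto d hp3 hess (hgNi n hn) (hgNi n hn)).1
    rwa [show g⁻¹ * n * g = g⁻¹ * n * g⁻¹⁻¹ by group, conj_pow, inv_inv] at this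
  have hcommD : ∀ m ∈ N, ∀ n ∈ N, m * n * m⁻¹ * n⁻¹ ∈ E ⊓ E' := fun m hm n hn => by
    refine ⟨(comm_mem_of_auto d hp3 hess hm hn).2, hmemE'.2 ?_⟩
    have := (comm_mem_of_auto d hp3 hess (hgNi m hm) (hgNi n hn)).2
    rwa [show g⁻¹ * m * g * (g⁻¹ * n * g) * (g⁻¹ * m * g)⁻¹ * (g⁻¹ * n * g)⁻¹ = g⁻¹ * (m * n * m⁻¹ * n⁻¹) * g by group] at this
  have hPN : phi N ≤ E ⊓ E' := phi_le_of hNp (fun e he r hr _ => by
      rw [show e * r * e⁻¹ = (e * r * e⁻¹ * r⁻¹) * r by group]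
      exact (E ⊓ E').mul_mem (hcommD e he r (hEN hr.1)) hr) hpowD hcommD
  have hPE : phi E ≤ phi N := phi_le_of hEp (fun e he r hr _ => conj_mem_phi (Subgroup.le_normalizer (hEN he)) hr)
    (fun x hx => pow_mem_phi hNp (hEN hx)) (fun x hx y hy => comm_mem_phi hNp (hEN hx) (hEN hy))
  -- `phi N` in coordinates
  have hc2mem : ∀ y ∈ E, y⁻¹ * (x0 * y * x0⁻¹) ∈ phi N := fun y hy => by
    have := comm_mem_phi hNp (N.inv_mem (hEN hy)) hx0N
    rwa [show y⁻¹ * x0 * y⁻¹⁻¹ * x0⁻¹ = y⁻¹ * (x0 * y * x0⁻¹) by group] at this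
  have hac2 : a⁻¹ * (x0 * a * x0⁻¹) ∈ E := (hPN (hc2mem a ha)).1
  set e2 := a⁻¹ * (x0 * a * x0⁻¹) with he2
  set e1 := e2⁻¹ * (x0 * e2 * x0⁻¹) with he1
  have hv2 : d.c.v e2 = c2 := (hdd a ha).symm
  have hv1 : d.c.v e1 = c1 := by rw [he1, ← hdd e2 hac2, hv2]
  have he1m : e1 ∈ phi N := hc2mem e2 hac2
  have hin : ∀ y ∈ E, (∃ β γ : ZMod p, d.c.v y = β • c2 + γ • c1) → y ∈ phi N := by
    rintro y hy ⟨β, γ, he⟩
    have hm : e2 ^ β.val * e1 ^ γ.val ∈ phi N :=
      (phi N).mul_mem ((phi N).pow_mem (hc2mem a ha) _) ((phi N).pow_mem he1m _)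
    have h1 : (e2 ^ β.val * e1 ^ γ.val)⁻¹ * y ∈ phi E := by
      refine (d.c.eq_iff (E.mul_mem (E.pow_mem hac2 _) (E.pow_mem (hPN he1m).1 _)) hy).1 ?_
      rw [he, d.c.map_mul _ (E.pow_mem hac2 _) _ (E.pow_mem (hPN he1m).1 _), d.c.map_pow hac2, d.c.map_pow (hPN he1m).1,
        hv2, hv1, ZMod.natCast_zmod_val, ZMod.natCast_zmod_val]
    have := (phi N).mul_mem hm (hPE h1)
    rwa [mul_inv_cancel_left] at this
  have hanot : a ∉ phi N := by
    intro ha'
    have hEle : E ≤ phi N := by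
      intro y hy
      obtain ⟨α', β, γ, he⟩ := hind.span d.card (d.c.v y)
      have h1 : (a ^ α'.val)⁻¹ * y ∈ phi N := hin _ (E.mul_mem (E.inv_mem (E.pow_mem ha _)) hy) ⟨β, γ, by
        rw [d.c.map_mul _ (E.inv_mem (E.pow_mem ha _)) _ hy, d.c.map_inv (E.pow_mem ha _), d.c.map_pow ha,
          ZMod.natCast_zmod_val, he]; abel⟩
      have := (phi N).mul_mem ((phi N).pow_mem ha' α'.val) h1
      rwa [mul_inv_cancel_left] at this
    have hcard : Nat.card E' ≤ Nat.card E := (Nat.card_congr (E.equivMapOfInjective _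
      (MulAut.conj g).injective).toEquiv).ge
    haveI : Finite E' := Finite.of_equiv E (E.equivMapOfInjective _ (MulAut.conj g).injective).toEquiv
    have heq : E = E' := Subgroup.eq_of_le_of_card_ge (fun y hy => (hPN (hEle hy)).2) hcard
    refine hgE ⟨hgS, mem_normalizer_of_conj_mem fun y hy => ?_⟩
    rw [heq]; exact ⟨y, hy, rfl⟩
  have hiff : ∀ y ∈ E, (y ∈ phi N ↔ ∃ β γ : ZMod p, d.c.v y = β • c2 + γ • c1) := by
    intro y hy
    refine ⟨fun h => ?_, hin y hy⟩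
    obtain ⟨α', β, γ, he⟩ := hind.span d.card (d.c.v y)
    by_cases hα' : α' = 0
    · exact ⟨β, γ, by rw [he, hα', zero_smul, zero_add]⟩
    exfalso
    have h1 : (y ^ (α'⁻¹).val)⁻¹ * a ∈ phi N := hin _ (E.mul_mem (E.inv_mem (E.pow_mem hy _)) ha)
      ⟨-(α'⁻¹ * β), -(α'⁻¹ * γ), by
        rw [d.c.map_mul _ (E.inv_mem (E.pow_mem hy _)) _ ha, d.c.map_inv (E.pow_mem hy _), d.c.map_pow hy,
          ZMod.natCast_zmod_val, he, smul_add, smul_add, smul_smul, smul_smul, smul_smul, inv_mul_cancel₀ hα']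
        module⟩
    have := (phi N).mul_mem ((phi N).pow_mem h (α'⁻¹).val) h1
    rw [mul_inv_cancel_left] at this
    exact hanot this
  -- the new `x`
  set x := a⁻¹ * (g * a * g⁻¹) with hx
  have hgaN : g * a * g⁻¹ ∈ N := conj_mem_of_normalizer hgN (hEN ha)
  have hxN : x ∈ N := N.mul_mem (N.inv_mem (hEN ha)) hgaN
  have hxE : x ∉ E := by
    intro hxE
    have hgaE : g * a * g⁻¹ ∈ E := by
      have := E.mul_mem ha hxE
      rwa [hx, mul_inv_cancel_left] at this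
    refine hgE ⟨hgS, mem_normalizer_of_conj_mem fun y hy => ?_⟩
    obtain ⟨α', β, γ, he⟩ := hind.span d.card (d.c.v y)
    have h1 : (a ^ α'.val)⁻¹ * y ∈ phi N := (hiff _ (E.mul_mem (E.inv_mem (E.pow_mem ha _)) hy)).2 ⟨β, γ, by
      rw [d.c.map_mul _ (E.inv_mem (E.pow_mem ha _)) _ hy, d.c.map_inv (E.pow_mem ha _), d.c.map_pow ha,
        ZMod.natCast_zmod_val, he]; abel⟩
    have h2 := E.mul_mem (E.pow_mem hgaE α'.val) (hPN (conj_mem_phi hgN h1)).1
    rwa [conj_pow, show g * a ^ α'.val * g⁻¹ * (g * ((a ^ α'.val)⁻¹ * y) * g⁻¹) = g * y * g⁻¹ by group] at h2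
  obtain ⟨z, hzP, hz⟩ := d.exists_rho_conj hES hxN
  have hz01 : z0 ≠ 1 := fun h => hw (by rw [hc1, hc2, h]; simp [dd])
  obtain ⟨k, hk⟩ := (Embedded.mem_P_iff hp3 d.card d.emb ⟨α, hα, rfl⟩ hz01).1 hzP
  have hzcube := Embedded.dd_cube_P d.card d.emb hzP
  have hddz : ∀ v, dd z v = (k : ZMod p) • dd z0 v + (k.choose 2 : ZMod p) • dd z0 (dd z0 v) := fun v => by
    rw [dd_apply, ← hk, Units.pow_apply z0 hcube]; abel
  have hk0 : (k : ZMod p) ≠ 0 := by
    intro h0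
    have hz1 : z = 1 := by
      obtain ⟨j, rfl⟩ := (ZMod.natCast_eq_zero_iff k p).1 h0
      rw [← hk, pow_mul, Units.pow_p_of_cube hp3 z0 hcube, one_pow]
    refine hxE (d.mem_of_trivial hess hxN fun y hy => ?_)
    rw [← hz y hy, hz1]; rfl
  have hz2 : dd z (dd z (d.c.v a)) = ((k : ZMod p) * k) • c1 := by
    rw [hddz (dd z _), hddz, ← hc2, ← hc1]
    simp only [map_add, map_smul, ← hc1, show dd z0 c1 = 0 from hcube _, map_zero, smul_zero, add_zero]
    rw [smul_smul]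
  have hz1' : dd z (d.c.v a) = (k : ZMod p) • c2 + (k.choose 2 : ZMod p) • c1 := hddz _
  have hblock : dd z (dd z (d.c.v a)) ≠ 0 := by rw [hz2]; exact smul_ne_zero (mul_ne_zero hk0 hk0) hw
  have hgx : x⁻¹ * (g * x * g⁻¹) ∈ phi N := by
    obtain ⟨U, _, _, _, c, -⟩ := exists_coord (p := p) N (phi N) (phi_le N)
      (fun e he b hb => conj_mem_phi (Subgroup.le_normalizer he) hb) (fun e he b hb => comm_mem_phi hNp he hb)
      (fun e he => pow_mem_phi hNp he)
    -- the coordinates are spanned by `a` and `x`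
    have hspan : ∀ v : U, ∃ i j : ZMod p, v = i • c.v a + j • c.v x := by
      intro v
      obtain ⟨n, hn, rfl⟩ := c.surj v
      obtain ⟨-, m, e, he, rfl⟩ := d.exists_eq_mul_pow hp3 hess hxN hxE hn
      obtain ⟨α', β, γ, he'⟩ := hind.span d.card (d.c.v e)
      have h1 : (a ^ α'.val)⁻¹ * e ∈ phi N := (hiff _ (E.mul_mem (E.inv_mem (E.pow_mem ha _)) he)).2 ⟨β, γ, by
        rw [d.c.map_mul _ (E.inv_mem (E.pow_mem ha _)) _ he, d.c.map_inv (E.pow_mem ha _), d.c.map_pow ha,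
          ZMod.natCast_zmod_val, he']; abel⟩
      refine ⟨α', (m : ZMod p), ?_⟩
      rw [c.map_mul _ (hEN he) _ (N.pow_mem hxN m), c.map_pow hxN,
        ← (c.eq_iff (N.pow_mem (hEN ha) _) (hEN he)).2 h1, c.map_pow (hEN ha), ZMod.natCast_zmod_val]
    obtain ⟨L, hL⟩ := c.exists_lift (fun y => g * y * g⁻¹) (fun y _ y' _ => by group)
      (fun y hy => conj_mem_of_normalizer hgN hy) (fun y hy => conj_mem_phi hgN hy)
    have hiter : ∀ (m : ℕ), ∀ y ∈ N, (L ^ m) (c.v y) = c.v (g ^ m * y * (g ^ m)⁻¹) := by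
      intro m
      induction m with
      | zero => intro y _; simp
      | succ m ih =>
        intro y hy
        rw [pow_succ, Module.End.mul_apply, hL y hy, ih _ (conj_mem_of_normalizer hgN hy)]
        congr 1; rw [pow_succ]; group
    obtain ⟨m, hm⟩ := hS ⟨g, hgS⟩
    have hgm : g ^ p ^ m = 1 := congrArg Subtype.val hm
    have hLm : L ^ p ^ m = 1 := LinearMap.ext fun v => by
      obtain ⟨y, hy, rfl⟩ := c.surj v
      rw [hiter _ y hy, hgm]; simp
    let Lu : GV p U := (IsUnit.of_pow_eq_one hLm (pow_ne_zero _ (Fact.out : p.Prime).ne_zero)).unit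
    have hLu : Lu.1 = L := rfl
    have hnil := dd_nilpotent (g := Lu) (k := m) (Units.ext (by rw [Units.val_pow_eq_pow_val, hLu, hLm, Units.val_one]))
    haveI : FiniteDimensional (ZMod p) U := Module.Finite.of_finite
    have hrank : Module.finrank (ZMod p) U ≤ 2 := by
      have hsur : Function.Surjective (fun t : ZMod p × ZMod p => t.1 • c.v a + t.2 • c.v x) := fun v => by
        obtain ⟨i, j, h⟩ := hspan v; exact ⟨(i, j), h.symm⟩
      have h1 := Nat.card_le_card_of_surjective _ hsur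
      rw [Module.natCard_eq_pow_finrank (K := ZMod p), Nat.card_prod, Nat.card_zmod, ← sq] at h1
      exact (Nat.pow_le_pow_iff_right (Fact.out : p.Prime).one_lt).1 h1
    have h2 : dd Lu (dd Lu (c.v a)) = 0 := by
      have := LinearMap.congr_fun (pow_eq_zero_of_le hrank hnil) (c.v a)
      rwa [pow_two, Module.End.mul_apply] at this
    have hd1 : dd Lu (c.v a) = c.v x := by
      rw [dd_apply, hLu, hL a (hEN ha), show g * a * g⁻¹ = a * x by rw [hx, mul_inv_cancel_left],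
        c.map_mul _ (hEN ha) _ hxN, add_sub_cancel_left]
    rw [hd1, dd_apply, hLu, hL x hxN, sub_eq_zero] at h2
    exact (c.eq_iff hxN (conj_mem_of_normalizer hgN hxN)).1 h2.symm
  refine ⟨{
    a := a, x := x, g := g, z := z, ha := ha, hx := hxN, hxE := hxE, hgS := hgS, hgN := hgN
    hga := by rw [hx, mul_inv_cancel_left]
    hgx := hgx, hzP := hzP, hz := hz, hcube := hzcube, hblock := hblock
    phi_le' := fun y hy => (hPN hy).1, le_phi' := hPE
    mem_phiN := fun y hy => (hiff y hy).trans ?_ }⟩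
  constructor
  · rintro ⟨β, γ, he⟩
    refine ⟨(k : ZMod p)⁻¹ * β, ((k : ZMod p) * k)⁻¹ * (γ - (k : ZMod p)⁻¹ * β * k.choose 2), ?_⟩
    rw [he, hz2, hz1']
    match_scalars <;> field_simp
    ring
  · rintro ⟨β, γ, he⟩
    refine ⟨β * k, β * k.choose 2 + γ * (k * k), ?_⟩
    rw [he, hz2, hz1']
    module

end Cfsg.Agent.Lib.EssentialRankThree
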