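import Cfsg.Agent.Lib.EssentialRankThree.Automizer

/-!
# The layer below the Frattini subgroup of a finite `p`-group inside an ambient group
-/

set_option autoImplicit false
set_option linter.style.haveILetI false
set_option linter.unusedSectionVars false

namespace Cfsg.Agent.Lib.EssentialRankThree

open Cfsg Cfsg.Agent.Lib Cfsg.Agent.Lib.FS
open scoped commutatorElement

universe u

/-- Powers of a product when the commutator is central. -/
theorem mul_pow_class_two {G : Type*} [Group G] (x y : G) (hx : Commute (y * x * y⁻¹ * x⁻¹) x)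
    (hy : Commute (y * x * y⁻¹ * x⁻¹) y) (n : ℕ) :
    (x * y) ^ n = x ^ n * y ^ n * (y * x * y⁻¹ * x⁻¹) ^ n.choose 2 := by
  set c := y * x * y⁻¹ * x⁻¹
  have hyx : ∀ m : ℕ, y ^ m * x = x * y ^ m * c ^ m := by
    intro m
    induction m with
    | zero => simp
    | succ m ih =>
      calc y ^ (m + 1) * x = y * (y ^ m * x) := by rw [pow_succ', mul_assoc]
        _ = (y * x) * (y ^ m * c ^ m) := by rw [ih]; group
        _ = (c * x * y) * (y ^ m * c ^ m) := by congr 1; simp [c]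
        _ = (x * y * c) * (y ^ m * c ^ m) := by
            congr 1
            rw [hx.eq, mul_assoc, hy.eq, mul_assoc]
        _ = x * y * (y ^ m * c) * c ^ m := by
            rw [← (hy.pow_right m).eq]; simp only [mul_assoc]
        _ = x * y ^ (m + 1) * c ^ (m + 1) := by rw [pow_succ' y, pow_succ' c]; simp only [mul_assoc]
  induction n with
  | zero => simp
  | succ n ih =>
    rw [pow_succ, ih, Nat.choose_succ_succ, Nat.choose_one_right]
    calc x ^ n * y ^ n * c ^ n.choose 2 * (x * y)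
        = x ^ n * (y ^ n * (c ^ n.choose 2 * x)) * y := by simp only [mul_assoc]
      _ = x ^ n * ((y ^ n * x) * c ^ n.choose 2) * y := by
          rw [(hx.pow_left (n.choose 2)).eq]; simp only [mul_assoc]
      _ = x ^ n * ((x * y ^ n) * c ^ (n + n.choose 2)) * y := by rw [hyx, pow_add]; simp only [mul_assoc]
      _ = (x ^ n * x) * (y ^ n * (c ^ (n + n.choose 2) * y)) := by simp only [mul_assoc]
      _ = x ^ (n + 1) * y ^ (n + 1) * c ^ (n + n.choose 2) := by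
          rw [(hy.pow_left _).eq, pow_succ x, pow_succ y]; simp only [mul_assoc]

variable {Ω : Type u} [Group Ω] {p : ℕ} [Fact p.Prime]

/-- A normal subgroup equal to its layer is trivial. -/
theorem eq_bot_of_le_layer {Q : Type*} [Group Q] [Finite Q] (hQ : IsPGroup p Q) {G : Subgroup Q} [G.Normal]
    (h : G ≤ ⁅G, (⊤ : Subgroup Q)⁆ ⊔ Subgroup.closure ((fun x : Q => x ^ p) '' (G : Set Q))) : G = ⊥ := by
  have hle : ⁅G, (⊤ : Subgroup Q)⁆ ≤ G := Subgroup.commutator_le_left G ⊤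
  have hpow : Subgroup.closure ((fun x : Q => x ^ p) '' (G : Set Q)) ≤ (frattini G).map G.subtype := by
    rw [Subgroup.closure_le]
    rintro _ ⟨x, hx, rfl⟩
    exact ⟨⟨x, hx⟩ ^ p, PGroups.pow_mem_frattini (hQ.to_subgroup G) _, rfl⟩
  have htop : (⁅G, (⊤ : Subgroup Q)⁆).subgroupOf G ⊔ frattini G = ⊤ := by
    apply Subgroup.map_injective G.subtype_injective
    rw [Subgroup.map_sup, Subgroup.map_subgroupOf_eq_of_le hle, ← MonoidHom.range_eq_map, Subgroup.range_subtype]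
    exact le_antisymm (sup_le hle (Subgroup.map_subtype_le _)) (h.trans (sup_le_sup_left hpow _))
  have hG : G ≤ ⁅G, (⊤ : Subgroup Q)⁆ := Subgroup.subgroupOf_eq_top.1 (frattini_nongenerating htop)
  have hn : ∀ n, G ≤ (⊤ : Subgroup Q).lowerCentralSeries n := by
    intro n
    induction n with
    | zero => exact le_top
    | succ n ih => rw [Subgroup.lowerCentralSeries_succ]; exact hG.trans (Subgroup.commutator_mono ih le_rfl)
  obtain ⟨n, hn'⟩ := (Subgroup.isNilpotent_iff_lowerCentralSeries (S := (⊤ : Subgroup Q))).1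
    (hQ.to_subgroup ⊤).isNilpotent
  exact le_bot_iff.1 (hn' ▸ hn n)

/-- The layer `[F₀, E] F₀^p`. -/
def layer (p : ℕ) (E F₀ : Subgroup Ω) : Subgroup Ω :=
  Subgroup.closure ({y | ∃ x ∈ F₀, y = x ^ p} ∪ {y | ∃ f ∈ F₀, ∃ e ∈ E, y = f * e * f⁻¹ * e⁻¹})

variable {E F₀ : Subgroup Ω}

theorem pow_mem_layer {x : Ω} (hx : x ∈ F₀) : x ^ p ∈ layer p E F₀ :=
  Subgroup.subset_closure (Or.inl ⟨x, hx, rfl⟩)

theorem comm_mem_layer {f e : Ω} (hf : f ∈ F₀) (he : e ∈ E) : f * e * f⁻¹ * e⁻¹ ∈ layer p E F₀ :=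
  Subgroup.subset_closure (Or.inr ⟨f, hf, e, he, rfl⟩)

theorem comm_mem_layer' {f e : Ω} (hf : f ∈ F₀) (he : e ∈ E) : e * f * e⁻¹ * f⁻¹ ∈ layer p E F₀ := by
  have h := inv_mem (comm_mem_layer (p := p) hf he)
  rwa [show (f * e * f⁻¹ * e⁻¹)⁻¹ = e * f * e⁻¹ * f⁻¹ by group] at h

theorem layer_le (hn : ∀ e ∈ E, ∀ f ∈ F₀, e * f * e⁻¹ ∈ F₀) : layer p E F₀ ≤ F₀ := by
  rw [layer, Subgroup.closure_le]
  rintro _ (⟨x, hx, rfl⟩ | ⟨f, hf, e, he, rfl⟩)
  · exact F₀.pow_mem hx p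
  · rw [show f * e * f⁻¹ * e⁻¹ = f * (e * f⁻¹ * e⁻¹) by group]
    exact F₀.mul_mem hf (hn e he _ (F₀.inv_mem hf))

/-- A map which is a homomorphism on a subgroup and preserves `E` and `F₀` preserves the layer. -/
theorem map_mem_layer {B : Subgroup Ω} (φ : B →* Ω) (hE : E ≤ B) (hF : F₀ ≤ B)
    (hφE : ∀ x : B, (x : Ω) ∈ E → φ x ∈ E) (hφF : ∀ x : B, (x : Ω) ∈ F₀ → φ x ∈ F₀) {x : B}
    (hx : (x : Ω) ∈ layer p E F₀) : φ x ∈ layer p E F₀ := by
  have hle : layer p E F₀ ≤ ((layer p E F₀).comap φ).map B.subtype := by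
    rw [layer, Subgroup.closure_le, ← layer]
    rintro _ (⟨y, hy, rfl⟩ | ⟨f, hf, e, he, rfl⟩)
    · refine ⟨⟨y, hF hy⟩ ^ p, Subgroup.mem_comap.2 ?_, rfl⟩
      rw [map_pow]; exact pow_mem_layer (hφF _ hy)
    · refine ⟨⟨f, hF hf⟩ * ⟨e, hE he⟩ * ⟨f, hF hf⟩⁻¹ * ⟨e, hE he⟩⁻¹, Subgroup.mem_comap.2 ?_, rfl⟩
      simp only [map_mul, map_inv]
      exact comm_mem_layer (hφF _ hf) (hφE _ he)
  obtain ⟨y, hy, hyx⟩ := hle hx
  exact (B.subtype_injective hyx : y = x) ▸ hy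

theorem conj_mem_layer {g x : Ω} (hgE : g ∈ Subgroup.normalizer (E : Set Ω))
    (hgF : g ∈ Subgroup.normalizer (F₀ : Set Ω)) (hx : x ∈ layer p E F₀) : g * x * g⁻¹ ∈ layer p E F₀ := by
  have := map_mem_layer (p := p) (B := ⊤) ((MulAut.conj g).toMonoidHom.comp (⊤ : Subgroup Ω).subtype) le_top le_top
    (fun y hy => conj_mem_of_normalizer hgE hy) (fun y hy => conj_mem_of_normalizer hgF hy)
    (x := ⟨x, trivial⟩) hx
  exact this

/-- Descent: if `F₀ ≤ R ⊔ [F₀, E] F₀^p` with `R` normal in `E`, then `F₀ ≤ R`. -/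
theorem le_of_le_sup_layer [Finite E] (hE : IsPGroup p E) (hF : F₀ ≤ E)
    (hFn : ∀ e ∈ E, ∀ f ∈ F₀, e * f * e⁻¹ ∈ F₀) {R : Subgroup Ω} (hR : R ≤ E)
    (hRn : ∀ e ∈ E, ∀ r ∈ R, e * r * e⁻¹ ∈ R)
    (h : ∀ f ∈ F₀, ∃ r ∈ R, ∃ m ∈ layer p E F₀, f = r * m) : F₀ ≤ R := by
  haveI : (R.subgroupOf E).Normal :=
    ⟨fun r hr e => Subgroup.mem_subgroupOf.2 (hRn e e.2 r (Subgroup.mem_subgroupOf.1 hr))⟩
  set π := QuotientGroup.mk' (R.subgroupOf E) with hπ
  set G := (F₀.subgroupOf E).map π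
  haveI : (F₀.subgroupOf E).Normal :=
    ⟨fun r hr e => Subgroup.mem_subgroupOf.2 (hFn e e.2 r (Subgroup.mem_subgroupOf.1 hr))⟩
  haveI : G.Normal := Subgroup.Normal.map inferInstance π (QuotientGroup.mk'_surjective _)
  have hbot : G = ⊥ := by
    refine eq_bot_of_le_layer (hE.to_quotient _) ?_
    set T := ⁅G, (⊤ : Subgroup (E ⧸ R.subgroupOf E))⁆ ⊔
      Subgroup.closure ((fun x : E ⧸ R.subgroupOf E => x ^ p) '' (G : Set _)) with hT
    have hlayer : layer p E F₀ ≤ (T.comap π).map E.subtype := by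
      rw [layer, Subgroup.closure_le]
      rintro _ (⟨y, hy, rfl⟩ | ⟨f, hf, e, he, rfl⟩)
      · refine ⟨⟨y, hF hy⟩ ^ p, Subgroup.mem_comap.2 (Subgroup.mem_sup_right (Subgroup.subset_closure ?_)), rfl⟩
        exact ⟨π ⟨y, hF hy⟩, ⟨_, Subgroup.mem_subgroupOf.2 hy, rfl⟩, (map_pow π _ p).symm⟩
      · refine ⟨⁅(⟨f, hF hf⟩ : E), (⟨e, he⟩ : E)⁆, Subgroup.mem_comap.2 (Subgroup.mem_sup_left ?_), rfl⟩
        rw [map_commutatorElement]
        exact Subgroup.commutator_mem_commutator ⟨_, Subgroup.mem_subgroupOf.2 hf, rfl⟩ trivial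
    rintro _ ⟨x, hx, rfl⟩
    obtain ⟨r, hr, m, hm, hrm⟩ := h x (Subgroup.mem_subgroupOf.1 hx)
    obtain ⟨m', hm', hmm⟩ := hlayer hm
    have he : x = ⟨r, hR hr⟩ * m' := Subtype.ext (hrm.trans (congrArg (r * ·) hmm.symm))
    rw [he, map_mul, show π ⟨r, hR hr⟩ = 1 from (QuotientGroup.eq_one_iff _).2 (Subgroup.mem_subgroupOf.2 hr), one_mul]
    exact hm'
  intro f hf
  have h1 : π ⟨f, hF hf⟩ ∈ G := ⟨_, Subgroup.mem_subgroupOf.2 hf, rfl⟩
  rw [hbot, Subgroup.mem_bot, hπ, QuotientGroup.mk'_apply, QuotientGroup.eq_one_iff] at h1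
  exact Subgroup.mem_subgroupOf.1 h1

/-- The commutator form `x, y ↦ x⁻¹ y x y⁻¹` read in coordinates. -/
def form {V : Type u} [AddCommGroup V] [Module (ZMod p) V] {A B : Subgroup Ω} (c : Coord p A B V) (x y : Ω) : V :=
  c.v (x⁻¹ * y * x * y⁻¹)

section Form

variable {W : Type u} [AddCommGroup W] [Module (ZMod p) W] {M : Subgroup Ω} (c : Coord p F₀ M W)
  (hcomm : ∀ x ∈ E, ∀ y ∈ E, x⁻¹ * y * x * y⁻¹ ∈ F₀) (hconj : ∀ e ∈ E, ∀ f ∈ F₀, e * f * e⁻¹ ∈ F₀)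
  (htriv : ∀ e ∈ E, ∀ f ∈ F₀, f⁻¹ * (e * f * e⁻¹) ∈ M)

include hcomm hconj htriv

theorem conj_coord {e f : Ω} (he : e ∈ E) (hf : f ∈ F₀) : c.v (e * f * e⁻¹) = c.v f :=
  ((c.eq_iff hf (hconj e he f hf)).2 (htriv e he f hf)).symm

theorem form_right {x y z : Ω} (hx : x ∈ E) (hy : y ∈ E) (hz : z ∈ E) :
    form c x (y * z) = form c x y + form c x z := by
  rw [form, show x⁻¹ * (y * z) * x * (y * z)⁻¹ = (x⁻¹ * y * x * y⁻¹) * (y * (x⁻¹ * z * x * z⁻¹) * y⁻¹) by group,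
    c.map_mul _ (hcomm x hx y hy) _ (hconj y hy _ (hcomm x hx z hz)),
    conj_coord c hcomm hconj htriv hy (hcomm x hx z hz)]
  rfl

theorem form_self {x : Ω} : form c x x = 0 := by
  rw [form, show x⁻¹ * x * x * x⁻¹ = 1 by group, c.map_one]

theorem form_left {x y z : Ω} (hx : x ∈ E) (hy : y ∈ E) (hz : z ∈ E) :
    form c (x * y) z = form c x z + form c y z := by
  have h2 := hcomm y hy z hz
  have h1 : y⁻¹ * (x⁻¹ * z * x * z⁻¹) * y⁻¹⁻¹ ∈ F₀ := hconj _ (E.inv_mem hy) _ (hcomm x hx z hz)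
  rw [form, show (x * y)⁻¹ * z * (x * y) * z⁻¹ =
      y⁻¹ * (x⁻¹ * z * x * z⁻¹) * y⁻¹⁻¹ * (y⁻¹ * z * y * z⁻¹) by group,
    c.map_mul _ h1 _ h2, conj_coord c hcomm hconj htriv (E.inv_mem hy) (hcomm x hx z hz)]
  rfl

theorem form_swap {x y : Ω} (hx : x ∈ E) (hy : y ∈ E) : form c y x = -form c x y := by
  have h := form_self c hcomm hconj htriv (x := x * y)
  rw [form_left c hcomm hconj htriv hx hy (E.mul_mem hx hy), form_right c hcomm hconj htriv hx hx hy,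
    form_right c hcomm hconj htriv hy hx hy, form_self c hcomm hconj htriv, form_self c hcomm hconj htriv,
    zero_add, add_zero] at h
  exact eq_neg_of_add_eq_zero_right h

theorem form_one_left {y : Ω} (hy : y ∈ E) : form c 1 y = 0 := by
  rw [form, show (1 : Ω)⁻¹ * y * 1 * y⁻¹ = 1 by group, c.map_one]

theorem form_pow_left {x y : Ω} (hx : x ∈ E) (hy : y ∈ E) (n : ℕ) :
    form c (x ^ n) y = (n : ZMod p) • form c x y := by
  induction n with
  | zero => simp [form_one_left c hcomm hconj htriv hy]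
  | succ n ih => rw [pow_succ, form_left c hcomm hconj htriv (E.pow_mem hx n) hx hy, ih, Nat.cast_succ, add_smul, one_smul]

theorem form_pow_right {x y : Ω} (hx : x ∈ E) (hy : y ∈ E) (n : ℕ) :
    form c x (y ^ n) = (n : ZMod p) • form c x y := by
  rw [form_swap c hcomm hconj htriv (E.pow_mem hy n) hx, form_pow_left c hcomm hconj htriv hy hx,
    form_swap c hcomm hconj htriv hx hy, smul_neg, neg_neg]

end Form

end Cfsg.Agent.Lib.EssentialRankThree
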