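import Cfsg.Agent.Lib.EssentialRankThree.TData

/-!
# The transvection case: a basis of the normaliser and the torus element on it
-/

set_option autoImplicit false
set_option linter.style.haveILetI false
set_option linter.unusedSectionVars false

namespace Cfsg.Agent.Lib.EssentialRankThree

open Cfsg Cfsg.FusionSystem Cfsg.Agent.Lib Cfsg.Agent.Lib.FS
open Cfsg.Agent.Lib.Resistant67 (conjN conjN_apply)
open Cfsg.Agent.Lib.EssentialRankThree.Units (GV dd dd_apply)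

universe u

/-- A scalar whose powers `2`, `3`, `5` are not one. -/
theorem exists_scalar (p : ℕ) [Fact p.Prime] (hp : 5 ≤ p) :
    ∃ t : ZMod p, t ≠ 0 ∧ t ^ 2 ≠ 1 ∧ t ^ 3 ≠ 1 ∧ t ^ 5 ≠ 1 := by
  obtain ⟨g, hg⟩ := IsCyclic.exists_generator (α := (ZMod p)ˣ)
  have ho : orderOf g = p - 1 := by
    rw [orderOf_eq_card_of_forall_mem_zpowers hg, Nat.card_units, Nat.card_zmod]
  have hne : ∀ k, 1 ≤ k → k ≤ 5 → k ≠ 4 → (g : ZMod p) ^ k ≠ 1 := by
    intro k hk1 hk5 hk4 h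
    have hd : p - 1 ∣ k := ho ▸ orderOf_dvd_of_pow_eq_one (Units.ext (by rw [Units.val_pow_eq_pow_val, h]; rfl))
    have h4 : p - 1 ≤ k := Nat.le_of_dvd (by omega) hd
    have hk : k = 5 := by omega
    subst hk
    have h6 : p = 5 ∨ p = 6 := by omega
    rcases h6 with rfl | rfl
    · norm_num at hd
    · exact absurd (Fact.out : (6 : ℕ).Prime) (by norm_num)
  exact ⟨g, g.ne_zero, hne 2 (by norm_num) (by norm_num) (by norm_num), hne 3 (by norm_num) (by norm_num) (by norm_num),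
    hne 5 (by norm_num) (by norm_num) (by norm_num)⟩

variable {Ω : Type u} [Group Ω] {S : Subgroup Ω} [Finite S] {p : ℕ} [Fact p.Prime] {F : FusionSystem S}
  {E : Subgroup Ω} {V : Type u} [AddCommGroup V] [Module (ZMod p) V] [Finite V]

/-- The Frattini subgroup of `E` seen inside a larger subgroup. -/
theorem mem_phi_subgroupOf {N : Subgroup Ω} [Finite N] (hEN : E ≤ N) (hN : IsPGroup p N) {y : N} :
    y ∈ phi (E.subgroupOf N) ↔ (y : Ω) ∈ phi E := by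
  haveI : Finite E := Finite.of_injective _ (Subgroup.inclusion_injective hEN)
  have hEp : IsPGroup p E := hN.to_le hEN
  have hE'p : IsPGroup p (E.subgroupOf N) := hN.to_subgroup _
  constructor
  · intro hy
    have hle : phi (E.subgroupOf N) ≤ (phi E).subgroupOf N :=
      phi_le_of hE'p
        (fun e he r hr _ => Subgroup.mem_subgroupOf.2 (conj_mem_phi (Subgroup.le_normalizer he) (Subgroup.mem_subgroupOf.1 hr)))
        (fun x hx => Subgroup.mem_subgroupOf.2 (pow_mem_phi hEp hx))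
        (fun x hx z hz => Subgroup.mem_subgroupOf.2 (comm_mem_phi hEp hx hz))
    exact Subgroup.mem_subgroupOf.1 (hle hy)
  · intro hy
    have hle : phi E ≤ (phi (E.subgroupOf N)).map N.subtype :=
      phi_le_of hEp
        (fun e he r hr _ => by
          obtain ⟨r', hr', rfl⟩ := hr
          exact ⟨⟨e, hEN he⟩ * r' * ⟨e, hEN he⟩⁻¹, conj_mem_phi (Subgroup.le_normalizer (Subgroup.mem_subgroupOf.2 he)) hr', rfl⟩)
        (fun x hx => ⟨⟨x, hEN hx⟩ ^ p, pow_mem_phi hE'p (Subgroup.mem_subgroupOf.2 hx), rfl⟩)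
        (fun x hx z hz => ⟨⟨x, hEN hx⟩ * ⟨z, hEN hz⟩ * ⟨x, hEN hx⟩⁻¹ * ⟨z, hEN hz⟩⁻¹,
          comm_mem_phi hE'p (Subgroup.mem_subgroupOf.2 hx) (Subgroup.mem_subgroupOf.2 hz), rfl⟩)
    obtain ⟨y', hy', he⟩ := hle hy
    exact N.subtype_injective he ▸ hy'

set_option maxHeartbeats 1600000 in
/-- The transvection configuration exists on the normaliser. -/
theorem exists_tdata (hS : IsPGroup p S) (hF : F.IsSaturated p) (hp5 : 5 ≤ p) (hess : F.IsEssential p E)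
    (d : Auto F p E V) {u0 : GV p V} (hu : u0 ∈ (autInducedBy S E).map d.ρ) (hu1 : u0 ≠ 1)
    (h2 : ∀ x, dd u0 (dd u0 x) = 0) :
    ∃ (t : ZMod p) (γ : MulAut ↥(normalizerIn S E)), γ ∈ F.autGroup (normalizerIn S E) ∧ t ≠ 0 ∧ t ^ 2 ≠ 1 ∧
      t ^ 3 ≠ 1 ∧ t ^ 5 ≠ 1 ∧ Nonempty (TData p (E.subgroupOf (normalizerIn S E)) γ t) := by
  have hp3 : 3 ≤ p := by omega
  have hES : E ≤ S := hess.2.1.1
  set N := normalizerIn S E with hN
  have hNS : N ≤ S := normalizerIn_le E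
  have hEN : E ≤ N := le_normalizerIn hES
  haveI := finite_sub hES
  haveI := finite_sub hNS
  have hEp := isPGroup_of_le hS hES
  have hNp := isPGroup_of_le hS hNS
  obtain ⟨e, z, w, hind, hue, huz, huw, htor⟩ := Embedded.exists_torus hp3 d.card d.emb hu hu1 h2
  obtain ⟨t, ht, ht2, ht3, ht5⟩ := exists_scalar p hp5
  obtain ⟨_, ⟨α, hα, rfl⟩, hαe, hαz, hαw⟩ := htor t ht
  obtain ⟨k, hk⟩ : ∃ k : ℕ, k = (t ^ 2).val := ⟨_, rfl⟩
  have hkt : (k : ZMod p) = t ^ 2 := by rw [hk, ZMod.natCast_zmod_val]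
  -- the element of `N` inducing `u0`
  obtain ⟨β, hβ, hβu⟩ := id hu
  obtain ⟨x0, hx0S, hx0⟩ := mem_autInducedBy.1 hβ
  have hx0N : x0 ∈ N := ⟨hx0S, mem_normalizer_of_aut hx0⟩
  have hconjE : ∀ n ∈ N, ∀ y ∈ E, n * y * n⁻¹ ∈ E := fun n hn y hy => conj_mem_of_normalizer hn.2 hy
  have hact : ∀ y ∈ E, u0.1 (d.c.v y) = d.c.v (x0 * y * x0⁻¹) := fun y hy => by
    rw [← hβu, d.rho β ⟨y, hy⟩, hx0]
  have hactk : ∀ j : ℕ, ∀ y ∈ E, (u0 ^ j).1 (d.c.v y) = d.c.v (x0 ^ j * y * (x0 ^ j)⁻¹) := by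
    intro j
    induction j with
    | zero => intro y _; simp
    | succ j ih =>
      intro y hy
      rw [pow_succ, Units.mul_apply, hact y hy, ih _ (hconjE _ hx0N y hy), pow_succ]
      congr 1; group
  have hpowu : ∀ (j : ℕ) (v : V), (u0 ^ j).1 v = v + (j : ZMod p) • dd u0 v := Units.pow_apply_of_sq u0 h2
  have hdz : dd u0 z = 0 := by rw [dd_apply, huz, sub_self]
  have hde : dd u0 e = z := by rw [dd_apply, hue, add_sub_cancel_left]
  have hdw : dd u0 w = 0 := by rw [dd_apply, huw, sub_self]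
  have hddz : ∀ v, ∃ a : ZMod p, dd u0 v = a • z := fun v => by
    obtain ⟨a, b, c, rfl⟩ := hind.span d.card v
    exact ⟨a, by simp only [map_add, map_smul, hde, hdz, hdw, smul_zero, add_zero]⟩
  have hx0E : x0 ∉ E := fun h => hu1 (d.gv_ext fun y hy => by
    rw [hact y hy, d.c.map_conj h hy]; rfl)
  -- the decomposition of `N`
  have hdec : ∀ n ∈ N, ∃ (j : ℕ), ∃ y ∈ E, n = y * x0 ^ j := fun n hn =>
    (d.exists_eq_mul_pow hp3 hess hx0N hx0E hn).2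
  have hx0p : x0 ^ p ∈ E := (d.exists_eq_mul_pow hp3 hess hx0N hx0E hx0N).1
  -- `α` normalises `Aut_S(E)`
  have hcomm : d.ρ α * u0 = u0 ^ k * d.ρ α := by
    refine Units.ext_apply fun v => ?_
    obtain ⟨a, b, c, rfl⟩ := hind.span d.card v
    simp only [Units.mul_apply, map_add, map_smul, hue, huz, huw, hαe, hαz, hαw, hpowu, hde, hdz, hdw, smul_zero,
      add_zero, hkt, smul_smul]
    match_scalars <;> field_simp
  have hcommk : ∀ j : ℕ, d.ρ α * u0 ^ j = u0 ^ (k * j) * d.ρ α := by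
    intro j
    induction j with
    | zero => simp
    | succ j ih => rw [pow_succ, ← mul_assoc, ih, mul_assoc, hcomm, ← mul_assoc, ← pow_add, Nat.mul_succ]
  have hαR : ∀ r ∈ autInducedBy S E, α * r * α⁻¹ ∈ autInducedBy S E := by
    intro r hr
    obtain ⟨j, hj⟩ := (Embedded.mem_P_iff hp3 d.card d.emb hu hu1).1 ⟨r, hr, rfl⟩
    obtain ⟨r', hr', hr'u⟩ := pow_mem hu (k * j)
    have hrA := autInducedBy_le_autGroup F hES hr
    have h1 : d.ρ (r'⁻¹ * (α * r * α⁻¹)) = 1 := by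
      rw [map_mul, map_inv, map_mul, map_mul, map_inv, hr'u, ← hj, hcommk, mul_inv_cancel_right, inv_mul_cancel]
    have h2 := d.ker _ ((F.autGroup E).mul_mem ((F.autGroup E).inv_mem (autInducedBy_le_autGroup F hES hr'))
      ((F.autGroup E).mul_mem ((F.autGroup E).mul_mem hα hrA) ((F.autGroup E).inv_mem hα))) h1
    have := (autInducedBy S E).mul_mem hr' (inn_le_autInducedBy hES h2)
    rwa [mul_inv_cancel_left] at this
  -- extend `α`
  obtain ⟨φ, hφ, hφr, hφα⟩ := exists_hom_of_aut hES hα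
  obtain ⟨ψ, hψ, hψe⟩ := (receptive_of_fullyNormalized hS hF hess.2.1).2 E φ hφ hφr
  have hNext : N ≤ extender S E φ := fun g hg => by
    obtain ⟨h, hh, hhe⟩ := mem_autInducedBy.1
      (hαR (conjN F hES ⟨g, hg⟩ : MulAut E) (mem_autInducedBy.2 ⟨g, hg.1, fun _ => rfl⟩))
    refine mem_extender_of hg hh fun x hx => ?_
    rw [hφα, hφα, ← hhe (α x), MulAut.mul_apply, MulAut.mul_apply, MulAut.inv_apply_self]
    congr 2
  obtain ⟨ψ', hψ', hψ'e⟩ := exists_restrict hψ hNext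
  have hψ'N : ∀ g : N, ψ' g ∈ N := fun g => by
    rw [hψ'e]
    exact ⟨apply_mem hψ _, ext_apply_mem_normalizer (le_trans hEN hNext) hψe hφr _ g.2.2⟩
  have hψ'r : ψ'.range = N := range_eq_of_mem hψ' hψ'N le_rfl
  set γ : MulAut N := homEquiv hψ' hψ'r with hγdef
  have hγA : γ ∈ F.autGroup N := homEquiv_mem_autGroup hψ' hψ'r
  have hγv : ∀ g : N, ((γ g : N) : Ω) = ψ' g := fun g => rfl
  have hγE : ∀ (y : Ω) (hy : y ∈ E), ((γ ⟨y, hEN hy⟩ : N) : Ω) = (α ⟨y, hy⟩ : E) := fun y hy => by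
    rw [hγv, hψ'e, ← hφα ⟨y, hy⟩]
    exact hψe y hy _
  -- generators
  obtain ⟨e0, he0, hev⟩ := d.c.surj e
  obtain ⟨w0, hw0, hwv⟩ := d.c.surj w
  have hρα : ∀ y : E, (d.ρ α).1 (d.c.v y) = d.c.v (α y) := d.rho α
  -- the image of `x0`
  set g0 : Ω := ((γ ⟨x0, hx0N⟩ : N) : Ω) with hg0
  have hg0N : g0 ∈ N := SetLike.coe_mem _
  have hg0act : ∀ y ∈ E, (u0 ^ k).1 (d.c.v y) = d.c.v (g0 * y * g0⁻¹) := by
    intro y hy
    obtain ⟨⟨y', hy'⟩, he⟩ := α.surjective ⟨y, hy⟩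
    have h1 : (d.ρ α).1 (u0.1 (d.c.v y')) = (u0 ^ k).1 ((d.ρ α).1 (d.c.v y')) := by
      rw [← Units.mul_apply, hcomm, Units.mul_apply]
    have hy2 : d.c.v y = (d.ρ α).1 (d.c.v y') := by rw [hρα ⟨y', hy'⟩, he]
    have hc := hconjE _ hx0N y' hy'
    rw [hy2, ← h1, hact y' hy', hρα ⟨_, hc⟩, ← hγE _ hc]
    congr 1
    rw [show (⟨x0 * y' * x0⁻¹, hEN hc⟩ : N) = ⟨x0, hx0N⟩ * ⟨y', hEN hy'⟩ * (⟨x0, hx0N⟩ : N)⁻¹ from Subtype.ext rfl,
      map_mul, map_mul, map_inv, Subgroup.coe_mul, Subgroup.coe_mul, Subgroup.coe_inv, hγE _ hy', he]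
  obtain ⟨e1, he1, hg0e⟩ : ∃ e1 ∈ E, g0 = e1 * x0 ^ k := by
    refine ⟨g0 * (x0 ^ k)⁻¹, d.mem_of_trivial hess (N.mul_mem hg0N (N.inv_mem (N.pow_mem hx0N k))) fun y hy => ?_,
      by group⟩
    have hy' := hconjE _ (N.inv_mem (N.pow_mem hx0N k)) y hy
    rw [inv_inv] at hy'
    rw [show g0 * (x0 ^ k)⁻¹ * y * (g0 * (x0 ^ k)⁻¹)⁻¹ = g0 * ((x0 ^ k)⁻¹ * y * x0 ^ k) * g0⁻¹ by group,
      ← hg0act _ hy', hactk k _ hy']
    congr 1; group
  -- the `p`-th powers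
  have hpow : ∀ y ∈ E, ∀ j m : ℕ, ∃ Y ∈ E, (y * x0 ^ j) ^ m = Y * x0 ^ (j * m) ∧
      d.c.v Y = (m : ZMod p) • d.c.v y + ((j : ZMod p) * (m.choose 2 : ℕ)) • dd u0 (d.c.v y) := by
    intro y hy j m
    induction m with
    | zero => exact ⟨1, E.one_mem, by simp, by simp [d.c.map_one]⟩
    | succ m ih =>
      obtain ⟨Y, hY, hYe, hYv⟩ := ih
      have hc := hconjE _ (N.pow_mem hx0N (j * m)) y hy
      refine ⟨Y * (x0 ^ (j * m) * y * (x0 ^ (j * m))⁻¹), E.mul_mem hY hc, ?_, ?_⟩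
      · rw [pow_succ, hYe, Nat.mul_succ, pow_add]; group
      · rw [d.c.map_mul _ hY _ hc, hYv, ← hactk _ y hy, hpowu, Nat.choose_succ_succ, Nat.choose_one_right]
        push_cast
        module
  have hpp : ∀ y ∈ E, ∀ j : ℕ, (y * x0 ^ j) ^ p ∈ E ∧
      d.c.v ((y * x0 ^ j) ^ p) = (j : ZMod p) • d.c.v (x0 ^ p) := by
    intro y hy j
    obtain ⟨Y, hY, hYe, hYv⟩ := hpow y hy j p
    rw [hYe, mul_comm j p, pow_mul]
    refine ⟨E.mul_mem hY (E.pow_mem hx0p j), ?_⟩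
    rw [d.c.map_mul _ hY _ (E.pow_mem hx0p j), d.c.map_pow hx0p, hYv, ZMod.natCast_self,
      show ((p.choose 2 : ℕ) : ZMod p) = 0 from (ZMod.natCast_eq_zero_iff _ _).2
        ((Fact.out : p.Prime).dvd_choose_self two_ne_zero (by omega))]
    simp
  have hxp0 : d.c.v (x0 ^ p) = 0 := by
    obtain ⟨a, b, c, hv⟩ := hind.span d.card (d.c.v (x0 ^ p))
    have h1 : u0.1 (d.c.v (x0 ^ p)) = d.c.v (x0 ^ p) := by rw [hact _ hx0p]; congr 1; group
    have ha : a = 0 := by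
      rw [hv, map_add, map_add, map_smul, map_smul, map_smul, hue, huz, huw] at h1
      exact (hind 0 a 0 (by linear_combination (norm := module) h1)).2.1
    subst ha
    have h2' : (d.ρ α).1 (d.c.v (x0 ^ p)) = (k : ZMod p) • d.c.v (x0 ^ p) := by
      rw [hρα ⟨_, hx0p⟩, ← hγE _ hx0p,
        show (⟨x0 ^ p, hEN hx0p⟩ : N) = ⟨x0, hx0N⟩ ^ p from Subtype.ext (by simp), map_pow, Subgroup.coe_pow, ← hg0,
        hg0e]
      exact (hpp e1 he1 k).2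
    rw [hv, map_add, map_add, map_smul, map_smul, map_smul, hαe, hαz, hαw, hkt] at h2'
    obtain ⟨-, hb, hc⟩ := hind 0 (b * (t * (1 - t))) (c * (1 - t ^ 2))
      (by linear_combination (norm := module) h2')
    have hb0 : b = 0 := (mul_eq_zero.1 hb).resolve_right (mul_ne_zero ht (sub_ne_zero.2 fun h => ht2 (by rw [← h, one_pow])))
    have hc0 : c = 0 := (mul_eq_zero.1 hc).resolve_right (sub_ne_zero.2 (Ne.symm ht2))
    rw [hv, hb0, hc0]; simp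
  have hppE : ∀ n ∈ N, n ^ p ∈ E ∧ d.c.v (n ^ p) = 0 := fun n hn => by
    obtain ⟨j, y, hy, rfl⟩ := hdec n hn
    exact ⟨(hpp y hy j).1, by rw [(hpp y hy j).2, hxp0, smul_zero]⟩
  -- conjugation on the Frattini quotient
  have hconjv : ∀ n ∈ N, ∃ j : ℕ, ∀ r ∈ E, d.c.v (n * r * n⁻¹) = d.c.v r + (j : ZMod p) • dd u0 (d.c.v r) := by
    intro n hn
    obtain ⟨j, y, hy, rfl⟩ := hdec n hn
    refine ⟨j, fun r hr => ?_⟩
    have hc := hconjE _ (N.pow_mem hx0N j) r hr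
    rw [show y * x0 ^ j * r * (y * x0 ^ j)⁻¹ = y * (x0 ^ j * r * (x0 ^ j)⁻¹) * y⁻¹ by group, d.c.map_conj hy hc,
      ← hactk j r hr, hpowu]
  -- the Frattini subgroup of `N`
  let R : Subgroup Ω :=
    { carrier := {y | y ∈ E ∧ ∃ a : ZMod p, d.c.v y = a • z}
      one_mem' := ⟨E.one_mem, 0, by rw [d.c.map_one, zero_smul]⟩
      mul_mem' := fun {x y} ⟨hx, a, ha⟩ ⟨hy, b, hb⟩ =>
        ⟨E.mul_mem hx hy, a + b, by rw [d.c.map_mul _ hx _ hy, ha, hb, add_smul]⟩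
      inv_mem' := fun {x} ⟨hx, a, ha⟩ => ⟨E.inv_mem hx, -a, by rw [d.c.map_inv hx, ha, neg_smul]⟩ }
  have hNR : phi N ≤ R := by
    refine phi_le_of hNp (fun n hn r hr _ => ⟨hconjE n hn r hr.1, ?_⟩) (fun n hn => ⟨(hppE n hn).1, 0, by
      rw [(hppE n hn).2, zero_smul]⟩) fun m hm n hn => ⟨(comm_mem_of_auto d hp3 hess hm hn).2, ?_⟩
    · obtain ⟨a, ha⟩ := hr.2
      obtain ⟨j, hj⟩ := hconjv n hn
      exact ⟨a, by rw [hj r hr.1, ha, map_smul, hdz, smul_zero, smul_zero, add_zero]⟩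
    · obtain ⟨i, y, hy, rfl⟩ := hdec m hm
      obtain ⟨j, y', hy', rfl⟩ := hdec n hn
      have h1 := hconjE _ (N.pow_mem hx0N i) y' hy'
      have h3 := hconjE _ (N.pow_mem hx0N j) _ (E.inv_mem hy)
      obtain ⟨a, ha⟩ := hddz (d.c.v y')
      obtain ⟨b, hb⟩ := hddz (d.c.v y)
      refine ⟨(i : ZMod p) * a - (j : ZMod p) * b, ?_⟩
      rw [show y * x0 ^ i * (y' * x0 ^ j) * (y * x0 ^ i)⁻¹ * (y' * x0 ^ j)⁻¹ =
          y * (x0 ^ i * y' * (x0 ^ i)⁻¹) * (x0 ^ j * y⁻¹ * (x0 ^ j)⁻¹) * y'⁻¹ by group,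
        d.c.map_mul _ (E.mul_mem (E.mul_mem hy h1) h3) _ (E.inv_mem hy'), d.c.map_mul _ (E.mul_mem hy h1) _ h3,
        d.c.map_mul _ hy _ h1, ← hactk i y' hy', ← hactk j _ (E.inv_mem hy), d.c.map_inv hy, d.c.map_inv hy', hpowu,
        hpowu, map_neg, ha, hb]
      module
  have hRN : ∀ y ∈ E, (∃ a : ZMod p, d.c.v y = a • z) → y ∈ phi N := by
    rintro y hy ⟨a, ha⟩
    have hz0 : e0⁻¹ * (x0 * e0 * x0⁻¹) ∈ phi N := by
      have := comm_mem_phi hNp (N.inv_mem (hEN he0)) hx0N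
      rwa [show e0⁻¹ * x0 * e0⁻¹⁻¹ * x0⁻¹ = e0⁻¹ * (x0 * e0 * x0⁻¹) by group] at this
    have hz0E : e0⁻¹ * (x0 * e0 * x0⁻¹) ∈ E := E.mul_mem (E.inv_mem he0) (hconjE _ hx0N _ he0)
    have hz0v : d.c.v (e0⁻¹ * (x0 * e0 * x0⁻¹)) = z := by
      rw [d.c.map_mul _ (E.inv_mem he0) _ (hconjE _ hx0N _ he0), d.c.map_inv he0, ← hact _ he0, hev, hue,
        neg_add_cancel_left]
    have h1 : ((e0⁻¹ * (x0 * e0 * x0⁻¹)) ^ a.val)⁻¹ * y ∈ phi E := by
      refine (d.c.eq_iff (E.pow_mem hz0E _) hy).1 ?_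
      rw [d.c.map_pow hz0E, hz0v, ZMod.natCast_zmod_val, ha]
    have h3 : phi E ≤ phi N := phi_le_of hEp
      (fun e he r hr _ => conj_mem_phi (Subgroup.le_normalizer (hEN he)) hr)
      (fun x hx => pow_mem_phi hNp (hEN hx)) (fun x hx y hy => comm_mem_phi hNp (hEN hx) (hEN hy))
    have := (phi N).mul_mem ((phi N).pow_mem hz0 a.val) (h3 h1)
    rwa [mul_inv_cancel_left] at this
  have hfr : ∀ n : N, n ∈ frattini N ↔ (n : Ω) ∈ E ∧ ∃ a : ZMod p, d.c.v n = a • z := fun n =>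
    mem_phi.symm.trans ⟨fun h => hNR h, fun h => hRN _ h.1 h.2⟩
  -- adjust `x`
  obtain ⟨a1, b1, c1, he1v⟩ := hind.span d.card (d.c.v e1)
  have hd1 : t ^ 2 - t⁻¹ ≠ 0 := sub_ne_zero.2 fun h => ht3 (by rw [pow_succ, h, inv_mul_cancel₀ ht])
  have hd2 : t ^ 2 - 1 ≠ 0 := sub_ne_zero.2 ht2
  obtain ⟨i, hi⟩ : ∃ i : ZMod p, i * (t ^ 2 - t⁻¹) = a1 := ⟨a1 / (t ^ 2 - t⁻¹), div_mul_cancel₀ _ hd1⟩
  obtain ⟨j, hj⟩ : ∃ j : ZMod p, j * (t ^ 2 - 1) = c1 := ⟨c1 / (t ^ 2 - 1), div_mul_cancel₀ _ hd2⟩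
  obtain ⟨r, hr⟩ : ∃ r, r = e0 ^ i.val * w0 ^ j.val := ⟨_, rfl⟩
  have hrE : r ∈ E := hr ▸ E.mul_mem (E.pow_mem he0 _) (E.pow_mem hw0 _)
  have hrv : d.c.v r = i • e + j • w := by
    rw [hr, d.c.map_mul _ (E.pow_mem he0 _) _ (E.pow_mem hw0 _), d.c.map_pow he0, d.c.map_pow hw0, hev, hwv,
      ZMod.natCast_zmod_val, ZMod.natCast_zmod_val]
  obtain ⟨x, hx⟩ : ∃ x, x = x0 * r := ⟨_, rfl⟩
  have hxN : x ∈ N := hx ▸ N.mul_mem hx0N (hEN hrE)
  have hxE : x ∉ E := fun h => hx0E (by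
    have := E.mul_mem h (E.inv_mem hrE)
    rwa [hx, mul_inv_cancel_right] at this)
  have hxact : ∀ y ∈ E, d.c.v (x * y * x⁻¹) = u0.1 (d.c.v y) := fun y hy => by
    rw [hx, show x0 * r * y * (x0 * r)⁻¹ = x0 * (r * y * r⁻¹) * x0⁻¹ by group,
      ← hact _ (conj_mem_of_normalizer (Subgroup.le_normalizer hrE) hy), d.c.map_conj hrE hy]
  obtain ⟨U, _, _, _, c, -⟩ := exists_coord (p := p) N (phi N) (phi_le N)
    (fun n hn b hb => conj_mem_phi (Subgroup.le_normalizer hn) hb) (fun n hn b hb => comm_mem_phi hNp hn hb)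
    (fun n hn => pow_mem_phi hNp hn)
  have hcE : ∀ y ∈ E, ∀ a b g : ZMod p, d.c.v y = a • e + b • z + g • w → c.v y = a • c.v e0 + g • c.v w0 := by
    intro y hy a b g h
    have hm : (e0 ^ a.val * w0 ^ g.val) ∈ E := E.mul_mem (E.pow_mem he0 _) (E.pow_mem hw0 _)
    have h1 : (e0 ^ a.val * w0 ^ g.val)⁻¹ * y ∈ phi N := hRN _ (E.mul_mem (E.inv_mem hm) hy) ⟨b, by
      rw [d.c.map_mul _ (E.inv_mem hm) _ hy, d.c.map_inv hm, d.c.map_mul _ (E.pow_mem he0 _) _ (E.pow_mem hw0 _),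
        d.c.map_pow he0, d.c.map_pow hw0, hev, hwv, ZMod.natCast_zmod_val, ZMod.natCast_zmod_val, h]
      abel⟩
    rw [← (c.eq_iff (hEN hm) (hEN hy)).2 h1, c.map_mul _ (N.pow_mem (hEN he0) _) _ (N.pow_mem (hEN hw0) _),
      c.map_pow (hEN he0), c.map_pow (hEN hw0), ZMod.natCast_zmod_val, ZMod.natCast_zmod_val]
  have hcx : c.v x = c.v x0 + i • c.v e0 + j • c.v w0 := by
    rw [hx, c.map_mul _ hx0N _ (hEN hrE), hcE r hrE i 0 j (by rw [hrv]; module)]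
    abel
  have hαe0 : d.c.v (α ⟨e0, he0⟩ : E) = t⁻¹ • e := by rw [← hρα, hev, hαe]
  have hαw0 : d.c.v (α ⟨w0, hw0⟩ : E) = w := by rw [← hρα, hwv, hαw]
  refine ⟨t, γ, hγA, ht, ht2, ht3, ht5, ⟨{
    e := ⟨e0, hEN he0⟩, x := ⟨x, hxN⟩, w := ⟨w0, hEN hw0⟩
    eE := he0, wE := hw0, xE := hxE
    frE := fun n hn => ((hfr n).1 hn).1
    gen := ?_, indep := ?_, zmem := ?_, znot := ?_, psiE := ?_, phiFr := ?_, xw := ?_, xp := ?_
    γE := ?_, γe := ?_, γx := ?_, γw := ?_ }⟩⟩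
  · -- generation
    rintro ⟨n, hn⟩
    obtain ⟨m, y, hy, rfl⟩ := hdec n hn
    obtain ⟨a, b, g, hv⟩ := hind.span d.card (d.c.v y)
    refine ⟨(a - (m : ZMod p) * i).val, m, (g - (m : ZMod p) * j).val, mem_phi.1 ?_⟩
    refine (c.eq_iff (SetLike.coe_mem _) hn).1 ?_
    simp only [Subgroup.coe_mul, Subgroup.coe_pow]
    rw [c.map_mul _ (N.mul_mem (N.pow_mem (hEN he0) _) (N.pow_mem hxN _)) _ (N.pow_mem (hEN hw0) _),
      c.map_mul _ (N.pow_mem (hEN he0) _) _ (N.pow_mem hxN _), c.map_mul _ (hEN hy) _ (N.pow_mem hx0N _),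
      c.map_pow (hEN he0), c.map_pow hxN, c.map_pow (hEN hw0), c.map_pow hx0N, hcx, hcE y hy a b g hv,
      ZMod.natCast_zmod_val, ZMod.natCast_zmod_val]
    module
  · -- independence
    intro a m g h
    obtain ⟨hE', hv⟩ := (hfr _).1 h
    simp only [Subgroup.coe_mul, Subgroup.coe_pow] at hE' hv
    have hxm : x ^ m ∈ E := by
      have := E.mul_mem (E.mul_mem (E.inv_mem (E.pow_mem he0 a)) hE') (E.inv_mem (E.pow_mem hw0 g))
      rwa [show (e0 ^ a)⁻¹ * (e0 ^ a * x ^ m * w0 ^ g) * (w0 ^ g)⁻¹ = x ^ m by group] at this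
    have hxpE := (hppE x hxN).1
    have hm : p ∣ m := by
      by_contra hm
      obtain ⟨u, hu'⟩ := Nat.exists_mul_mod_eq_one_of_coprime
        ((Fact.out : p.Prime).coprime_iff_not_dvd.2 hm).symm (Fact.out : p.Prime).one_lt
      refine hxE ?_
      have h5 : x ^ (m * u) ∈ E := by rw [pow_mul]; exact E.pow_mem hxm u
      rw [← Nat.mod_add_div (m * u) p, hu'.2, pow_add, pow_one, pow_mul] at h5
      have := E.mul_mem h5 (E.inv_mem (E.pow_mem hxpE (m * u / p)))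
      rwa [mul_inv_cancel_right] at this
    obtain ⟨m', rfl⟩ := hm
    have hxv : d.c.v (x ^ (p * m')) = 0 := by
      rw [pow_mul, d.c.map_pow hxpE, (hppE x hxN).2, smul_zero]
    obtain ⟨b, hv⟩ := hv
    rw [d.c.map_mul _ (E.mul_mem (E.pow_mem he0 _) hxm) _ (E.pow_mem hw0 _), d.c.map_mul _ (E.pow_mem he0 _) _ hxm,
      hxv, add_zero, d.c.map_pow he0, d.c.map_pow hw0, hev, hwv] at hv
    obtain ⟨h1, -, h3⟩ := hind (a : ZMod p) (-b) (g : ZMod p) (by linear_combination (norm := module) hv)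
    exact ⟨(ZMod.natCast_eq_zero_iff _ _).1 h1, dvd_mul_right _ _, (ZMod.natCast_eq_zero_iff _ _).1 h3⟩
  · -- `z` spans `Φ(N)` modulo `Φ(E)`
    intro y hy
    obtain ⟨hyE, a, ha⟩ := (hfr y).1 hy
    refine ⟨a.val, (mem_phi_subgroupOf hEN hNp).2 ?_⟩
    simp only [Subgroup.coe_mul, Subgroup.coe_pow, Subgroup.coe_inv]
    have hzE : e0⁻¹ * x * e0 * x⁻¹ ∈ E := by
      rw [show e0⁻¹ * x * e0 * x⁻¹ = e0⁻¹ * (x * e0 * x⁻¹) by group]
      exact E.mul_mem (E.inv_mem he0) (hconjE _ hxN _ he0)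
    refine (d.c.eq_iff (E.pow_mem hzE _) hyE).1 ?_
    rw [d.c.map_pow hzE, ha, ZMod.natCast_zmod_val, show e0⁻¹ * x * e0 * x⁻¹ = e0⁻¹ * (x * e0 * x⁻¹) by group,
      d.c.map_mul _ (E.inv_mem he0) _ (hconjE _ hxN _ he0), d.c.map_inv he0, hxact _ he0, hev, hue,
      neg_add_cancel_left]
  · intro h
    have h' := (mem_phi_subgroupOf hEN hNp).1 h
    simp only [Subgroup.coe_mul, Subgroup.coe_inv] at h'
    have hzE : e0⁻¹ * x * e0 * x⁻¹ ∈ E := phi_le E h'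
    have h0 := (d.c.mem _ hzE).2 h'
    rw [show e0⁻¹ * x * e0 * x⁻¹ = e0⁻¹ * (x * e0 * x⁻¹) by group,
      d.c.map_mul _ (E.inv_mem he0) _ (hconjE _ hxN _ he0), d.c.map_inv he0, hxact _ he0, hev, hue,
      neg_add_cancel_left] at h0
    exact one_ne_zero (hind 0 1 0 (by rw [h0]; simp)).2.1
  · -- `Ψ`
    rw [psi, layer, Subgroup.closure_le]
    rintro _ (⟨f, hf, rfl⟩ | ⟨f, hf, g, -, rfl⟩)
    · exact (mem_phi_subgroupOf hEN hNp).2 (by rw [Subgroup.coe_pow]; exact pow_mem_phi hEp ((hfr f).1 hf).1)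
    · refine (mem_phi_subgroupOf hEN hNp).2 ?_
      obtain ⟨hfE, a, ha⟩ := (hfr f).1 hf
      simp only [Subgroup.coe_mul, Subgroup.coe_inv]
      have hc := hconjE _ g.2 _ (E.inv_mem hfE)
      obtain ⟨m, hm⟩ := hconjv _ g.2
      rw [show (f : Ω) * g * (f : Ω)⁻¹ * (g : Ω)⁻¹ = (f : Ω) * ((g : Ω) * (f : Ω)⁻¹ * (g : Ω)⁻¹) by group]
      refine (d.c.mem _ (E.mul_mem hfE hc)).1 ?_
      rw [d.c.map_mul _ hfE _ hc, hm _ (E.inv_mem hfE), d.c.map_inv hfE, ha, map_neg, map_smul, hdz, smul_zero,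
        neg_zero, smul_zero, add_zero, add_neg_cancel]
  · intro y hy
    have h := (mem_phi_subgroupOf hEN hNp).1 hy
    exact (hfr y).2 ⟨phi_le E h, 0, by rw [zero_smul]; exact (d.c.mem _ (phi_le E h)).2 h⟩
  · refine (mem_phi_subgroupOf hEN hNp).2 ?_
    simp only [Subgroup.coe_mul, Subgroup.coe_inv]
    have hy := hconjE _ (N.inv_mem hxN) _ hw0
    rw [inv_inv] at hy
    refine (d.c.mem _ (E.mul_mem hy (E.inv_mem hw0))).1 ?_
    have h1 : d.c.v (x⁻¹ * w0 * x) = w := by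
      refine Units.apply_inj u0 ?_
      rw [← hxact _ hy, huw, show x * (x⁻¹ * w0 * x) * x⁻¹ = w0 by group, hwv]
    rw [d.c.map_mul _ hy _ (E.inv_mem hw0), d.c.map_inv hw0, h1, hwv, add_neg_cancel]
  · refine (mem_phi_subgroupOf hEN hNp).2 ?_
    rw [Subgroup.coe_pow]
    exact (d.c.mem _ (hppE x hxN).1).1 (hppE x hxN).2
  · rintro ⟨y, hyN⟩ hy
    show ((γ ⟨y, hyN⟩ : N) : Ω) ∈ E
    rw [hγE y hy]; exact SetLike.coe_mem _
  · refine (hfr _).2 ?_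
    simp only [Subgroup.coe_mul, Subgroup.coe_pow, Subgroup.coe_inv, hγE e0 he0]
    refine ⟨E.mul_mem (E.inv_mem (E.pow_mem he0 _)) (SetLike.coe_mem _), 0, ?_⟩
    rw [d.c.map_mul _ (E.inv_mem (E.pow_mem he0 _)) _ (SetLike.coe_mem _), d.c.map_inv (E.pow_mem he0 _),
      d.c.map_pow he0, hev, hαe0, ZMod.natCast_zmod_val, neg_add_cancel, zero_smul]
  · -- `x` is an eigenvector
    refine mem_phi.1 ((c.eq_iff (SetLike.coe_mem _) (SetLike.coe_mem _)).1 ?_)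
    have hre : (⟨x, hxN⟩ : N) = ⟨x0, hx0N⟩ * (⟨e0, hEN he0⟩ ^ i.val * ⟨w0, hEN hw0⟩ ^ j.val) :=
      Subtype.ext (by simp [hx, hr])
    rw [Subgroup.coe_pow, c.map_pow hxN, ZMod.natCast_zmod_val, hre, map_mul, map_mul, map_pow, map_pow,
      Subgroup.coe_mul, Subgroup.coe_mul, Subgroup.coe_pow, Subgroup.coe_pow, ← hg0, hγE _ he0, hγE _ hw0]
    have hae : (α ⟨e0, he0⟩ : E).1 ∈ N := hEN (SetLike.coe_mem _)
    have haw : (α ⟨w0, hw0⟩ : E).1 ∈ N := hEN (SetLike.coe_mem _)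
    rw [c.map_mul _ hg0N _ (N.mul_mem (N.pow_mem hae _) (N.pow_mem haw _)),
      c.map_mul _ (N.pow_mem hae _) _ (N.pow_mem haw _), c.map_pow hae, c.map_pow haw, ZMod.natCast_zmod_val,
      ZMod.natCast_zmod_val, hg0e, c.map_mul _ (hEN he1) _ (N.pow_mem hx0N k), c.map_pow hx0N, hkt,
      hcE e1 he1 a1 b1 c1 he1v, hcE _ (SetLike.coe_mem _) t⁻¹ 0 0 (by rw [hαe0]; module),
      hcE _ (SetLike.coe_mem _) 0 0 1 (by rw [hαw0]; module), hcx]
    match_scalars <;> first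
      | linear_combination hi
      | linear_combination hj
      | linear_combination -hi
      | linear_combination -hj
      | ring
  · refine (hfr _).2 ?_
    simp only [Subgroup.coe_mul, Subgroup.coe_inv, hγE w0 hw0]
    refine ⟨E.mul_mem (E.inv_mem hw0) (SetLike.coe_mem _), 0, ?_⟩
    rw [d.c.map_mul _ (E.inv_mem hw0) _ (SetLike.coe_mem _), d.c.map_inv hw0, hwv, hαw0, neg_add_cancel, zero_smul]

end Cfsg.Agent.Lib.EssentialRankThree
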