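import Cfsg.Agent.Lib.EssentialRankThree.SingleBlock
import Cfsg.Agent.Lib.EssentialRankThree.TBasis
import Cfsg.Agent.Lib.EssentialRankThree.Final
import Cfsg.Agent.Lib.FusionSystem.Agree

/-!
# Essential subgroups needing three generators are normal in sectional rank three
-/

set_option autoImplicit false
set_option linter.style.haveILetI false
set_option linter.unusedSectionVars false

namespace Cfsg.Agent.Lib.EssentialRankThree

open scoped Pointwise
open Cfsg Cfsg.FusionSystem Cfsg.Agent.Lib Cfsg.Agent.Lib.FS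
open Cfsg.Agent.Lib.Resistant67 (conjN conjN_apply conjN_pow_eq_one)
open Cfsg.Agent.Lib.EssentialRankThree.Units (GV dd dd_apply)

universe u

variable {Ω : Type u} [Group Ω] {S : Subgroup Ω} [Finite S] {p : ℕ} [Fact p.Prime] {F : FusionSystem S}
  {E : Subgroup Ω}

/-- A `p`-element of `Aut_F(N)` becomes a conjugation on a fully normalised conjugate of `N`. -/
theorem exists_transport (hS : IsPGroup p S) (hF : F.IsSaturated p) {N : Subgroup Ω} (hNS : N ≤ S)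
    {α : MulAut N} (hα : α ∈ F.autGroup N) {k : ℕ} (hk : α ^ p ^ k = 1) :
    ∃ (N' : Subgroup Ω) (e : N ≃* N') (φ : N →* Ω) (h : Ω) (hφ : φ ∈ F.Hom N) (hr : φ.range = N'),
      homEquiv hφ hr = e ∧ F.IsFullyNormalized N' ∧ h ∈ normalizerIn S N' ∧
      ∀ n : N, h * (e n : Ω) * h⁻¹ = (e (α n) : Ω) := by
  obtain ⟨N', hNN', hN'⟩ := exists_isFullyNormalized F hNS
  haveI := finite_sub hN'.1
  obtain ⟨φ0, hφ0, hr0⟩ := hNN'
  set α' := MulAut.congr (homEquiv hφ0 hr0) α with hα'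
  have hα'A : α' ∈ F.autGroup N' := congr_mem_autGroup hφ0 hr0 hα
  obtain ⟨R, hR⟩ := (fullyAutomized_of_fullyNormalized hS hF hN').2
  have hTp : IsPGroup p (Subgroup.zpowers α') := by
    rintro ⟨_, j, rfl⟩
    refine ⟨k, Subtype.ext ?_⟩
    rw [Subgroup.coe_pow, Subgroup.coe_one, ← zpow_natCast, ← zpow_mul, mul_comm, zpow_mul, zpow_natCast,
      hα', ← map_pow, hk, map_one, one_zpow]
  obtain ⟨a, ha, haR⟩ := exists_conj_le_sylow R hR (Subgroup.zpowers_le.2 hα'A) hTp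
  obtain ⟨h, hh, hhe⟩ := mem_autInducedBy.1 (haR α' (Subgroup.mem_zpowers α'))
  obtain ⟨φ, hφ, he⟩ := exists_comp hφ0 ((mem_autGroup hN'.1).1 ha) fun x => hr0.le ⟨x, rfl⟩
  have he' : ∀ x, φ x = (a (homEquiv hφ0 hr0 x) : Ω) := fun x => he x
  have hr : φ.range = N' := by
    ext y
    refine ⟨?_, fun hy => ?_⟩
    · rintro ⟨x, rfl⟩; rw [he']; exact SetLike.coe_mem _
    · obtain ⟨z, hz⟩ := a.surjective ⟨y, hy⟩
      obtain ⟨x, rfl⟩ := (homEquiv hφ0 hr0).surjective z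
      exact ⟨x, by rw [he', hz]⟩
  refine ⟨N', homEquiv hφ hr, φ, h, hφ, hr, rfl, hN', ⟨hh, mem_normalizer_of_aut hhe⟩, fun n => ?_⟩
  show h * φ n * h⁻¹ = φ (α n)
  rw [he', he', ← hhe, MulAut.mul_apply, MulAut.mul_apply, MulAut.inv_apply_self, hα']
  simp [MulAut.congr]

/-- A `p`-element of `Aut_F(N_S(E))` stabilising `E` is inner. -/
theorem inn_of_fix (hS : IsPGroup p S) (hF : F.IsSaturated p) (hess : F.IsEssential p E)
    {α : MulAut ↥(normalizerIn S E)} (hα : α ∈ F.autGroup (normalizerIn S E)) {k : ℕ} (hk : α ^ p ^ k = 1)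
    (hfix : ∀ y : normalizerIn S E, (y : Ω) ∈ E → (α y : Ω) ∈ E) : α ∈ Inn (normalizerIn S E) := by
  have hES : E ≤ S := hess.2.1.1
  set N := normalizerIn S E with hN
  have hNS : N ≤ S := normalizerIn_le E
  have hEN : E ≤ N := le_normalizerIn hES
  haveI := finite_sub hNS
  haveI := finite_sub hES
  obtain ⟨N', e, φ, h, hφ, hr, he, -, hh, hconj⟩ := exists_transport hS hF hNS hα hk
  have heφ : ∀ n, (e n : Ω) = φ n := fun n => by rw [← he]; rfl
  obtain ⟨ψ, hψ, hψe⟩ := exists_restrict hφ hEN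
  have hE1S : ψ.range ≤ S := range_le_base hψ
  haveI := finite_sub hE1S
  have hmem : ∀ {y : Ω}, y ∈ ψ.range → ∃ x : N, (x : Ω) ∈ E ∧ (e x : Ω) = y := by
    rintro _ ⟨x, rfl⟩
    exact ⟨⟨x, hEN x.2⟩, x.2, by rw [heφ, hψe]⟩
  have hmem' : ∀ x : N, (x : Ω) ∈ E → (e x : Ω) ∈ ψ.range := fun x hx =>
    ⟨⟨x, hx⟩, by rw [hψe, heφ]⟩
  have hN'le : N' ≤ normalizerIn S ψ.range := fun y hy => by
    obtain ⟨n, hn⟩ := e.surjective ⟨y, hy⟩
    have hy' : y = (e n : Ω) := by rw [hn]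
    refine ⟨(hr ▸ range_le_base hφ : N' ≤ S) hy, mem_normalizer_of_conj_mem fun z hz => ?_⟩
    obtain ⟨x, hx, rfl⟩ := hmem hz
    have := hmem' (n * x * n⁻¹) (conj_mem_of_normalizer n.2.2 hx)
    rwa [map_mul, map_mul, map_inv, Subgroup.coe_mul, Subgroup.coe_mul, Subgroup.coe_inv, ← hy'] at this
  have hh1 : h ∈ normalizerIn S ψ.range := ⟨hh.1, mem_normalizer_of_conj_mem fun z hz => by
    obtain ⟨x, hx, rfl⟩ := hmem hz
    rw [hconj]; exact hmem' _ (hfix x hx)⟩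
  haveI := finite_sub (S := S) (normalizerIn_le (S := S) ψ.range)
  have heq : N' = normalizerIn S ψ.range := Subgroup.eq_of_le_of_card_ge hN'le (by
    rw [← Nat.card_congr e.toEquiv]; exact hess.2.1.2 _ ⟨ψ, hψ, rfl⟩)
  rw [← heq] at hh1
  refine ⟨e.symm ⟨h, hh1⟩, MulEquiv.ext fun n => e.injective (Subtype.ext ?_)⟩
  rw [MulAut.conj_apply, map_mul, map_mul, map_inv, MulEquiv.apply_symm_apply, Subgroup.coe_mul, Subgroup.coe_mul,
    Subgroup.coe_inv, hconj]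

/-- A nontrivial `p`-element moving `E` gives the extension that is too large. -/
theorem exists_ext (hS : IsPGroup p S) (hF : F.IsSaturated p) {N : Subgroup Ω} (hNc : F.IsCentric N)
    {γ θ : MulAut ↥(N)} (hγ : γ ∈ F.autGroup (N))
    (hθ : θ ∈ F.autGroup (N)) {k : ℕ} (hk : θ ^ p ^ k = 1) (hθn : θ ∉ Inn (N))
    (hθp : θ ^ p ∈ Inn (N)) {m : ℕ} {r : N}
    (hrel : γ * θ = θ ^ m * MulAut.conj r * γ) :
    ∃ T : Subgroup Ω, T ≤ S ∧ Nonempty (Ext p γ θ m T) := by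
  have hNS : N ≤ S := hNc.1
  obtain ⟨N', e, φ, h, hφ, hr, he, hN', hh, hconj⟩ := exists_transport hS hF hNS hθ hk
  have hN'S := hN'.1
  haveI := finite_sub hN'S
  have hcen : centralizerIn S N' ≤ N' :=
    hNc.2 N' ⟨φ, hφ, hr⟩
  have hzn : ∀ z ∈ Subgroup.zpowers h, z ∈ Subgroup.normalizer (N' : Set Ω) :=
    fun z hz => Subgroup.zpowers_le.2 hh.2 hz
  set T := N' ⊔ Subgroup.zpowers h with hT
  have hTS : T ≤ S := sup_le hN'S (Subgroup.zpowers_le.2 hh.1)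
  have hN'T : N' ≤ T := le_sup_left
  have hhT : h ∈ T := le_sup_right (a := N') (Subgroup.mem_zpowers h)
  let ι : N →* T := (Subgroup.inclusion hN'T).comp e.toMonoidHom
  have hι : ∀ n, ((ι n : T) : Ω) = (e n : Ω) := fun _ => rfl
  have hcpow : ∀ (i : ℕ) (n : N), h ^ i * (e n : Ω) * (h ^ i)⁻¹ = (e ((θ ^ i) n) : Ω) := by
    intro i
    induction i with
    | zero => simp
    | succ i ih =>
      intro n
      rw [pow_succ, show h ^ i * h * (e n : Ω) * (h ^ i * h)⁻¹ = h ^ i * (h * (e n : Ω) * h⁻¹) * (h ^ i)⁻¹ by group,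
        hconj, ih, pow_succ θ, MulAut.mul_apply]
  have hfin : IsOfFinOrder h := by
    obtain ⟨j, hj⟩ := hS ⟨h, hh.1⟩
    exact isOfFinOrder_iff_pow_eq_one.2 ⟨p ^ j, pow_pos (Fact.out : p.Prime).pos j, congrArg Subtype.val hj⟩
  have hgen : ∀ y ∈ T, ∃ (i : ℕ) (n : N), y = (e n : Ω) * h ^ i := by
    intro y hy
    have h1 : y ∈ ((N' : Set Ω) * (Subgroup.zpowers h : Set Ω)) := by
      rw [← Subgroup.coe_mul_of_right_le_normalizer_left N' (Subgroup.zpowers h) hzn]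
      exact hy
    obtain ⟨a, ha, z, hz, rfl⟩ := h1
    obtain ⟨i, rfl⟩ := hfin.mem_powers_iff_mem_zpowers.2 hz
    obtain ⟨n, hn⟩ := e.surjective ⟨a, ha⟩
    exact ⟨i, n, by rw [hn]⟩
  -- the extension of `γ`
  set β := MulAut.congr (homEquiv hφ hr) γ with hβ
  have hβA : β ∈ F.autGroup N' := congr_mem_autGroup hφ hr hγ
  have hβe : ∀ n : N, β (e n) = e (γ n) := fun n => by
    rw [hβ, he]; simp [MulAut.congr]
  obtain ⟨φ', hφ', hr', hφ'e⟩ := exists_hom_of_aut hN'S hβA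
  obtain ⟨ψ, hψ, hψe⟩ := (receptive_of_fullyNormalized hS hF hN').2 N' φ' hφ' hr'
  have hh' : h ^ m * (e r : Ω) ∈ S := S.mul_mem (S.pow_mem hh.1 m) (hN'S (SetLike.coe_mem _))
  have hrel' : ∀ x : N, (e (γ (θ x)) : Ω) =
      h ^ m * (e r : Ω) * (e (γ x) : Ω) * (h ^ m * (e r : Ω))⁻¹ := fun x => by
    have h1 := DFunLike.congr_fun hrel x
    simp only [MulAut.mul_apply, MulAut.conj_apply] at h1
    rw [h1, ← hcpow, map_mul, map_mul, map_inv, Subgroup.coe_mul, Subgroup.coe_mul, Subgroup.coe_inv]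
    group
  have hhext : h ∈ extender S N' φ' := mem_extender_of hh hh' fun x hx => by
    obtain ⟨n, rfl⟩ := e.surjective x
    rw [hφ'e, hφ'e, show (⟨h * (e n : Ω) * h⁻¹, hx⟩ : N') = e (θ n) from Subtype.ext (hconj n), hβe, hβe, hrel']
  have hText : T ≤ extender S N' φ' :=
    sup_le (le_extender hN'S (apply_mem hφ')) (Subgroup.zpowers_le.2 hhext)
  have hψι : ∀ n : N, ψ ⟨(e n : Ω), hText (hN'T (SetLike.coe_mem _))⟩ = (e (γ n) : Ω) := fun n => by
    rw [hψe _ (SetLike.coe_mem _), hφ'e]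
    exact congrArg Subtype.val (hβe n)
  -- the image of `h`
  obtain ⟨n0, hn0⟩ : ∃ n0 : N, ψ ⟨h, hhext⟩ = h ^ m * (e n0 : Ω) := by
    have hψS : ψ ⟨h, hhext⟩ ∈ S := apply_mem hψ _
    have hc : (h ^ m * (e r : Ω))⁻¹ * ψ ⟨h, hhext⟩ ∈ centralizerIn S N' := by
      refine mem_centralizerIn'.2 ⟨S.mul_mem (S.inv_mem hh') hψS, fun y hy => ?_⟩
      obtain ⟨x, hx⟩ := e.surjective ⟨y, hy⟩
      obtain ⟨x, rfl⟩ := γ.surjective x
      have hy' : y = (e (γ x) : Ω) := by rw [hx]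
      have h1 := hψι (θ x)
      rw [show (⟨(e (θ x) : Ω), hText (hN'T (SetLike.coe_mem _))⟩ : extender S N' φ') =
        ⟨h, hhext⟩ * ⟨(e x : Ω), hText (hN'T (SetLike.coe_mem _))⟩ * (⟨h, hhext⟩ : extender S N' φ')⁻¹ from
          Subtype.ext (hconj x).symm, map_mul, map_mul, map_inv, hψι, hrel'] at h1
      subst hy'
      set a := h ^ m * (e r : Ω)
      set b := ψ ⟨h, hhext⟩
      set c := (e (γ x) : Ω)
      calc a⁻¹ * b * c * (a⁻¹ * b)⁻¹ = a⁻¹ * (b * c * b⁻¹) * a := by group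
        _ = a⁻¹ * (a * c * a⁻¹) * a := by rw [h1]
        _ = c := by group
    obtain ⟨w, hw⟩ := e.surjective ⟨_, N'.mul_mem (SetLike.coe_mem (e r)) (hcen hc)⟩
    refine ⟨w, ?_⟩
    rw [hw]; group
  obtain ⟨ψT, hψT, hψTe⟩ := exists_restrict hψ hText
  have hψh : ψT ⟨h, hhT⟩ = h ^ m * (e n0 : Ω) := by rw [hψTe, ← hn0]
  have hψn : ∀ n : N, ψT (ι n) = (e (γ n) : Ω) := fun n => by rw [hψTe, ← hψι]; rfl
  have hψTT : ∀ y : T, ψT y ∈ T := fun y => by
    obtain ⟨i, n, hy⟩ := hgen y y.2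
    rw [show y = ι n * ⟨h, hhT⟩ ^ i from Subtype.ext hy, map_mul, map_pow, hψn, hψh]
    exact T.mul_mem (hN'T (SetLike.coe_mem _)) (T.pow_mem (T.mul_mem (T.pow_mem hhT m) (hN'T (SetLike.coe_mem _))) i)
  refine ⟨T, hTS, ⟨{
    ι := ι, inj := (Subgroup.inclusion_injective hN'T).comp e.injective, h := ⟨h, hhT⟩
    conj := fun n => Subtype.ext (hconj n)
    hpow := ?_, hne := fun n hn => ?_, gen := fun y => ?_
    χ := ψT.codRestrict T hψTT, χι := fun n => Subtype.ext (hψn n)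
    n0 := n0, χh := Subtype.ext hψh }⟩⟩
  · obtain ⟨w, hw⟩ := hθp
    have hc : (e w : Ω)⁻¹ * h ^ p ∈ centralizerIn S N' := by
      refine mem_centralizerIn'.2 ⟨S.mul_mem (S.inv_mem (hN'S (SetLike.coe_mem _))) (S.pow_mem hh.1 p), fun y hy => ?_⟩
      obtain ⟨x, hx⟩ := e.surjective ⟨y, hy⟩
      have hy' : y = (e x : Ω) := by rw [hx]
      have h1 := hcpow p x
      rw [← hw, MulAut.conj_apply, map_mul, map_mul, map_inv, Subgroup.coe_mul, Subgroup.coe_mul,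
        Subgroup.coe_inv] at h1
      subst hy'
      set a := (e w : Ω)
      set b := h ^ p
      set c := (e x : Ω)
      calc a⁻¹ * b * c * (a⁻¹ * b)⁻¹ = a⁻¹ * (b * c * b⁻¹) * a := by group
        _ = a⁻¹ * (a * c * a⁻¹) * a := by rw [h1]
        _ = c := by group
    obtain ⟨w', hw'⟩ := e.surjective ⟨_, N'.mul_mem (SetLike.coe_mem (e w)) (hcen hc)⟩
    refine ⟨w', Subtype.ext ?_⟩
    rw [hι, hw', Subgroup.coe_pow]; group
  · refine hθn ⟨n, MulEquiv.ext fun x => e.injective (Subtype.ext ?_)⟩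
    rw [← hconj, MulAut.conj_apply, map_mul, map_mul, map_inv, Subgroup.coe_mul, Subgroup.coe_mul, Subgroup.coe_inv,
      show h = (e n : Ω) from (congrArg Subtype.val hn).symm]
  · obtain ⟨i, n, hy⟩ := hgen y y.2
    exact ⟨i, n, Subtype.ext hy⟩

/-- No transvection configuration exists on a non-normal essential subgroup in sectional rank three. -/
theorem false_of_tdata (hS : IsPGroup p S) (hF : F.IsSaturated p) (hp5 : 5 ≤ p) (hsr : SectionalPRankLE p 3 ↥S)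
    (hess : F.IsEssential p E) (hnn : ¬ S ≤ Subgroup.normalizer (E : Set Ω)) {t : ZMod p}
    {γ : MulAut ↥(normalizerIn S E)} (hγ : γ ∈ F.autGroup (normalizerIn S E)) (ht : t ≠ 0) (ht2 : t ^ 2 ≠ 1)
    (ht3 : t ^ 3 ≠ 1) (ht5 : t ^ 5 ≠ 1) (D : TData p (E.subgroupOf (normalizerIn S E)) γ t) : False := by
  have hp3 : 3 ≤ p := by omega
  have hES : E ≤ S := hess.2.1.1
  have hNS : (normalizerIn S E) ≤ S := normalizerIn_le E
  haveI := finite_sub hNS
  have hNp : IsPGroup p (normalizerIn S E) := isPGroup_of_le hS hNS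
  obtain ⟨U, W, _, _, _, _, _, _, ⟨C⟩⟩ := exists_tcoord hNp D
  let A := F.autGroup (normalizerIn S E)
  have hinnρ : ∀ a ∈ Inn (normalizerIn S E), C.ρ a = 1 := by
    rintro _ ⟨r, rfl⟩; exact rho_conj r
  have hAD : AData C A := ⟨hγ, fun α hα ⟨k, hk⟩ hfix => hinnρ α (inn_of_fix hS hF hess hα hk hfix)⟩
  have hker : ∀ a ∈ A, C.ρ a = 1 → a ∈ Inn (normalizerIn S E) := by
    intro a ha ha1
    let K : Subgroup A := C.ρ.ker.subgroupOf A
    have hKp : IsPGroup p K := FusionEssential.PClosed.isPGroup_of_coprime_trivial K fun b hb hco =>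
      Subtype.ext (Resistant67.eq_one_of_trivial_frattini hNp (by rwa [Subgroup.orderOf_coe]) fun x =>
        (C.cU.eq_iff (x := x) trivial trivial).1 (by
          rw [← C.rho, show C.ρ (b : MulAut (normalizerIn S E)) = 1 from hb]; rfl))
    obtain ⟨k, hk⟩ := hKp ⟨⟨a, ha⟩, ha1⟩
    refine inn_of_fix hS hF hess ha (k := k) (congrArg (fun b : K => ((b : A) : MulAut (normalizerIn S E))) hk) fun y hy => ?_
    obtain ⟨i, j, hij⟩ := (C.mem_E_iff hp3 y).1 hy
    exact (C.mem_E_iff hp3 (a y)).2 ⟨i, j, by rw [← C.rho, ha1, ← hij]; rfl⟩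
  -- a `p`-element moving `E`
  obtain ⟨g, hg, hgN⟩ := SetLike.exists_of_lt (normalizerIn_ne_of_lt hS
    (lt_of_le_of_ne hNS fun h => hnn (h ▸ inf_le_right) : (normalizerIn S E) < S))
  set α : MulAut (normalizerIn S E) := (conjN F hNS ⟨g, hg⟩ : MulAut (normalizerIn S E)) with hα
  obtain ⟨y, hy, hαy⟩ : ∃ y : (normalizerIn S E), y ∈ E.subgroupOf (normalizerIn S E) ∧ α y ∉ E.subgroupOf (normalizerIn S E) := by
    by_contra hcon
    push Not at hcon
    haveI := finite_sub hES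
    exact hgN ⟨hg.1, mem_normalizer_of_conj_mem fun z hz =>
      hcon ⟨z, le_normalizerIn hES hz⟩ hz⟩
  obtain ⟨θ, hθ, ⟨k, hk⟩, hcase⟩ := hAD.exists_pure hNp hp3 ht ht2 ht3 ht5 (SetLike.coe_mem _)
    (conjN_pow_eq_one hS hNS ⟨g, hg⟩) hy hαy
  -- the relation with `γ`
  have hsq : ∀ v, dd (C.ρ θ) (dd (C.ρ θ) v) = 0 := by
    intro v
    obtain ⟨i, j, l, rfl⟩ := C.spanU v
    rcases hcase with ⟨h1, h2, h3⟩ | ⟨-, h1, h2, h3⟩ <;>
      simp [dd_apply, h1, h2, h3]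
  have hθp : θ ^ p ∈ Inn (normalizerIn S E) := hker _ (A.pow_mem hθ p) (by
    rw [map_pow]; exact Units.pow_p_of_cube hp3 _ fun v => hsq _)
  have hθn : θ ∉ Inn (normalizerIn S E) := fun h => by
    have h1 := hinnρ θ h
    rcases hcase with ⟨h2, -, -⟩ | ⟨-, -, -, h2⟩
    · rw [h1, Units.val_one, Module.End.one_apply] at h2
      exact one_ne_zero (C.indepU 0 1 0 (by rw [one_smul, left_eq_add.1 h2]; simp)).2.1
    · rw [h1, Units.val_one, Module.End.one_apply] at h2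
      exact one_ne_zero (C.indepU 0 1 0 (by rw [one_smul, left_eq_add.1 h2]; simp)).2.1
  have hext : ∀ m : ℕ, C.ρ γ * C.ρ θ = C.ρ θ ^ m * C.ρ γ →
      ∃ T : Subgroup Ω, T ≤ S ∧ Nonempty (Ext p γ θ m T) := by
    intro m hm
    obtain ⟨r, hr⟩ := hker ((θ ^ m)⁻¹ * (γ * θ * γ⁻¹))
      (A.mul_mem (A.inv_mem (A.pow_mem hθ m)) (A.mul_mem (A.mul_mem hγ hθ) (A.inv_mem hγ)))
      (by rw [map_mul, map_inv, map_mul, map_mul, map_inv, hm, map_pow, mul_inv_cancel_right, inv_mul_cancel])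
    exact exists_ext hS hF (isCentric_of_le hess.1 (le_normalizerIn hES) hNS) hγ hθ hk hθn hθp (r := r) (by rw [hr]; group)
  have hpa := Units.pow_apply_of_sq (C.ρ θ) hsq
  rcases hcase with ⟨h1, h2, h3⟩ | ⟨hF0, h1, h2, h3⟩
  · have hm : (((t ^ 3).val : ℕ) : ZMod p) = t ^ 3 := ZMod.natCast_zmod_val _
    obtain ⟨T, hTS, ⟨X⟩⟩ := hext (t ^ 3).val (Units.ext_apply fun v => by
      obtain ⟨i, j, l, rfl⟩ := C.spanU v
      simp only [Units.mul_apply, map_add, map_smul, h1, h2, h3, C.gamma_E0, C.gamma_X0, C.gamma_W0, hpa, hm,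
        dd_apply, add_sub_cancel_left, sub_self, smul_zero, add_zero, smul_smul]
      match_scalars <;> field_simp)
    haveI := finite_sub hTS
    exact false_of_first hNp hp3 (sectional_of_injective (Subgroup.inclusion hTS)
      (Subgroup.inclusion_injective hTS) hsr) ht ht2 ht3 h1 h2 h3 hm X
  · have hm : (((t ^ 2).val : ℕ) : ZMod p) = t ^ 2 := ZMod.natCast_zmod_val _
    obtain ⟨T, hTS, ⟨X⟩⟩ := hext (t ^ 2).val (Units.ext_apply fun v => by
      obtain ⟨i, j, l, rfl⟩ := C.spanU v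
      simp only [Units.mul_apply, map_add, map_smul, h1, h2, h3, C.gamma_E0, C.gamma_X0, C.gamma_W0, hpa, hm,
        dd_apply, add_sub_cancel_left, sub_self, smul_zero, add_zero, smul_smul])
    haveI := finite_sub hTS
    exact false_of_second hNp hp3 (sectional_of_injective (Subgroup.inclusion hTS)
      (Subgroup.inclusion_injective hTS) hsr) ht ht2 ht3 ht5 hF0 h1 h2 h3 hm X

/-- An essential subgroup needing three generators is normal in `S`. -/
theorem le_normalizer_of_rank_three (hS : IsPGroup p S) (hF : F.IsSaturated p) (hp5 : 5 ≤ p)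
    (hsr : SectionalPRankLE p 3 ↥S) (hess : F.IsEssential p E) (hrk : (frattini ↥E).index = p ^ 3) :
    S ≤ Subgroup.normalizer (E : Set Ω) := by
  by_contra hnn
  obtain ⟨V, _, _, _, ⟨d⟩⟩ := exists_auto hS hF hess hrk
  obtain ⟨z0, hz0, hz1⟩ := (Subgroup.ne_bot_iff_exists_ne_one.1 d.emb.ne) |>.elim fun z hz =>
    (⟨z.1, z.2, fun h => hz (Subtype.ext h)⟩ : ∃ z0 ∈ (autInducedBy S E).map d.ρ, z0 ≠ 1)
  by_cases hj : ∃ w, dd z0 (dd z0 w) ≠ 0
  · obtain ⟨w, hw⟩ := hj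
    obtain ⟨J⟩ := exists_jpair hS hp5 hess d hnn hz0 hw
    exact false_of_jordan hS hp5 hsr hess d J
  · push Not at hj
    obtain ⟨t, γ, hγ, ht, ht2, ht3, ht5, ⟨D⟩⟩ := exists_tdata hS hF hp5 hess d hz0 hz1 hj
    exact false_of_tdata hS hF hp5 hsr hess hnn hγ ht ht2 ht3 ht5 D

end Cfsg.Agent.Lib.EssentialRankThree
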