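import Cfsg.Agent.Lib.EssentialRankThree.JordanPair

/-!
# The normaliser of an essential subgroup acted on by a transvection

An abstract `p`-group `G` with a maximal subgroup `E`, three generators `e`, `x`, `w` and an automorphism `γ`
scaling them by `1/t`, `t²`, `1`; coordinates on the first two layers and the weights of `γ` on them.
-/

set_option autoImplicit false
set_option linter.style.haveILetI false
set_option linter.unusedSectionVars false

namespace Cfsg.Agent.Lib.EssentialRankThree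

open Cfsg Cfsg.Agent.Lib Cfsg.Agent.Lib.FS
open Cfsg.Agent.Lib.EssentialRankThree.Units (GV)
open scoped commutatorElement

universe u

variable {p : ℕ} [Fact p.Prime] {G : Type u} [Group G]

/-- `Ψ = [Φ(G), G] Φ(G)^p`. -/
def psi (p : ℕ) (G : Type u) [Group G] : Subgroup G := layer p ⊤ (frattini G)

/-- The transvection configuration. -/
structure TData (p : ℕ) [Fact p.Prime] {G : Type u} [Group G] (E : Subgroup G) (γ : MulAut G) (t : ZMod p) where
  /-- The generator of weight `-1`. -/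
  e : G
  /-- The generator outside `E`, of weight `2`. -/
  x : G
  /-- The generator of weight `0`. -/
  w : G
  eE : e ∈ E
  wE : w ∈ E
  xE : x ∉ E
  frE : frattini G ≤ E
  gen : ∀ n, ∃ i j k : ℕ, (e ^ i * x ^ j * w ^ k)⁻¹ * n ∈ frattini G
  indep : ∀ i j k : ℕ, e ^ i * x ^ j * w ^ k ∈ frattini G → p ∣ i ∧ p ∣ j ∧ p ∣ k
  zmem : ∀ y ∈ frattini G, ∃ k : ℕ, ((e⁻¹ * x * e * x⁻¹) ^ k)⁻¹ * y ∈ phi E
  znot : e⁻¹ * x * e * x⁻¹ ∉ phi E
  psiE : psi p G ≤ phi E
  phiFr : phi E ≤ frattini G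
  xw : x⁻¹ * w * x * w⁻¹ ∈ phi E
  xp : x ^ p ∈ phi E
  γE : ∀ y ∈ E, γ y ∈ E
  γe : (e ^ t⁻¹.val)⁻¹ * γ e ∈ frattini G
  γx : (x ^ (t ^ 2).val)⁻¹ * γ x ∈ frattini G
  γw : w⁻¹ * γ w ∈ frattini G

/-- Coordinates on the two layers of `G`. -/
structure TCoord {E : Subgroup G} {γ : MulAut G} {t : ZMod p} (D : TData p E γ t) (U W : Type u) [AddCommGroup U]
    [Module (ZMod p) U] [AddCommGroup W] [Module (ZMod p) W] where
  cU : Coord p (⊤ : Subgroup G) (frattini G) U
  cW : Coord p (frattini G) (psi p G) W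
  /-- The action on `G / Φ(G)`. -/
  ρ : MulAut G →* GV p U
  rho : ∀ (α : MulAut G) (y : G), (ρ α).1 (cU.v y) = cU.v (α y)
  /-- The action on `Φ(G) / Ψ`. -/
  σ : MulAut G →* GV p W
  sigma : ∀ (α : MulAut G), ∀ y ∈ frattini G, (σ α).1 (cW.v y) = cW.v (α y)

variable [Finite G] {E : Subgroup G} {γ : MulAut G} {t : ZMod p}

theorem frattini_normal_mem (g : G) {y : G} (hy : y ∈ frattini G) : g * y * g⁻¹ ∈ frattini G :=
  Resistant67.aut_mem_frattini (MulAut.conj g) hy

theorem aut_mem_psi (α : MulAut G) {y : G} (hy : y ∈ psi p G) : α y ∈ psi p G := by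
  haveI : Finite (⊤ : Subgroup G) := inferInstance
  exact map_mem_layer (E := (⊤ : Subgroup G)) (B := ⊤) (α.toMonoidHom.comp (⊤ : Subgroup G).subtype) le_top le_top (fun _ _ => trivial)
    (fun y hy => Resistant67.aut_mem_frattini α hy) (x := ⟨y, trivial⟩) hy

theorem psi_le (G : Type u) [Group G] [Finite G] : psi p G ≤ frattini G :=
  layer_le fun g _ _ hy => frattini_normal_mem g hy

/-- Automorphisms act linearly on a characteristic section. -/
theorem exists_rep {A B : Subgroup G} {V : Type u} [AddCommGroup V] [Module (ZMod p) V] (c : Coord p A B V)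
    (hA : ∀ (α : MulAut G), ∀ y ∈ A, α y ∈ A) (hB : ∀ (α : MulAut G), ∀ y ∈ B, α y ∈ B) :
    ∃ ρ : MulAut G →* GV p V, ∀ (α : MulAut G), ∀ y ∈ A, (ρ α).1 (c.v y) = c.v (α y) := by
  have h : ∀ α : MulAut G, ∃ L : V →ₗ[ZMod p] V, ∀ y ∈ A, L (c.v y) = c.v (α y) := fun α =>
    c.exists_lift α (fun y _ y' _ => map_mul α y y') (hA α) (hB α)
  choose L hL using h
  have hext : ∀ f g : V →ₗ[ZMod p] V, (∀ y ∈ A, f (c.v y) = g (c.v y)) → f = g := fun f g h =>
    LinearMap.ext fun v => by obtain ⟨y, hy, rfl⟩ := c.surj v; exact h y hy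
  let ρ₀ : MulAut G →* Module.End (ZMod p) V :=
    { toFun := L
      map_one' := hext _ _ fun y hy => by rw [hL 1 y hy]; rfl
      map_mul' := fun α β => hext _ _ fun y hy => by
        rw [hL (α * β) y hy, Module.End.mul_apply, hL β y hy, hL α _ (hA β y hy)]; rfl }
  exact ⟨ρ₀.toHomUnits, hL⟩

/-- The coordinates exist. -/
theorem exists_tcoord (hG : IsPGroup p G) (D : TData p E γ t) :
    ∃ (U W : Type u) (_ : AddCommGroup U) (_ : Module (ZMod p) U) (_ : Finite U) (_ : AddCommGroup W)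
      (_ : Module (ZMod p) W) (_ : Finite W), Nonempty (TCoord D U W) := by
  obtain ⟨U, _, _, _, cU, -⟩ := exists_coord (p := p) (⊤ : Subgroup G) (frattini G) le_top
    (fun g _ y hy => frattini_normal_mem g hy) (fun a _ b _ => PGroups.commutatorElement_mem_frattini hG a b)
    (fun a _ => PGroups.pow_mem_frattini hG a)
  obtain ⟨W, _, _, _, cW, -⟩ := exists_coord (p := p) (frattini G) (psi p G) (psi_le G)
    (fun g _ y hy => aut_mem_psi (MulAut.conj g) hy) (fun a ha b _ => comm_mem_layer ha trivial)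
    (fun a ha => pow_mem_layer ha)
  obtain ⟨ρ, hρ⟩ := exists_rep cU (fun _ _ _ => trivial) (fun α y hy => Resistant67.aut_mem_frattini α hy)
  obtain ⟨σ, hσ⟩ := exists_rep cW (fun α y hy => Resistant67.aut_mem_frattini α hy) fun α y hy => aut_mem_psi α hy
  exact ⟨U, W, inferInstance, inferInstance, inferInstance, inferInstance, inferInstance, inferInstance,
    ⟨⟨cU, cW, ρ, fun α y => hρ α y trivial, σ, hσ⟩⟩⟩

namespace TCoord

variable {U W : Type u} [AddCommGroup U] [Module (ZMod p) U] [AddCommGroup W] [Module (ZMod p) W]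
  {D : TData p E γ t}

/-- The commutator form. -/
def b (C : TCoord D U W) (a c : G) : W := form C.cW a c

/-- The `p`-th power. -/
def pw (p : ℕ) [Fact p.Prime] {G : Type u} [Group G] {E : Subgroup G} {γ : MulAut G} {t : ZMod p} {U W : Type u}
    [AddCommGroup U] [Module (ZMod p) U] [AddCommGroup W] [Module (ZMod p) W] {D : TData p E γ t}
    (C : TCoord D U W) (a : G) : W := C.cW.v (a ^ p)

section Forms

variable (C : TCoord D U W) (hG : IsPGroup p G)
include hG

theorem comm_mem (a c : G) : a⁻¹ * c * a * c⁻¹ ∈ frattini G := by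
  simpa [commutatorElement_def] using PGroups.commutatorElement_mem_frattini hG a⁻¹ c

theorem b_left (a a' c : G) : C.b (a * a') c = C.b a c + C.b a' c :=
  form_left (E := ⊤) C.cW (fun a _ c _ => comm_mem hG a c) (fun g _ y hy => frattini_normal_mem g hy)
    (fun g _ y hy => by
      have := comm_mem_layer (p := p) (E := (⊤ : Subgroup G)) (inv_mem hy) (e := g) trivial
      rwa [inv_inv, show y⁻¹ * g * y * g⁻¹ = y⁻¹ * (g * y * g⁻¹) by group] at this) trivial trivial trivial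

theorem b_swap (a c : G) : C.b c a = -C.b a c :=
  form_swap (E := ⊤) C.cW (fun a _ c _ => comm_mem hG a c) (fun g _ y hy => frattini_normal_mem g hy)
    (fun g _ y hy => by
      have := comm_mem_layer (p := p) (E := (⊤ : Subgroup G)) (inv_mem hy) (e := g) trivial
      rwa [inv_inv, show y⁻¹ * g * y * g⁻¹ = y⁻¹ * (g * y * g⁻¹) by group] at this) trivial trivial

theorem b_right (a c c' : G) : C.b a (c * c') = C.b a c + C.b a c' := by
  rw [b_swap C hG (c * c') a, b_left C hG, b_swap C hG a c, b_swap C hG a c']; abel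

theorem b_self (a : G) : C.b a a = 0 := by
  rw [b, form, show a⁻¹ * a * a * a⁻¹ = 1 by group, C.cW.map_one]

theorem b_one_left (c : G) : C.b 1 c = 0 := by
  rw [b, form, show (1 : G)⁻¹ * c * 1 * c⁻¹ = 1 by group, C.cW.map_one]

theorem b_pow_left (a c : G) (n : ℕ) : C.b (a ^ n) c = (n : ZMod p) • C.b a c := by
  induction n with
  | zero => simp [b_one_left C hG c]
  | succ n ih => rw [pow_succ, b_left C hG, ih, Nat.cast_succ, add_smul, one_smul]

theorem b_pow_right (a c : G) (n : ℕ) : C.b a (c ^ n) = (n : ZMod p) • C.b a c := by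
  rw [b_swap C hG (c ^ n) a, b_pow_left C hG, b_swap C hG a c, smul_neg, neg_neg]

theorem b_zero_left {f : G} (hf : f ∈ frattini G) (c : G) : C.b f c = 0 :=
  (C.cW.mem _ (comm_mem hG f c)).2 (by
    have := comm_mem_layer (p := p) (E := (⊤ : Subgroup G)) (inv_mem hf) (e := c) trivial
    rwa [inv_inv] at this)

theorem b_map (α : MulAut G) (a c : G) : (C.σ α).1 (C.b a c) = C.b (α a) (α c) := by
  rw [b, form, C.sigma α _ (comm_mem hG a c)]
  simp [b, form]

theorem pw_mul (hp : 3 ≤ p) (a c : G) : pw p C (a * c) = pw p C a + pw p C c := by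
  show C.cW.v _ = C.cW.v _ + C.cW.v _
  rw [← C.cW.map_mul _ (PGroups.pow_mem_frattini hG a) _ (PGroups.pow_mem_frattini hG c)]
  haveI : (psi p G).Normal := ⟨fun y hy g => aut_mem_psi (MulAut.conj g) hy⟩
  let π := QuotientGroup.mk' (psi p G)
  have hπ : ∀ y : G, π y = 1 ↔ y ∈ psi p G := fun y => QuotientGroup.eq_one_iff y
  have hcF : c * a * c⁻¹ * a⁻¹ ∈ frattini G := PGroups.commutatorElement_mem_frattini hG c a
  have hcc : ∀ y : G, Commute (π c * π a * (π c)⁻¹ * (π a)⁻¹) (π y) := fun y => by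
    rw [← map_inv, ← map_inv, ← map_mul, ← map_mul, ← map_mul]
    refine commutatorElement_eq_one_iff_commute.1 ?_
    rw [← map_commutatorElement]
    exact (hπ _).2 (comm_mem_layer hcF trivial)
  have h := mul_pow_class_two (π a) (π c) (hcc _) (hcc _) p
  obtain ⟨s, hs⟩ := (Fact.out : p.Prime).dvd_choose_self two_ne_zero (by omega : 2 < p)
  rw [hs, pow_mul, show (π c * π a * (π c)⁻¹ * (π a)⁻¹) ^ p = 1 by
      rw [← map_inv, ← map_inv, ← map_mul, ← map_mul, ← map_mul, ← map_pow]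
      exact (hπ _).2 (pow_mem_layer hcF), one_pow, mul_one, ← map_mul, ← map_pow, ← map_pow, ← map_pow,
    ← map_mul, QuotientGroup.mk'_eq_mk'] at h
  obtain ⟨m, hm, he⟩ := h
  refine (C.cW.eq_iff (PGroups.pow_mem_frattini hG _) (mul_mem (PGroups.pow_mem_frattini hG a)
    (PGroups.pow_mem_frattini hG c))).2 ?_
  rw [← he, inv_mul_cancel_left]
  exact hm

theorem pw_pow (hp : 3 ≤ p) (a : G) (n : ℕ) : pw p C (a ^ n) = (n : ZMod p) • pw p C a := by
  induction n with
  | zero => simp [pw, C.cW.map_one]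
  | succ n ih => rw [pow_succ, pw_mul C hG hp, ih, Nat.cast_succ, add_smul, one_smul]

theorem pw_zero {f : G} (hf : f ∈ frattini G) : pw p C f = 0 :=
  (C.cW.mem _ (PGroups.pow_mem_frattini hG f)).2 (pow_mem_layer hf)

theorem pw_map (α : MulAut G) (a : G) : (C.σ α).1 (pw p C a) = pw p C (α a) := by
  rw [pw, C.sigma α _ (PGroups.pow_mem_frattini hG a), map_pow]; rfl

end Forms

/-- The coordinate vector of `e`. -/
def E0 (C : TCoord D U W) : U := C.cU.v D.e

/-- The coordinate vector of `x`. -/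
def X0 (C : TCoord D U W) : U := C.cU.v D.x

/-- The coordinate vector of `w`. -/
def W0 (C : TCoord D U W) : U := C.cU.v D.w

/-- `z = [e, x]` in the second layer. -/
def Z (C : TCoord D U W) : W := C.b D.e D.x

/-- `[e, w]` in the second layer. -/
def F (C : TCoord D U W) : W := C.b D.e D.w

variable (C : TCoord D U W)

theorem spanU (v : U) : ∃ i j k : ZMod p, v = i • C.E0 + j • C.X0 + k • C.W0 := by
  obtain ⟨n, -, rfl⟩ := C.cU.surj v
  obtain ⟨i, j, k, h⟩ := D.gen n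
  refine ⟨i, j, k, ?_⟩
  rw [← (C.cU.eq_iff (x := D.e ^ i * D.x ^ j * D.w ^ k) trivial trivial).2 h, C.cU.map_mul _ trivial _ trivial,
    C.cU.map_mul _ trivial _ trivial, C.cU.map_pow trivial, C.cU.map_pow trivial, C.cU.map_pow trivial]
  rfl

theorem indepU : Units.Indep p C.E0 C.X0 C.W0 := by
  intro i j k h
  have h1 : D.e ^ i.val * D.x ^ j.val * D.w ^ k.val ∈ frattini G := by
    rw [← C.cU.mem _ trivial, C.cU.map_mul _ trivial _ trivial, C.cU.map_mul _ trivial _ trivial,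
      C.cU.map_pow trivial, C.cU.map_pow trivial, C.cU.map_pow trivial, ZMod.natCast_zmod_val,
      ZMod.natCast_zmod_val, ZMod.natCast_zmod_val]
    exact h
  obtain ⟨h2, h3, h4⟩ := D.indep _ _ _ h1
  refine ⟨?_, ?_, ?_⟩
  · rw [← ZMod.natCast_zmod_val i]; exact (ZMod.natCast_eq_zero_iff _ _).2 h2
  · rw [← ZMod.natCast_zmod_val j]; exact (ZMod.natCast_eq_zero_iff _ _).2 h3
  · rw [← ZMod.natCast_zmod_val k]; exact (ZMod.natCast_eq_zero_iff _ _).2 h4

theorem card_U (C : TCoord D U W) : Nat.card U = p ^ 3 := by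
  have hb : Function.Bijective (fun s : ZMod p × ZMod p × ZMod p => s.1 • C.E0 + s.2.1 • C.X0 + s.2.2 • C.W0) := by
    refine ⟨?_, fun v => by obtain ⟨i, j, k, h⟩ := C.spanU v; exact ⟨(i, j, k), h.symm⟩⟩
    rintro ⟨a, b, c⟩ ⟨a', b', c'⟩ he
    obtain ⟨h1, h2, h3⟩ := C.indepU (a - a') (b - b') (c - c') (by
      simp only at he
      linear_combination (norm := module) he)
    rw [sub_eq_zero] at h1 h2 h3
    rw [h1, h2, h3]
  rw [← Nat.card_congr (Equiv.ofBijective _ hb), Nat.card_prod, Nat.card_prod, Nat.card_zmod]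
  ring

theorem exists_decomp (C : TCoord D U W) (n : G) : ∃ i j k : ℕ, ∃ f ∈ frattini G, n = D.e ^ i * D.x ^ j * D.w ^ k * f := by
  obtain ⟨i, j, k, h⟩ := D.gen n
  exact ⟨i, j, k, _, h, (mul_inv_cancel_left _ n).symm⟩

theorem mem_E_iff (hp : 3 ≤ p) (n : G) :
    n ∈ E ↔ ∃ i k : ZMod p, C.cU.v n = i • C.E0 + k • C.W0 := by
  constructor
  · intro hn
    obtain ⟨i, j, k, f, hf, rfl⟩ := C.exists_decomp n
    have hxj : D.x ^ j ∈ E := by
      have h1 := E.mul_mem (E.mul_mem (E.mul_mem (E.inv_mem (E.pow_mem D.eE i)) hn) (E.inv_mem (D.frE hf)))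
        (E.inv_mem (E.pow_mem D.wE k))
      rwa [show (D.e ^ i)⁻¹ * (D.e ^ i * D.x ^ j * D.w ^ k * f) * f⁻¹ * (D.w ^ k)⁻¹ = D.x ^ j by group] at h1
    have hj : p ∣ j := by
      by_contra hj
      obtain ⟨a, b, hab⟩ := Int.isCoprime_iff_gcd_eq_one.2 (show Int.gcd j p = 1 by
        exact_mod_cast ((Fact.out : p.Prime).coprime_iff_not_dvd.2 hj).symm)
      refine D.xE ?_
      have h1 := E.mul_mem (E.zpow_mem hxj a) (E.zpow_mem (D.frE (D.phiFr D.xp)) b)
      rwa [← zpow_natCast, ← zpow_natCast D.x p, ← zpow_mul, ← zpow_mul, ← zpow_add, mul_comm (j : ℤ), mul_comm (p : ℤ),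
        hab, zpow_one] at h1
    refine ⟨i, k, ?_⟩
    rw [C.cU.map_mul _ trivial _ trivial, C.cU.map_mul _ trivial _ trivial, C.cU.map_mul _ trivial _ trivial,
      C.cU.map_pow trivial, C.cU.map_pow trivial, C.cU.map_pow trivial, (C.cU.mem f trivial).2 hf, add_zero,
      (ZMod.natCast_eq_zero_iff j p).2 hj, zero_smul, add_zero]
    rfl
  · rintro ⟨i, k, h⟩
    have h1 : (D.e ^ i.val * D.w ^ k.val)⁻¹ * n ∈ frattini G := by
      refine (C.cU.eq_iff trivial trivial).1 ?_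
      rw [C.cU.map_mul _ trivial _ trivial, C.cU.map_pow trivial, C.cU.map_pow trivial, ZMod.natCast_zmod_val,
        ZMod.natCast_zmod_val, h]
      rfl
    have := E.mul_mem (E.mul_mem (E.pow_mem D.eE i.val) (E.pow_mem D.wE k.val)) (D.frE h1)
    rwa [mul_inv_cancel_left] at this

theorem gamma_E0 : (C.ρ γ).1 C.E0 = t⁻¹ • C.E0 := by
  rw [E0, C.rho, ← (C.cU.eq_iff trivial trivial).2 D.γe, C.cU.map_pow trivial, ZMod.natCast_zmod_val]

theorem gamma_X0 : (C.ρ γ).1 C.X0 = t ^ 2 • C.X0 := by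
  rw [X0, C.rho, ← (C.cU.eq_iff trivial trivial).2 D.γx, C.cU.map_pow trivial, ZMod.natCast_zmod_val]

theorem gamma_W0 : (C.ρ γ).1 C.W0 = C.W0 := by
  rw [W0, C.rho, ← (C.cU.eq_iff trivial trivial).2 D.γw]

section Weights

variable (hG : IsPGroup p G) (hp : 3 ≤ p)
include hG hp

/-- The bilinear expansion of the form. -/
theorem b_of_coords {m n : G} {i j k i' j' k' : ZMod p} (hm : C.cU.v m = i • C.E0 + j • C.X0 + k • C.W0)
    (hn : C.cU.v n = i' • C.E0 + j' • C.X0 + k' • C.W0) :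
    C.b m n = (i * j' - j * i') • C.Z + (i * k' - k * i') • C.F + (j * k' - k * j') • C.b D.x D.w := by
  have hrep : ∀ (m : G) (i j k : ZMod p), C.cU.v m = i • C.E0 + j • C.X0 + k • C.W0 →
      ∃ f ∈ frattini G, m = D.e ^ i.val * D.x ^ j.val * D.w ^ k.val * f := fun m i j k h =>
    ⟨_, (C.cU.eq_iff trivial trivial).1 (by
      rw [C.cU.map_mul _ trivial _ trivial, C.cU.map_mul _ trivial _ trivial, C.cU.map_pow trivial,
        C.cU.map_pow trivial, C.cU.map_pow trivial, ZMod.natCast_zmod_val, ZMod.natCast_zmod_val,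
        ZMod.natCast_zmod_val, h]
      rfl), (mul_inv_cancel_left _ m).symm⟩
  obtain ⟨f, hf, rfl⟩ := hrep m i j k hm
  obtain ⟨f', hf', rfl⟩ := hrep n i' j' k' hn
  have hz : ∀ a, C.b a f' = 0 := fun a => by rw [b_swap C hG f' a, b_zero_left C hG hf', neg_zero]
  simp only [b_left C hG, b_right C hG, b_pow_left C hG, b_pow_right C hG, b_zero_left C hG hf, hz, b_self C hG,
    b_swap C hG D.e D.x, b_swap C hG D.e D.w, b_swap C hG D.x D.w, ZMod.natCast_zmod_val, Z, F]
  module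

theorem pw_of_coords {m : G} {i j k : ZMod p} (hm : C.cU.v m = i • C.E0 + j • C.X0 + k • C.W0) :
    pw p C m = i • pw p C D.e + j • pw p C D.x + k • pw p C D.w := by
  have hf : (D.e ^ i.val * D.x ^ j.val * D.w ^ k.val)⁻¹ * m ∈ frattini G := (C.cU.eq_iff trivial trivial).1 (by
    rw [C.cU.map_mul _ trivial _ trivial, C.cU.map_mul _ trivial _ trivial, C.cU.map_pow trivial,
      C.cU.map_pow trivial, C.cU.map_pow trivial, ZMod.natCast_zmod_val, ZMod.natCast_zmod_val,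
      ZMod.natCast_zmod_val, hm]
    rfl)
  conv_lhs => rw [← mul_inv_cancel_left (D.e ^ i.val * D.x ^ j.val * D.w ^ k.val) m]
  rw [pw_mul C hG hp, pw_mul C hG hp, pw_mul C hG hp, pw_zero C hG hf, add_zero, pw_pow C hG hp, pw_pow C hG hp,
    pw_pow C hG hp, ZMod.natCast_zmod_val, ZMod.natCast_zmod_val, ZMod.natCast_zmod_val]

/-- The image of `Φ(E)` in the second layer. -/
theorem phiE_span {y : G} (hy : y ∈ phi E) :
    ∃ i j k : ZMod p, C.cW.v y = i • C.F + j • pw p C D.e + k • pw p C D.w := by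
  let R : Subgroup G :=
    { carrier := {y | y ∈ frattini G ∧ ∃ i j k : ZMod p, C.cW.v y = i • C.F + j • pw p C D.e + k • pw p C D.w}
      one_mem' := ⟨one_mem _, 0, 0, 0, by rw [C.cW.map_one]; simp⟩
      mul_mem' := by
        rintro y y' ⟨hy, i, j, k, h⟩ ⟨hy', i', j', k', h'⟩
        exact ⟨mul_mem hy hy', i + i', j + j', k + k', by rw [C.cW.map_mul _ hy _ hy', h, h']; module⟩
      inv_mem' := by
        rintro y ⟨hy, i, j, k, h⟩
        exact ⟨inv_mem hy, -i, -j, -k, by rw [C.cW.map_inv hy, h]; module⟩ }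
  refine ((phi_le_of (R := R) (hG.to_subgroup E) ?_ ?_ ?_) hy).2
  · rintro g - r ⟨hr, i, j, k, h⟩ -
    refine ⟨frattini_normal_mem g hr, i, j, k, ?_⟩
    rw [← h]
    refine ((C.cW.eq_iff hr (frattini_normal_mem g hr)).2 ?_).symm
    have := comm_mem_layer (p := p) (E := (⊤ : Subgroup G)) (inv_mem hr) (e := g) trivial
    rwa [inv_inv, show r⁻¹ * g * r * g⁻¹ = r⁻¹ * (g * r * g⁻¹) by group] at this
  · intro a ha
    obtain ⟨i, k, h⟩ := (C.mem_E_iff hp a).1 ha
    refine ⟨PGroups.pow_mem_frattini hG a, 0, i, k, ?_⟩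
    show pw p C a = _
    rw [C.pw_of_coords hG hp (i := i) (j := 0) (k := k) (by rw [h, zero_smul, add_zero]), zero_smul, zero_smul, add_zero, zero_add]
  · intro a ha c hc
    obtain ⟨i, k, h⟩ := (C.mem_E_iff hp a⁻¹).1 (E.inv_mem ha)
    obtain ⟨i', k', h'⟩ := (C.mem_E_iff hp c).1 hc
    refine ⟨PGroups.commutatorElement_mem_frattini hG a c, i * k' - k * i', 0, 0, ?_⟩
    have h2 : C.b a⁻¹ c = C.cW.v (a * c * a⁻¹ * c⁻¹) := by rw [b, form, inv_inv]
    rw [← h2, C.b_of_coords hG hp (i := i) (j := 0) (k := k) (i' := i') (j' := 0) (k' := k') (by rw [h, zero_smul, add_zero]) (by rw [h', zero_smul, add_zero])]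
    module

theorem gamma_F : (C.σ γ).1 C.F = t⁻¹ • C.F := by
  rw [F, b_map C hG, C.b_of_coords hG hp (i := t⁻¹) (j := 0) (k := 0) (i' := 0) (j' := 0) (k' := 1)
    (by rw [← C.rho]; show (C.ρ γ).1 C.E0 = _; rw [C.gamma_E0]; simp)
    (by rw [← C.rho]; show (C.ρ γ).1 C.W0 = _; rw [C.gamma_W0]; simp)]
  simp [F]

theorem gamma_pe : (C.σ γ).1 (pw p C D.e) = t⁻¹ • pw p C D.e := by
  rw [pw_map C hG, C.pw_of_coords hG hp (i := t⁻¹) (j := 0) (k := 0)
    (by rw [← C.rho]; show (C.ρ γ).1 C.E0 = _; rw [C.gamma_E0]; simp)]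
  simp

theorem gamma_pw : (C.σ γ).1 (pw p C D.w) = pw p C D.w := by
  rw [pw_map C hG, C.pw_of_coords hG hp (i := 0) (j := 0) (k := 1)
    (by rw [← C.rho]; show (C.ρ γ).1 C.W0 = _; rw [C.gamma_W0]; simp)]
  simp

theorem gamma_Z (ht : t ≠ 0) : (C.σ γ).1 C.Z = t • C.Z := by
  rw [Z, b_map C hG, C.b_of_coords hG hp (i := t⁻¹) (j := 0) (k := 0) (i' := 0) (j' := t ^ 2) (k' := 0)
    (by rw [← C.rho]; show (C.ρ γ).1 C.E0 = _; rw [C.gamma_E0]; simp)
    (by rw [← C.rho]; show (C.ρ γ).1 C.X0 = _; rw [C.gamma_X0]; simp)]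
  simp only [mul_zero, zero_mul, sub_zero, zero_smul, add_zero, Z]
  congr 1
  field_simp

/-- A weight other than `-1` and `0` does not occur on the image of `Φ(E)`. -/
theorem eq_zero_of_weight {v : W} {i j k : ZMod p} (hv : v = i • C.F + j • pw p C D.e + k • pw p C D.w)
    {s : ZMod p} (hs : (C.σ γ).1 v = s • v) (h1 : s ≠ t⁻¹) (h0 : s ≠ 1) : v = 0 := by
  have hγv : (C.σ γ).1 v = t⁻¹ • v + (1 - t⁻¹) • (k • pw p C D.w) := by
    rw [hv]
    simp only [map_add, map_smul, C.gamma_F hG hp, C.gamma_pe hG hp, C.gamma_pw hG hp]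
    module
  have h2 : (1 - t⁻¹) • (k • pw p C D.w) = (s - t⁻¹) • v := by
    rw [hs] at hγv
    rw [sub_smul s, hγv, add_sub_cancel_left]
  have h3 : ((s - t⁻¹) * (s - 1)) • v = 0 := by
    have h4 := congrArg (C.σ γ).1 h2
    simp only [map_smul, C.gamma_pw hG hp, hs] at h4
    rw [h2, smul_smul] at h4
    rw [mul_sub, mul_one, sub_smul, ← h4, sub_self]
  exact (smul_eq_zero.1 h3).resolve_left (mul_ne_zero (sub_ne_zero.2 h1) (sub_ne_zero.2 h0))

theorem xw_zero (h1 : t ^ 2 ≠ t⁻¹) (h0 : t ^ 2 ≠ 1) : C.b D.x D.w = 0 := by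
  obtain ⟨i, j, k, h⟩ := C.phiE_span hG hp D.xw
  refine C.eq_zero_of_weight hG hp (v := C.b D.x D.w) h (s := t ^ 2) ?_ h1 h0
  rw [b_map C hG, C.b_of_coords hG hp (i := 0) (j := t ^ 2) (k := 0) (i' := 0) (j' := 0) (k' := 1)
    (by rw [← C.rho]; show (C.ρ γ).1 C.X0 = _; rw [C.gamma_X0]; simp)
    (by rw [← C.rho]; show (C.ρ γ).1 C.W0 = _; rw [C.gamma_W0]; simp)]
  simp

theorem px_zero (h1 : t ^ 2 ≠ t⁻¹) (h0 : t ^ 2 ≠ 1) : pw p C D.x = 0 := by
  obtain ⟨i, j, k, h⟩ := C.phiE_span hG hp D.xp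
  refine C.eq_zero_of_weight hG hp (v := pw p C D.x) h (s := t ^ 2) ?_ h1 h0
  rw [pw_map C hG, C.pw_of_coords hG hp (i := 0) (j := t ^ 2) (k := 0)
    (by rw [← C.rho]; show (C.ρ γ).1 C.X0 = _; rw [C.gamma_X0]; simp)]
  simp

/-- `z` is independent of the image of `Φ(E)`. -/
theorem z_coeff {a : ZMod p} {y : G} (hy : y ∈ phi E) (h : C.cW.v y = a • C.Z) : a = 0 := by
  by_contra ha
  set z := D.e⁻¹ * D.x * D.e * D.x⁻¹ with hz
  have hzF : z ∈ frattini G := comm_mem hG D.e D.x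
  have h1 : (y ^ a⁻¹.val)⁻¹ * z ∈ psi p G := by
    refine (C.cW.eq_iff (pow_mem (D.phiFr hy) _) hzF).1 ?_
    rw [C.cW.map_pow (D.phiFr hy), h, ZMod.natCast_zmod_val, smul_smul, inv_mul_cancel₀ ha, one_smul]
    rfl
  refine D.znot ?_
  have := mul_mem (pow_mem hy a⁻¹.val) (D.psiE h1)
  rwa [mul_inv_cancel_left] at this

/-- `e`, `w` generate `E` modulo `Φ(G)`, so `Φ(E)` holds their form and powers. -/
theorem z_indep {a i j k : ZMod p} (h : a • C.Z + i • C.F + j • pw p C D.e + k • pw p C D.w = 0) : a = 0 := by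
  have he := hG.to_subgroup E
  have m1 : D.e⁻¹ * D.w * D.e * D.w⁻¹ ∈ phi E := by
    simpa using comm_mem_phi he (E.inv_mem D.eE) D.wE
  have m2 : D.e ^ p ∈ phi E := pow_mem_phi he D.eE
  have m3 : D.w ^ p ∈ phi E := pow_mem_phi he D.wE
  have n1 := pow_mem (D.phiFr m1) (-i).val
  have n2 := pow_mem (D.phiFr m2) (-j).val
  have n3 := pow_mem (D.phiFr m3) (-k).val
  refine C.z_coeff hG hp (y := (D.e⁻¹ * D.w * D.e * D.w⁻¹) ^ (-i).val * (D.e ^ p) ^ (-j).val *
    (D.w ^ p) ^ (-k).val) (mul_mem (mul_mem (pow_mem m1 _) (pow_mem m2 _)) (pow_mem m3 _)) ?_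
  rw [C.cW.map_mul _ (mul_mem n1 n2) _ n3, C.cW.map_mul _ n1 _ n2, C.cW.map_pow (D.phiFr m1),
    C.cW.map_pow (D.phiFr m2), C.cW.map_pow (D.phiFr m3), ZMod.natCast_zmod_val, ZMod.natCast_zmod_val,
    ZMod.natCast_zmod_val]
  show (-i) • C.F + (-j) • pw p C D.e + (-k) • pw p C D.w = a • C.Z
  linear_combination (norm := module) -h

theorem Z_ne_zero : C.Z ≠ 0 := fun h =>
  one_ne_zero (C.z_indep hG hp (a := 1) (i := 0) (j := 0) (k := 0) (by simp [h]))

end Weights

end TCoord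

end Cfsg.Agent.Lib.EssentialRankThree
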