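import Mathlib

/-!
# Unipotent linear maps in dimension three over `ZMod p`

Units of the endomorphism ring of a space of order `p ^ 3`: elements of `p`-power order, flag stabilisers,
transvections, and the products of two transvections that give the torus of an `SL₂`.
-/

set_option autoImplicit false
set_option linter.unusedSectionVars false

namespace Cfsg.Agent.Lib.EssentialRankThree.Units

variable {p : ℕ} [Fact p.Prime] {V : Type*} [AddCommGroup V] [Module (ZMod p) V] [Finite V]

/-- Linear units. -/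
abbrev GV (p : ℕ) [Fact p.Prime] (V : Type*) [AddCommGroup V] [Module (ZMod p) V] :=
  (Module.End (ZMod p) V)ˣ

instance : Finite (Module.End (ZMod p) V) := Finite.of_injective _ DFunLike.coe_injective

theorem mul_apply (g h : GV p V) (x : V) : (g * h).1 x = g.1 (h.1 x) := rfl

theorem inv_apply_self (g : GV p V) (x : V) : (g⁻¹).1 (g.1 x) = x := by
  rw [← mul_apply, inv_mul_cancel]; rfl

theorem apply_inv_self (g : GV p V) (x : V) : g.1 ((g⁻¹).1 x) = x := by
  rw [← mul_apply, mul_inv_cancel]; rfl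

theorem apply_inj (g : GV p V) {x y : V} (h : g.1 x = g.1 y) : x = y := by
  rw [← inv_apply_self g x, h, inv_apply_self]

theorem ext_apply {g h : GV p V} (H : ∀ x, g.1 x = h.1 x) : g = h := Units.ext (LinearMap.ext H)

/-- `g - 1`. -/
def dd (g : GV p V) : Module.End (ZMod p) V := g.1 - 1

theorem dd_apply (g : GV p V) (x : V) : dd g x = g.1 x - x := rfl

theorem apply_eq (g : GV p V) (x : V) : g.1 x = x + dd g x := by rw [dd_apply]; abel

theorem dd_comm {g h : GV p V} (hgh : Commute g h) (x : V) : g.1 (dd h x) = dd h (g.1 x) := by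
  rw [dd_apply, dd_apply, map_sub, ← mul_apply, ← mul_apply, hgh.eq]

/-- Powers of an element with `(g - 1) ^ 3 = 0`. -/
theorem pow_apply (g : GV p V) (h3 : ∀ x, dd g (dd g (dd g x)) = 0) (n : ℕ) (x : V) :
    (g ^ n).1 x = x + (n : ZMod p) • dd g x + (n.choose 2 : ZMod p) • dd g (dd g x) := by
  induction n generalizing x with
  | zero => simp
  | succ n ih =>
    rw [pow_succ, mul_apply, ih, apply_eq g x, map_add, map_add, h3, add_zero, smul_add, Nat.choose_succ_succ,
      Nat.choose_one_right]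
    push_cast
    module

theorem pow_apply_of_sq (g : GV p V) (h2 : ∀ x, dd g (dd g x) = 0) (n : ℕ) (x : V) :
    (g ^ n).1 x = x + (n : ZMod p) • dd g x := by
  rw [pow_apply g (fun x => h2 _), h2, smul_zero, add_zero]

theorem pow_p_of_cube (hp : 3 ≤ p) (g : GV p V) (h3 : ∀ x, dd g (dd g (dd g x)) = 0) : g ^ p = 1 := by
  refine ext_apply fun x => ?_
  rw [pow_apply g h3, ZMod.natCast_self, zero_smul, add_zero,
    show ((p.choose 2 : ℕ) : ZMod p) = 0 from (ZMod.natCast_eq_zero_iff _ _).2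
      ((Fact.out : p.Prime).dvd_choose_self two_ne_zero (by omega)), zero_smul, add_zero]
  rfl

theorem finrank_eq (hc : Nat.card V = p ^ 3) : Module.finrank (ZMod p) V = 3 := by
  have h := Module.natCard_eq_pow_finrank (K := ZMod p) (V := V)
  rw [Nat.card_zmod, hc] at h
  exact Nat.pow_right_injective (Fact.out : p.Prime).two_le h.symm

/-- An element of `p`-power order is unipotent. -/
theorem dd_cube (hc : Nat.card V = p ^ 3) {g : GV p V} {k : ℕ} (hg : g ^ p ^ k = 1) (x : V) :
    dd g (dd g (dd g x)) = 0 := by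
  obtain ⟨r, hr⟩ := (Commute.one_right (dd g)).symm.exists_add_pow_prime_pow_eq (Fact.out : p.Prime) k
  have hp0 : ((p : ℕ) : Module.End (ZMod p) V) = 0 := LinearMap.ext fun y => by
    show ((p : ℕ) : Module.End (ZMod p) V) y = 0
    rw [Module.End.natCast_apply, ← Nat.cast_smul_eq_nsmul (ZMod p), ZMod.natCast_self, zero_smul]
  have hge : (1 : Module.End (ZMod p) V) + dd g = g.1 := by rw [dd]; abel
  rw [one_pow, hge, ← Units.val_pow_eq_pow_val, hg, hp0, zero_mul, zero_mul, zero_mul, add_zero,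
    Units.val_one, left_eq_add] at hr
  have h1 : x ∈ LinearMap.ker ((dd g) ^ max (p ^ k) 3) := by
    rw [LinearMap.mem_ker, pow_eq_zero_of_le (le_max_left _ _) hr, LinearMap.zero_apply]
  haveI : FiniteDimensional (ZMod p) V := Module.Finite.of_finite
  rw [Module.End.ker_pow_eq_ker_pow_finrank_of_le (by rw [finrank_eq hc]; exact le_max_right _ _),
    finrank_eq hc, LinearMap.mem_ker] at h1
  simpa [pow_succ, Module.End.mul_apply] using h1

theorem dd_cube_of_pGroup (hc : Nat.card V = p ^ 3) {Q : Subgroup (GV p V)} (hQ : IsPGroup p Q) {g : GV p V}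
    (hg : g ∈ Q) (x : V) : dd g (dd g (dd g x)) = 0 := by
  obtain ⟨k, hk⟩ := hQ ⟨g, hg⟩
  exact dd_cube hc (congrArg Subtype.val hk) x

/-! ### Bases -/

/-- Three vectors are independent. -/
def Indep (p : ℕ) [Fact p.Prime] {V : Type*} [AddCommGroup V] [Module (ZMod p) V] (a b c : V) : Prop :=
  ∀ α β γ : ZMod p, α • a + β • b + γ • c = 0 → α = 0 ∧ β = 0 ∧ γ = 0

theorem Indep.span (hc : Nat.card V = p ^ 3) {a b c : V} (h : Indep p a b c) (v : V) :
    ∃ α β γ : ZMod p, v = α • a + β • b + γ • c := by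
  let f : ZMod p × ZMod p × ZMod p → V := fun t => t.1 • a + t.2.1 • b + t.2.2 • c
  have hinj : Function.Injective f := by
    rintro ⟨x, y, z⟩ ⟨x', y', z'⟩ he
    obtain ⟨h1, h2, h3⟩ := h (x - x') (y - y') (z - z') (by
      simp only [f] at he
      linear_combination (norm := module) he)
    rw [sub_eq_zero] at h1 h2 h3
    rw [h1, h2, h3]
  obtain ⟨⟨α, β, γ⟩, he⟩ := (hinj.bijective_of_nat_card_le (by
    rw [hc, Nat.card_prod, Nat.card_prod, Nat.card_zmod]; exact le_of_eq (by ring))).2 v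
  exact ⟨α, β, γ, he.symm⟩

/-- A single Jordan block gives a basis. -/
theorem indep_jordan (g : GV p V) (h3 : ∀ x, dd g (dd g (dd g x)) = 0) {a : V} (ha : dd g (dd g a) ≠ 0) :
    Indep p a (dd g a) (dd g (dd g a)) := by
  intro α β γ h
  have h2 := congrArg (fun v => dd g (dd g v)) h
  simp only [map_add, map_smul, map_zero, h3, smul_zero, add_zero] at h2
  obtain rfl := (smul_eq_zero.1 h2).resolve_right ha
  rw [zero_smul, zero_add] at h
  have h1 := congrArg (dd g) h
  simp only [map_add, map_smul, map_zero, h3, smul_zero, add_zero] at h1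
  obtain rfl := (smul_eq_zero.1 h1).resolve_right ha
  rw [zero_smul, zero_add] at h
  exact ⟨rfl, rfl, (smul_eq_zero.1 h).resolve_right ha⟩

/-- A nontrivial element with `(g - 1) ^ 2 = 0` is a transvection. -/
theorem exists_transvection (hc : Nat.card V = p ^ 3) (g : GV p V) (h2 : ∀ x, dd g (dd g x) = 0) (h1 : g ≠ 1) :
    ∃ (φ : V →ₗ[ZMod p] ZMod p) (c : V), c ≠ 0 ∧ φ c = 0 ∧ (∃ v, φ v = 1) ∧ ∀ v, g.1 v = v + φ v • c := by
  obtain ⟨v, hv⟩ : ∃ v, dd g v ≠ 0 := by
    by_contra h
    push Not at h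
    exact h1 (ext_apply fun x => by rw [apply_eq, h, add_zero]; rfl)
  have hline : ∀ u, ∃ a : ZMod p, dd g u = a • dd g v := by
    intro u
    by_contra hu
    push Not at hu
    have hind : Indep p v (dd g v) (dd g u) := by
      intro α β γ h
      have h' := congrArg (dd g) h
      simp only [map_add, map_smul, map_zero, h2, smul_zero, add_zero] at h'
      obtain rfl := (smul_eq_zero.1 h').resolve_right hv
      rw [zero_smul, zero_add] at h
      by_cases hγ : γ = 0
      · subst hγ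
        rw [zero_smul, add_zero] at h
        exact ⟨rfl, (smul_eq_zero.1 h).resolve_right hv, rfl⟩
      · exfalso
        refine hu (-β / γ) ?_
        rw [add_eq_zero_iff_eq_neg'] at h
        rw [div_eq_inv_mul, mul_smul, neg_smul, ← h, smul_smul, inv_mul_cancel₀ hγ, one_smul]
    obtain ⟨α, β, γ, hu'⟩ := hind.span hc u
    have h' := congrArg (dd g) hu'
    simp only [map_add, map_smul, h2, smul_zero, add_zero] at h'
    exact hu α h'
  obtain ⟨f, hf⟩ := LinearMap.exists_leftInverse_of_injective (LinearMap.toSpanSingleton (ZMod p) V (dd g v))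
    (LinearMap.ker_toSpanSingleton (R := ZMod p) hv)
  have hfv : f (dd g v) = 1 := by simpa using LinearMap.congr_fun hf 1
  refine ⟨f.comp (dd g), dd g v, hv, by simp [h2], ⟨v, hfv⟩, fun u => ?_⟩
  obtain ⟨a, ha⟩ := hline u
  rw [LinearMap.comp_apply, ha, map_smul, hfv, smul_eq_mul, mul_one, ← ha]
  exact apply_eq g u

/-! ### Flag stabilisers -/

/-- The elements acting trivially on the layers of `⊥ ≤ A ≤ B ≤ ⊤`. -/
def flag (hp : 3 ≤ p) (A B : Submodule (ZMod p) V) : Subgroup (GV p V) :=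
  let M : Submonoid (GV p V) :=
    { carrier := {g | (∀ v, dd g v ∈ B) ∧ (∀ b ∈ B, dd g b ∈ A) ∧ ∀ a ∈ A, dd g a = 0}
      one_mem' := by simp [dd]
      mul_mem' := fun {g h} hg hh => by
        have e : ∀ v, dd (g * h) v = dd g v + dd h v + dd g (dd h v) := fun v => by
          simp only [dd_apply, mul_apply, map_sub]; abel
        refine ⟨fun v => ?_, fun b hb => ?_, fun a ha => ?_⟩
        · rw [e]; exact add_mem (add_mem (hg.1 v) (hh.1 v)) (hg.1 _)
        · rw [e, hg.2.2 _ (hh.2.1 b hb), add_zero]; exact add_mem (hg.2.1 b hb) (hh.2.1 b hb)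
        · rw [e, hh.2.2 a ha, hg.2.2 a ha, map_zero, add_zero, add_zero] }
  { M with
    inv_mem' := fun {g} hg => by
      have h : g⁻¹ = g ^ (p - 1) := inv_eq_of_mul_eq_one_right (by
        rw [← pow_succ', show p - 1 + 1 = p by omega]
        exact pow_p_of_cube hp g fun x => hg.2.2 _ (hg.2.1 _ (hg.1 x)))
      exact h.symm ▸ M.pow_mem hg (p - 1) }

theorem mem_flag {hp : 3 ≤ p} {A B : Submodule (ZMod p) V} {g : GV p V} :
    g ∈ flag hp A B ↔ (∀ v, dd g v ∈ B) ∧ (∀ b ∈ B, dd g b ∈ A) ∧ ∀ a ∈ A, dd g a = 0 := Iff.rfl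

theorem flag_pGroup (hp : 3 ≤ p) (A B : Submodule (ZMod p) V) : IsPGroup p (flag hp A B) := fun g =>
  ⟨1, Subtype.ext (by
    rw [pow_one, Subgroup.coe_pow, Subgroup.coe_one]
    exact pow_p_of_cube hp g.1 fun x => (mem_flag.1 g.2).2.2 _ ((mem_flag.1 g.2).2.1 _ ((mem_flag.1 g.2).1 x)))⟩

theorem conj_mem_flag (hp : 3 ≤ p) {A B : Submodule (ZMod p) V} {g r : GV p V}
    (hA : ∀ a ∈ A, r.1 a ∈ A) (hA' : ∀ a ∈ A, r⁻¹.1 a ∈ A) (hB : ∀ b ∈ B, r.1 b ∈ B)
    (hB' : ∀ b ∈ B, r⁻¹.1 b ∈ B) (hg : g ∈ flag hp A B) : r * g * r⁻¹ ∈ flag hp A B := by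
  have e : ∀ v, dd (r * g * r⁻¹) v = r.1 (dd g (r⁻¹.1 v)) := fun v => by
    simp only [dd_apply, mul_apply, map_sub, apply_inv_self]
  refine mem_flag.2 ⟨fun v => ?_, fun b hb => ?_, fun a ha => ?_⟩
  · rw [e]; exact hB _ (hg.1 _)
  · rw [e]; exact hA _ (hg.2.1 _ (hB' b hb))
  · rw [e, hg.2.2 _ (hA' a ha), map_zero]

/-- Invariance under a subgroup passes to inverses. -/
theorem mem_of_inv {X : Subgroup (GV p V)} {U : Submodule (ZMod p) V} (h : ∀ g ∈ X, ∀ v ∈ U, g.1 v ∈ U)
    {g : GV p V} (hg : g ∈ X) : ∀ v ∈ U, g⁻¹.1 v ∈ U := h _ (inv_mem hg)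

/-! ### Pairs of transvections on a plane -/

/-- `g` acts on the images of `e`, `z` modulo `U` by the matrix `(a b; c d)`. -/
def Has (U : Submodule (ZMod p) V) (e z : V) (g : GV p V) (a b c d : ZMod p) : Prop :=
  (∀ x ∈ U, g.1 x ∈ U) ∧ g.1 e - (a • e + c • z) ∈ U ∧ g.1 z - (b • e + d • z) ∈ U

variable {U : Submodule (ZMod p) V} {e z : V}

theorem Has.mul {g h : GV p V} {a b c d a' b' c' d' : ZMod p} (hg : Has U e z g a b c d)
    (hh : Has U e z h a' b' c' d') :
    Has U e z (g * h) (a * a' + b * c') (a * b' + b * d') (c * a' + d * c') (c * b' + d * d') := by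
  refine ⟨fun x hx => hg.1 _ (hh.1 x hx), ?_, ?_⟩
  · have h1 := hg.1 _ hh.2.1
    rw [map_sub, map_add, map_smul, map_smul, ← mul_apply] at h1
    have h2 := add_mem h1 (add_mem (U.smul_mem a' hg.2.1) (U.smul_mem c' hg.2.2))
    convert h2 using 1
    module
  · have h1 := hg.1 _ hh.2.2
    rw [map_sub, map_add, map_smul, map_smul, ← mul_apply] at h1
    have h2 := add_mem h1 (add_mem (U.smul_mem b' hg.2.1) (U.smul_mem d' hg.2.2))
    convert h2 using 1
    module

theorem Has.one : Has U e z (1 : GV p V) 1 0 0 1 :=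
  ⟨fun _ h => h, by simp, by simp⟩

theorem Has.pow_lower {g : GV p V} (hg : Has U e z g 1 0 1 1) (n : ℕ) :
    Has U e z (g ^ n) 1 0 (n : ZMod p) 1 := by
  induction n with
  | zero => simpa using Has.one
  | succ n ih =>
    rw [pow_succ]
    convert ih.mul hg using 1 <;> simp

theorem Has.pow_upper {g : GV p V} {b : ZMod p} (hg : Has U e z g 1 b 0 1) (n : ℕ) :
    Has U e z (g ^ n) 1 ((n : ZMod p) * b) 0 1 := by
  induction n with
  | zero => simpa using Has.one
  | succ n ih =>
    rw [pow_succ]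
    convert ih.mul hg using 1 <;> simp; ring

/-- The monomial element of a pair of transvections. -/
def wt (u v : GV p V) (t : ZMod p) : GV p V := u ^ t.val * v ^ (-t⁻¹).val * u ^ t.val

theorem has_wt {u v : GV p V} (hu : Has U e z u 1 0 1 1) (hv : Has U e z v 1 1 0 1) {t : ZMod p} (ht : t ≠ 0) :
    Has U e z (wt u v t) 0 (-t⁻¹) t 0 := by
  have h1 := hu.pow_lower t.val
  have h2 := hv.pow_upper (-t⁻¹).val
  rw [ZMod.natCast_zmod_val] at h1 h2
  convert (h1.mul h2).mul h1 using 1 <;> first | rfl | simp [ht]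

/-- The diagonal element. -/
def torus (u v : GV p V) (t : ZMod p) : GV p V := wt u v t * wt u v (-1)

theorem has_torus {u v : GV p V} (hu : Has U e z u 1 0 1 1) (hv : Has U e z v 1 1 0 1) {t : ZMod p}
    (ht : t ≠ 0) : Has U e z (torus u v t) t⁻¹ 0 0 t := by
  convert (has_wt hu hv ht).mul (has_wt hu hv (neg_ne_zero.2 one_ne_zero)) using 1 <;> first | rfl | simp

/-- The central involution. -/
def invol (u v : GV p V) : GV p V := wt u v 1 * wt u v 1

theorem has_invol {u v : GV p V} (hu : Has U e z u 1 0 1 1) (hv : Has U e z v 1 1 0 1) :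
    Has U e z (invol u v) (-1) 0 0 (-1) := by
  convert (has_wt hu hv one_ne_zero).mul (has_wt hu hv one_ne_zero) using 1 <;> first | rfl | simp

theorem wt_mem {K : Subgroup (GV p V)} {u v : GV p V} (hu : u ∈ K) (hv : v ∈ K) (t : ZMod p) : wt u v t ∈ K :=
  mul_mem (mul_mem (pow_mem hu _) (pow_mem hv _)) (pow_mem hu _)

/-- The stabiliser of a vector. -/
def fix (x : V) : Subgroup (GV p V) where
  carrier := {g | g.1 x = x}
  one_mem' := rfl
  mul_mem' := fun {g h} (hg : g.1 x = x) (hh : h.1 x = x) => by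
    show (g * h).1 x = x
    rw [mul_apply, hh, hg]
  inv_mem' := fun {g} (hg : g.1 x = x) => by
    show (g⁻¹).1 x = x
    conv_lhs => rw [← hg, inv_apply_self]

theorem mem_fix {x : V} {g : GV p V} : g ∈ fix x ↔ g.1 x = x := Iff.rfl

end Cfsg.Agent.Lib.EssentialRankThree.Units
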